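import Cfsg.Agent.Mrg.Omega.TV.Basic

section


/-!
# THEOREM TV (3): one transvection for every centre and a hyperbolic line stabilised by a Sylow group

helper304, OMEGA / II.d (bb #13722 (3), short proof bb #14186 (4a)).  If `|T_r| = 2`, `r`, `u` are points
with `f r u = 1` and a 2-group `S` fixes `r`, stabilises `{u, r + u}` and fixes only `0` and `r` in `V`,
then `Om = {r, u, r + u}` and `V = {0, r, u, r + u}`.
-/

set_option autoImplicit false

namespace Cfsg.Agent.Omega.TV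

open Module

variable {H : Type*} [Group H] {V : Type*} [AddCommGroup V] [Module (ZMod 2) V]
  {ρ : H →* (V ≃ₗ[ZMod 2] V)} {Om : Set V} {f : V →ₗ[ZMod 2] V →ₗ[ZMod 2] ZMod 2}

namespace Frm

/-- `S` acts on `Om_0`. -/
theorem Z.act (h : Sys ρ Om) (hf : Frm ρ Om f) {r u x : V} {s : H} (hsr : ρ s r = r)
    (hsu : ρ s u = u ∨ ρ s u = r + u) (hx : Z Om f r u x) : Z Om f r u (ρ s x) := by
  have h1 : f r (ρ s x) = 0 := by
    have h2 := hf.inv s r x
    rw [hsr] at h2
    rw [h2, hx.pr]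
  refine ⟨?_, h1, ?_, ?_⟩
  · intro e
    exact hx.ne ((ρ s).map_eq_zero_iff.1 e)
  · have h2 := hf.inv s u x
    rcases hsu with e | e
    · rw [e] at h2
      rw [h2, hx.pu]
    · rw [e, map_add, LinearMap.add_apply, h1, zero_add] at h2
      rw [h2, hx.pu]
  · have h2 := h.inv s _ hx.mem
    rwa [map_add, hsr] at h2

/-- The sum of a finite set of vectors invariant under `S` is fixed by `S`. -/
theorem sum_fixed {S : Subgroup H} (A : Finset V) (hA : ∀ s ∈ S, ∀ z ∈ A, ρ s z ∈ A) :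
    ∀ s ∈ S, ρ s (∑ z ∈ A, z) = ∑ z ∈ A, z := by
  classical
  intro s hs
  have h1 : ρ s (∑ z ∈ A, z) = ∑ z ∈ A, ρ s z := map_sum _ _ _
  have h2 : A.image (fun z => ρ s z) = A := by
    refine Finset.eq_of_subset_of_card_le ?_ ?_
    · intro z hz
      obtain ⟨x, hx, rfl⟩ := Finset.mem_image.1 hz
      exact hA s hs x hx
    · rw [Finset.card_image_of_injective _ (ρ s).injective]
  rw [h1, ← Finset.sum_image (f := fun z => z) (g := fun z => ρ s z)
    (fun a _ b _ hab => (ρ s).injective hab), h2]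

section

variable {r u : V} {S : Subgroup H}

/-- **TV (3)**: `Om_0` is empty. -/
theorem no_Z [Finite V] (h : Sys ρ Om) (hf : Frm ρ Om f) (hS : IsPGroup 2 S)
    (hr : r ∈ Om) (hu : u ∈ Om) (e : f r u = 1) (hsr : ∀ s ∈ S, ρ s r = r)
    (hsu : ∀ s ∈ S, ρ s u = u ∨ ρ s u = r + u)
    (hfix : ∀ v : V, (∀ s ∈ S, ρ s v = v) → v = 0 ∨ v = r) (x : V) : ¬ Z Om f r u x := by
  classical
  intro hx
  have : Fintype V := Fintype.ofFinite V
  let A : Finset V := Finset.univ.filter fun z => Z Om f r u z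
  have hA : ∀ z, z ∈ A ↔ Z Om f r u z := fun z => by simp [A]
  have hinv : ∀ s ∈ S, ∀ z, Z Om f r u z → Z Om f r u (ρ s z) := fun s hs z hz =>
    hz.act h hf (hsr s hs) (hsu s hs)
  have hcard : (A.card : ZMod 2) = 0 := by
    let _act : MulAction S {z // Z Om f r u z} :=
      { smul := fun s z => ⟨ρ (s : H) z, hinv s s.2 z z.2⟩
        one_smul := fun z => Subtype.ext (by
          show ρ ((1 : S) : H) (z : V) = z
          rw [Subgroup.coe_one, rone])
        mul_smul := fun s t z => Subtype.ext (by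
          show ρ ((s * t : S) : H) (z : V) = ρ (s : H) (ρ (t : H) z)
          rw [Subgroup.coe_mul, rmul]) }
    have h1 := hS.card_modEq_card_fixedPoints {z // Z Om f r u z}
    have h2 : Nat.card (MulAction.fixedPoints S {z // Z Om f r u z}) = 0 := by
      rw [Nat.card_eq_zero]
      left
      refine ⟨fun z => ?_⟩
      have h3 : ∀ s ∈ S, ρ s (z : {z // Z Om f r u z}).1 = (z : {z // Z Om f r u z}).1 := fun s hs =>
        congrArg Subtype.val (z.2 ⟨s, hs⟩)
      have hz := (z : {z // Z Om f r u z}).2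
      rcases hfix _ h3 with h4 | h4
      · exact hz.ne h4
      · have h5 := hz.pu
        rw [h4, hf.comm u r, e] at h5
        exact one_ne_zero h5
    have h3 : Nat.card {z // Z Om f r u z} = A.card := by
      rw [Nat.card_eq_fintype_card, Fintype.card_subtype]
    rw [h2, h3] at h1
    exact (ZMod.natCast_eq_zero_iff _ _).2 ((Nat.modEq_zero_iff_dvd).1 h1)
  have hσ : f x (∑ z ∈ A, z) = 0 := by
    rcases hfix _ (sum_fixed (ρ := ρ) A fun s hs z hz => (hA _).2 (hinv s hs z ((hA z).1 hz))) with h1 | h1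
    · rw [h1, map_zero]
    · rw [h1, hf.comm x r, hx.pr]
  have hs1 : ∑ z ∈ A, (1 + f x z) = 0 := by
    rw [Finset.sum_add_distrib, Finset.sum_const, nsmul_eq_mul, mul_one, hcard, zero_add, ← map_sum]
    exact hσ
  have hs2 : ∑ z ∈ A.erase x, (1 + f x z) = 0 := by
    refine Finset.sum_involution (fun z _ => if f x z = 0 then x + z else z) ?_ ?_ ?_ ?_
    · intro z hz
      by_cases h0 : f x z = 0
      · simp only [if_pos h0, map_add, hf.alt, zero_add]
        exact z2_add_self _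
      · simp only [if_neg h0]
        exact z2_add_self _
    · intro z hz hne
      have h0 : f x z = 0 := by
        by_contra h0
        rw [z2_ne_zero h0] at hne
        exact hne (z2_add_self 1)
      simp only [if_pos h0]
      intro e'
      exact hx.ne (by simpa using e')
    · intro z hz
      rw [Finset.mem_erase] at hz
      by_cases h0 : f x z = 0
      · simp only [if_pos h0]
        rw [Finset.mem_erase]
        refine ⟨?_, (hA _).2 (hx.add h hf hr hu e ((hA _).1 hz.2) h0 hz.1.symm)⟩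
        intro e'
        exact ((hA _).1 hz.2).ne (by simpa using e')
      · simp only [if_neg h0]
        rw [Finset.mem_erase]
        exact hz
    · intro z hz
      by_cases h0 : f x z = 0
      · simp only [if_pos h0, map_add, hf.alt, zero_add, self_add_add]
      · simp only [if_neg h0]
  rw [← Finset.add_sum_erase A (fun z => 1 + f x z) ((hA x).2 hx), hs2, hf.alt, add_zero, add_zero] at hs1
  exact one_ne_zero hs1

/-- Points not orthogonal to the line lie on it. -/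
theorem eq_or_perp (h : Sys ρ Om) (hf : Frm ρ Om f) (hr : r ∈ Om) (hu : u ∈ Om) (e : f r u = 1)
    (hno : ∀ x, ¬ Z Om f r u x) {w : V} (hw : w ∈ Om) :
    w = r ∨ w = u ∨ w = r + u ∨ (f r w = 0 ∧ f u w = 0) := by
  have e' : f u r = 1 := by rw [hf.comm, e]
  rcases z2 (f u w) with a | a <;> rcases z2 (f r w) with b | b
  · exact Or.inr (Or.inr (Or.inr ⟨b, a⟩))
  · by_cases h0 : u + w = 0
    · exact Or.inr (Or.inl (v_eq_of_add h0).symm)
    · exact absurd (Z.of_memu h hf hr hu e h0 (by rw [map_add, e, b, z2_add_self])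
        (by rw [map_add, hf.alt, a, add_zero]) (by rw [self_add_add]; exact hw)) (hno _)
  · by_cases h0 : r + w = 0
    · exact Or.inl (v_eq_of_add h0).symm
    · exact absurd ⟨h0, by rw [map_add, hf.alt, b, add_zero], by rw [map_add, e', a, z2_add_self],
        by rw [self_add_add]; exact hw⟩ (hno _)
  · by_cases h0 : r + (u + w) = 0
    · refine Or.inr (Or.inr (Or.inl ?_))
      rw [← add_assoc] at h0
      exact (v_eq_of_add h0).symm
    · refine absurd ⟨h0, by rw [map_add, map_add, hf.alt, e, b, z2_add_self, add_zero],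
        by rw [map_add, map_add, e', hf.alt, a, zero_add, z2_add_self], ?_⟩ (hno _)
      rw [self_add_add]
      exact hf.add_mem h hu hw a

/-- The class of `r` is the line. -/
theorem eq_of_near (h : Sys ρ Om) (hf : Frm ρ Om f) (hr : r ∈ Om) (hu : u ∈ Om) (e : f r u = 1)
    (hno : ∀ x, ¬ Z Om f r u x) {w : V} (hw : w ∈ Om) (hn : Sys.Near ρ Om r w) :
    w = r ∨ w = u ∨ w = r + u := by
  obtain ⟨v, hv, h1, h2⟩ := hn
  rw [hf.adj_iff hr] at h1
  rw [hf.adj_iff hv] at h2
  rcases hf.eq_or_perp h hr hu e hno hw with h3 | h3 | h3 | ⟨h3, h4⟩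
  · exact Or.inl h3
  · exact Or.inr (Or.inl h3)
  · exact Or.inr (Or.inr h3)
  · exfalso
    rcases hf.eq_or_perp h hr hu e hno hv with h5 | h5 | h5 | ⟨h5, _⟩
    · rw [h5, h3] at h2; exact zero_ne_one h2
    · rw [h5, h4] at h2; exact zero_ne_one h2
    · rw [h5, map_add, LinearMap.add_apply, h3, h4, add_zero] at h2; exact zero_ne_one h2
    · rw [h5] at h1; exact zero_ne_one h1

theorem clo_of_no_Z [Finite V] (h : Sys ρ Om) (hf : Frm ρ Om f) (hr : r ∈ Om) (hu : u ∈ Om)
    (e : f r u = 1) (hno : ∀ x, ¬ Z Om f r u x) : Sys.Clo ρ Om := by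
  refine h.clo_of fun b hb c hc hn hne => ?_
  obtain ⟨g, hg⟩ := h.trans r hr b hb
  have hm : ρ g⁻¹ c ∈ Om := h.inv _ c hc
  have hn' : Sys.Near ρ Om r (ρ g⁻¹ c) := by
    have h1 := Sys.Near.conj h hn g⁻¹
    rwa [← hg, rinv] at h1
  have hru : r + u ∈ Om := hf.add_mem h hr hu e
  have hkey : r + ρ g⁻¹ c ∈ Om := by
    rcases hf.eq_of_near h hr hu e hno hm hn' with h1 | h1 | h1
    · exfalso
      apply hne
      rw [← hg, ← h1, rinv']
    · rw [h1]; exact hru
    · rw [h1, self_add_add]; exact hu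
  have h2 := h.inv g _ hkey
  rwa [map_add, hg, rinv'] at h2

/-- **TV (3)**: there are exactly three points. -/
theorem three [Finite V] (h : Sys ρ Om) (hf : Frm ρ Om f) (hS : IsPGroup 2 S)
    (hr : r ∈ Om) (hu : u ∈ Om) (e : f r u = 1) (hsr : ∀ s ∈ S, ρ s r = r)
    (hsu : ∀ s ∈ S, ρ s u = u ∨ ρ s u = r + u)
    (hfix : ∀ v : V, (∀ s ∈ S, ρ s v = v) → v = 0 ∨ v = r) {w : V} (hw : w ∈ Om) :
    w = r ∨ w = u ∨ w = r + u := by
  have hno := hf.no_Z h hS hr hu e hsr hsu hfix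
  exact hf.eq_of_near h hr hu e hno hw
    (h.near_all (hf.clo_of_no_Z h hr hu e hno) hS hr hfix w hw)

/-- **TV (3)**: `V = {0, r, u, r + u}`. -/
theorem four [Finite V] (h : Sys ρ Om) (hf : Frm ρ Om f) (hS : IsPGroup 2 S)
    (hr : r ∈ Om) (hu : u ∈ Om) (e : f r u = 1) (hsr : ∀ s ∈ S, ρ s r = r)
    (hsu : ∀ s ∈ S, ρ s u = u ∨ ρ s u = r + u)
    (hfix : ∀ v : V, (∀ s ∈ S, ρ s v = v) → v = 0 ∨ v = r) (w : V) :
    w = 0 ∨ w = r ∨ w = u ∨ w = r + u := by
  have hno := hf.no_Z h hS hr hu e hsr hsu hfix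
  have hc := hf.clo_of_no_Z h hr hu e hno
  by_cases hw : w = 0
  · exact Or.inl hw
  · exact Or.inr (hf.three h hS hr hu e hsr hsu hfix
      (h.all_mem hc hr (h.near_all hc hS hr hfix) hw))

end

end Frm

/-- **TV (3)**, from `Small`: the line is given by an induced transvection with centre `r` moving `u`. -/
theorem Sys.four [Finite V] (h : Sys ρ Om) (hs : Sys.Small ρ Om) {S : Subgroup H} (hS : IsPGroup 2 S)
    {r u : V} (hr : r ∈ Om) (hu : u ∈ Om) (ha : Adj ρ r u) (hsr : ∀ s ∈ S, ρ s r = r)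
    (hsu : ∀ s ∈ S, ρ s u = u ∨ ρ s u = r + u)
    (hfix : ∀ v : V, (∀ s ∈ S, ρ s v = v) → v = 0 ∨ v = r) (w : V) :
    w = 0 ∨ w = r ∨ w = u ∨ w = r + u := by
  obtain ⟨f, hf⟩ := h.exists_form hs
  exact hf.four h hS hr hu ((hf.adj_iff hr).1 ha) hsr hsu hfix w

end Cfsg.Agent.Omega.TV

end

section


/-!
# (B1): the lift of THEOREM TV through a fixed vector; the quadratic form

helper304, OMEGA / II.d (bb #12430 (B1), #13722 USE).  `π : N → V` is the quotient by a fixed vector `c`,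
`OmN` an orbit of `H` in `N` spanning `N` and mapped bijectively onto the set of points `Om` of `V`; all
points are in one class.  If `r`, `p`, `r + p` are in `OmN`, and some nontrivial induced transvection of `V`
with centre `π r` kills `π p`, then every centre has exactly one nontrivial transvection, with invariant
nondegenerate alternating form `f`, and the function `Q` (`0` on `OmN ∪ {0}`, `1` elsewhere) is a quadratic
form with polar form `f`, `Q c = 1`.  The transvection with centre `r` acts on `N` as the reflection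
`n ↦ n + f (π r) (π n) • (r + c)`.
-/

set_option autoImplicit false

namespace Cfsg.Agent.Omega.TV

open Module

variable {H : Type*} [Group H] {V : Type*} [AddCommGroup V] [Module (ZMod 2) V]
  {N : Type*} [AddCommGroup N] [Module (ZMod 2) N]
  {ρN : H →* (N ≃ₗ[ZMod 2] N)} {ρ : H →* (V ≃ₗ[ZMod 2] V)} {π : N →ₗ[ZMod 2] V}
  {OmN : Set N} {c : N}

/-- The setting of (B1). -/
structure Lft (ρN : H →* (N ≃ₗ[ZMod 2] N)) (ρ : H →* (V ≃ₗ[ZMod 2] V)) (π : N →ₗ[ZMod 2] V)
    (OmN : Set N) (c : N) : Prop where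
  equi : ∀ (g : H) (n : N), π (ρN g n) = ρ g (π n)
  ker : ∀ n, π n = 0 → n = 0 ∨ n = c
  kc : π c = 0
  inv : ∀ (g : H), ∀ z ∈ OmN, ρN g z ∈ OmN
  ns : ∀ z ∈ OmN, z + c ∉ OmN
  span : Submodule.span (ZMod 2) OmN = ⊤
  sys : Sys ρ (π '' OmN)
  clo : Sys.Clo ρ (π '' OmN)
  near : ∀ v ∈ π '' OmN, ∀ w ∈ π '' OmN, Sys.Near ρ (π '' OmN) v w

/-- The function `0` on `OmN ∪ {0}` and `1` elsewhere. -/
noncomputable def Qf (OmN : Set N) (n : N) : ZMod 2 :=
  open Classical in if n = 0 ∨ n ∈ OmN then 0 else 1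

/-- The polar function of `Qf`. -/
noncomputable def Bf (OmN : Set N) (n m : N) : ZMod 2 := Qf OmN (n + m) + Qf OmN n + Qf OmN m

theorem Qf_eq_zero {n : N} : Qf OmN n = 0 ↔ n = 0 ∨ n ∈ OmN := by
  unfold Qf
  split_ifs with h <;> simp [h]

theorem Qf_zero : Qf OmN 0 = 0 := Qf_eq_zero.2 (Or.inl rfl)

theorem Qf_of_mem {n : N} (h : n ∈ OmN) : Qf OmN n = 0 := Qf_eq_zero.2 (Or.inr h)

theorem Bf_comm (n m : N) : Bf OmN n m = Bf OmN m n := by
  unfold Bf
  rw [add_comm n m]
  ring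

theorem Bf_cocycle (n m k : N) :
    Bf OmN n m + Bf OmN (n + m) k = Bf OmN m k + Bf OmN n (m + k) := by
  unfold Bf
  rw [add_assoc n m k]
  have e1 := z2_add_self (Qf OmN (n + m))
  have e2 := z2_add_self (Qf OmN (m + k))
  linear_combination e1 - e2

namespace Lft

variable (L : Lft ρN ρ π OmN c)

include L

theorem exists_mem : ∃ z, z ∈ OmN := by
  obtain ⟨_, ⟨z, hz, _⟩, _⟩ := L.sys.ex
  exact ⟨z, hz⟩

theorem c_ne : c ≠ 0 := by
  intro e
  obtain ⟨z, hz⟩ := L.exists_mem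
  apply L.ns z hz
  rwa [e, add_zero]

theorem π_ne {z : N} (hz : z ∈ OmN) : π z ≠ 0 := L.sys.ne_zero ⟨z, hz, rfl⟩

theorem ne_zero {z : N} (hz : z ∈ OmN) : z ≠ 0 := by
  rintro rfl
  exact L.π_ne hz (map_zero π)

theorem c_notMem : c ∉ OmN := fun h => L.π_ne h L.kc

theorem eq_of_π {n m : N} (h : π n = π m) : n = m ∨ n = m + c := by
  have h1 : π (n + m) = 0 := by rw [map_add, h, v_add_self]
  rcases L.ker _ h1 with h2 | h2
  · exact Or.inl (v_eq_of_add h2)
  · right
    rw [← h2, add_comm n m, self_add_add]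

theorem inj {z z' : N} (hz : z ∈ OmN) (hz' : z' ∈ OmN) (h : π z = π z') : z = z' := by
  rcases L.eq_of_π h with h1 | h1
  · exact h1
  · exact absurd (h1 ▸ hz) (L.ns z' hz')

theorem Q_c : Qf OmN c = 1 := by
  refine z2_ne_zero fun h => ?_
  rcases Qf_eq_zero.1 h with h1 | h1
  · exact L.c_ne h1
  · exact L.c_notMem h1

theorem Q_inv (g : H) (n : N) : Qf OmN (ρN g n) = Qf OmN n := by
  have h1 : ∀ (g : H) (n : N), Qf OmN n = 0 → Qf OmN (ρN g n) = 0 := by
    intro g n h
    rcases Qf_eq_zero.1 h with h1 | h1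
    · rw [h1, map_zero]; exact Qf_zero
    · exact Qf_of_mem (L.inv g n h1)
  rcases z2 (Qf OmN n) with h | h
  · rw [h]; exact h1 g n h
  · rw [h]
    refine z2_ne_zero fun h2 => ?_
    have h3 := h1 g⁻¹ _ h2
    rw [rinv, h] at h3
    exact one_ne_zero h3

theorem B_inv (g : H) (n m : N) : Bf OmN (ρN g n) (ρN g m) = Bf OmN n m := by
  unfold Bf
  rw [← map_add, L.Q_inv, L.Q_inv, L.Q_inv]

variable [Finite V]

theorem all {v : V} (hv : v ≠ 0) : v ∈ π '' OmN := by
  obtain ⟨z, hz⟩ := L.exists_mem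
  exact L.sys.all_mem L.clo (r := π z) ⟨z, hz, rfl⟩ (fun w hw => L.near _ ⟨z, hz, rfl⟩ w hw) hv

theorem Q_add_c (n : N) : Qf OmN (n + c) = Qf OmN n + 1 := by
  by_cases h0 : π n = 0
  · rcases L.ker n h0 with h1 | h1
    · rw [h1, zero_add, L.Q_c, Qf_zero, zero_add]
    · rw [h1, v_add_self, Qf_zero, L.Q_c]
      exact (z2_add_self 1).symm
  · obtain ⟨z, hz, hzn⟩ := L.all h0
    rcases L.eq_of_π hzn.symm with h1 | h1
    · rw [h1, Qf_of_mem hz, zero_add]
      refine z2_ne_zero fun h2 => ?_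
      rcases Qf_eq_zero.1 h2 with h3 | h3
      · apply L.π_ne hz
        have h4 := congrArg π h3
        rwa [map_add, L.kc, add_zero, map_zero] at h4
      · exact L.ns z hz h3
    · rw [h1, add_add_self, Qf_of_mem hz]
      have h2 : Qf OmN (z + c) = 1 := by
        refine z2_ne_zero fun h2 => ?_
        rcases Qf_eq_zero.1 h2 with h3 | h3
        · apply L.π_ne hz
          have h4 := congrArg π h3
          rwa [map_add, L.kc, add_zero, map_zero] at h4
        · exact L.ns z hz h3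
      rw [h2]
      exact (z2_add_self 1).symm

theorem Q_add_smul (n : N) (a : ZMod 2) : Qf OmN (n + a • c) = Qf OmN n + a := by
  rcases z2 a with rfl | rfl
  · rw [zero_smul, add_zero, add_zero]
  · rw [one_smul, L.Q_add_c]

theorem B_add_c (n m : N) : Bf OmN (n + c) m = Bf OmN n m := by
  unfold Bf
  have e : n + c + m = n + m + c := by abel
  rw [e, L.Q_add_c, L.Q_add_c]
  linear_combination z2_add_self 1

/-- `Bf` depends only on the images in `V`. -/
theorem B_congr {n n' m m' : N} (h : π n = π n') (h' : π m = π m') : Bf OmN n m = Bf OmN n' m' := by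
  have e1 : Bf OmN n m = Bf OmN n' m := by
    rcases L.eq_of_π h with e | e
    · rw [e]
    · rw [e, L.B_add_c]
  have e2 : Bf OmN n' m = Bf OmN n' m' := by
    rcases L.eq_of_π h' with e | e
    · rw [e]
    · rw [e, Bf_comm, L.B_add_c, Bf_comm]
  rw [e1, e2]

/-- The elements inducing transvections of `V`. -/
theorem exists_a {r : N} (hr : r ∈ OmN) {φ : Dual (ZMod 2) V} {g : H}
    (hg : ∀ x, ρ g x = x + φ x • π r) :
    ∃ a : ZMod 2, ∀ n, ρN g n = n + φ (π n) • (r + a • c) := by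
  have h0 : ∀ n, φ (π n) = 0 → ρN g n = n := by
    intro n hn
    have h1 : π (ρN g n) = π n := by rw [L.equi, hg, hn, zero_smul, add_zero]
    rcases L.eq_of_π h1 with h2 | h2
    · exact h2
    · exfalso
      have h3 := L.Q_inv g n
      rw [h2, L.Q_add_c] at h3
      have h4 : (1 : ZMod 2) = 0 := by linear_combination h3
      exact one_ne_zero h4
  by_cases hφ : ∃ n, φ (π n) = 1
  · obtain ⟨n₁, hn₁⟩ := hφ
    have h1 : π (ρN g n₁ ) = π (n₁ + r) := by rw [L.equi, hg, hn₁, one_smul, map_add]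
    obtain ⟨a, ha⟩ : ∃ a : ZMod 2, ρN g n₁ = n₁ + r + a • c := by
      rcases L.eq_of_π h1 with h2 | h2
      · exact ⟨0, by rw [h2, zero_smul, add_zero]⟩
      · exact ⟨1, by rw [h2, one_smul]⟩
    refine ⟨a, fun n => ?_⟩
    rcases z2 (φ (π n)) with h2 | h2
    · rw [h0 n h2, h2, zero_smul, add_zero]
    · have h3 : φ (π (n + n₁)) = 0 := by rw [map_add, map_add, h2, hn₁]; exact z2_add_self 1
      have h4 := h0 _ h3
      rw [map_add, ha] at h4
      rw [h2, one_smul]
      have h5 : ρN g n = n + n₁ + (n₁ + r + a • c) := by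
        rw [← h4, add_add_self]
      rw [h5]
      calc n + n₁ + (n₁ + r + a • c) = n + (r + a • c) + (n₁ + n₁) := by abel
        _ = n + (r + a • c) := by rw [v_add_self, add_zero]
  · push Not at hφ
    refine ⟨0, fun n => ?_⟩
    have h1 := z2_ne_one (hφ n)
    rw [h0 n h1, h1, zero_smul, add_zero]

/-- For every induced transvection with centre `π r`, `Bf · r` is constant on the moved vectors. -/
theorem exists_const {r : N} (hr : r ∈ OmN) {φ : Dual (ZMod 2) V} (hφ : Fn ρ (π r) φ) :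
    ∃ a : ZMod 2, ∀ n, φ (π n) = 1 → Bf OmN n r = a := by
  obtain ⟨_, g, hg⟩ := hφ
  obtain ⟨a, ha⟩ := L.exists_a hr hg
  refine ⟨a, fun n hn => ?_⟩
  have h1 := L.Q_inv g n
  rw [ha n, hn, one_smul, ← add_assoc, L.Q_add_smul] at h1
  unfold Bf
  rw [Qf_of_mem hr]
  have e := z2_add_self (Qf OmN n)
  have e' := z2_add_self a
  linear_combination h1 + e - e'

/-- If `Bf` vanishes on `OmN`, then `OmN ∪ {0}` is a subspace: impossible. -/
theorem not_flat (h : ∀ z ∈ OmN, ∀ z' ∈ OmN, Bf OmN z z' = 0) : False := by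
  let W : Submodule (ZMod 2) N :=
    { carrier := {n | Qf OmN n = 0}
      zero_mem' := Qf_zero
      add_mem' := by
        intro a b ha hb
        show Qf OmN (a + b) = 0
        rcases Qf_eq_zero.1 ha with rfl | ha'
        · rw [zero_add]; exact hb
        · rcases Qf_eq_zero.1 hb with rfl | hb'
          · rw [add_zero]; exact ha
          · have h1 := h a ha' b hb'
            unfold Bf at h1
            rw [Qf_of_mem ha', Qf_of_mem hb', add_zero, add_zero] at h1
            exact h1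
      smul_mem' := by
        intro k x hx
        rcases z2 k with rfl | rfl
        · rw [zero_smul]; exact Qf_zero
        · rwa [one_smul] }
  have h1 : Submodule.span (ZMod 2) OmN ≤ W := Submodule.span_le.2 fun z hz => Qf_of_mem hz
  have h2 : c ∈ W := h1 (by rw [L.span]; trivial)
  have h3 : Qf OmN c = 0 := h2
  rw [L.Q_c] at h3
  exact one_ne_zero h3

/-- Transitivity on `OmN`. -/
theorem trans {z z' : N} (hz : z ∈ OmN) (hz' : z' ∈ OmN) : ∃ g : H, ρN g z = z' := by
  obtain ⟨g, hg⟩ := L.sys.trans (π z) ⟨z, hz, rfl⟩ (π z') ⟨z', hz', rfl⟩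
  exact ⟨g, L.inj (L.inv g z hz) hz' (by rw [L.equi, hg])⟩

/-- (B1), two nontrivial transvections with the same centre: impossible. -/
theorem not_big (hb : Sys.Big ρ (π '' OmN)) {r p : N} (hr : r ∈ OmN) (hp : p ∈ OmN)
    (hrp : r + p ∈ OmN) : False := by
  have hadj : ∀ v ∈ π '' OmN, ∀ w ∈ π '' OmN, v ≠ w → Adj ρ v w := fun v hv w hw hne =>
    L.sys.adj_of_near hb hv hw hne (L.near v hv w hw)
  have hr0 : ∀ n, π n ≠ 0 → π n ≠ π r → Bf OmN n r = 0 := by
    intro n h1 h2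
    have hrm : π r ∈ π '' OmN := ⟨r, hr, rfl⟩
    have hpr : π p ≠ π r := by
      intro e
      apply L.ne_zero hrp
      rw [L.inj hp hr e, v_add_self]
    obtain ⟨φ, hφ, e1⟩ := hadj _ hrm _ (L.all h1) h2.symm
    obtain ⟨ψ, hψ, e2⟩ := hadj _ hrm _ ⟨p, hp, rfl⟩ hpr.symm
    have hkey : ∃ χ, Fn ρ (π r) χ ∧ χ (π n) = 1 ∧ χ (π p) = 1 := by
      by_cases e3 : φ (π p) = 1
      · exact ⟨φ, hφ, e1, e3⟩
      by_cases e4 : ψ (π n) = 1
      · exact ⟨ψ, hψ, e4, e2⟩
      refine ⟨φ + ψ, hφ.add hψ, ?_, ?_⟩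
      · rw [LinearMap.add_apply, e1, z2_ne_one e4, add_zero]
      · rw [LinearMap.add_apply, e2, z2_ne_one e3, zero_add]
    obtain ⟨χ, hχ, e5, e6⟩ := hkey
    obtain ⟨a, ha⟩ := L.exists_const hr hχ
    rw [ha n e5, ← ha p e6]
    unfold Bf
    rw [add_comm p r, Qf_of_mem hrp, Qf_of_mem hp, Qf_of_mem hr, add_zero, add_zero]
  refine L.not_flat fun z hz z' hz' => ?_
  by_cases hne : z = z'
  · subst hne
    unfold Bf
    rw [v_add_self, Qf_zero, Qf_of_mem hz, add_zero, add_zero]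
  · obtain ⟨g, hg⟩ := L.trans hr hz'
    have h1 := L.B_inv g (ρN g⁻¹ z) r
    rw [rinv', hg] at h1
    rw [h1]
    have hm : ρN g⁻¹ z ∈ OmN := L.inv _ z hz
    refine hr0 _ (L.π_ne hm) fun e => hne ?_
    have h2 := L.inj hm hr e
    rw [← hg, ← h2, rinv']

end Lft

/-- Two functionals on a subspace. -/
theorem exists_both {W : Type*} [AddCommGroup W] [Module (ZMod 2) W] {α β : Dual (ZMod 2) W}
    {P : W → Prop} (hP : ∀ x y, P x → P y → P (x + y)) (hα : ∃ x, P x ∧ α x = 1)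
    (hβ : ∃ x, P x ∧ β x = 1) : ∃ x, P x ∧ α x = 1 ∧ β x = 1 := by
  obtain ⟨x, hx, h1⟩ := hα
  obtain ⟨y, hy, h2⟩ := hβ
  by_cases h3 : β x = 1
  · exact ⟨x, hx, h1, h3⟩
  by_cases h4 : α y = 1
  · exact ⟨y, hy, h4, h2⟩
  exact ⟨x + y, hP x y hx hy, by rw [map_add, h1, z2_ne_one h4, add_zero],
    by rw [map_add, h2, z2_ne_one h3, zero_add]⟩

namespace Frm

variable {f : V →ₗ[ZMod 2] V →ₗ[ZMod 2] ZMod 2} {Om : Set V}

/-- A vector `x` outside `{0, y}` is not orthogonal to `y^⊥`. -/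
theorem exists_perp (hnd : ∀ x, f x = 0 → x = 0) {x y : V} (hx : x ≠ 0) (hxy : x ≠ y) :
    ∃ z, f y z = 0 ∧ f x z = 1 := by
  by_contra hcon
  push Not at hcon
  have h0 : ∀ z, f y z = 0 → f x z = 0 := fun z hz => z2_ne_one (hcon z hz)
  by_cases hy : ∃ z₀, f y z₀ = 1
  · obtain ⟨z₀, hz₀⟩ := hy
    have h1 : ∀ z, f x z = f y z * f x z₀ := by
      intro z
      rcases z2 (f y z) with e | e
      · rw [e, zero_mul, h0 z e]
      · have h2 := h0 (z + z₀) (by rw [map_add, e, hz₀]; exact z2_add_self 1)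
        rw [map_add] at h2
        rw [e, one_mul]
        have h3 := z2_add_self (f x z₀)
        linear_combination h2 - h3
    rcases z2 (f x z₀) with e | e
    · apply hx
      refine hnd x (LinearMap.ext fun z => ?_)
      rw [h1, e, mul_zero]
      rfl
    · apply hxy
      have h2 : f (x + y) = 0 := LinearMap.ext fun z => by
        rw [map_add, LinearMap.add_apply, h1 z, e, mul_one]
        exact z2_add_self _
      exact v_eq_of_add (hnd _ h2)
  · push Not at hy
    apply hx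
    refine hnd x (LinearMap.ext fun z => ?_)
    exact h0 z (z2_ne_one (hy z))

end Frm

namespace Lft

variable (L : Lft ρN ρ π OmN c) [Finite V] {f : V →ₗ[ZMod 2] V →ₗ[ZMod 2] ZMod 2}

include L

/-- The form is nondegenerate. -/
theorem nondeg (hf : Frm ρ (π '' OmN) f) (x : V) (hx : f x = 0) : x = 0 := by
  by_contra h
  exact hf.ne x (L.all h) hx

/-- (B1), one nontrivial transvection for every centre: the polar function is the form. -/
theorem B_eq (hf : Frm ρ (π '' OmN) f) {r p : N} (hr : r ∈ OmN) (hp : p ∈ OmN)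
    (hrp : r + p ∈ OmN) (h0 : f (π r) (π p) = 0) (n m : N) :
    Bf OmN n m = f (π n) (π m) := by
  have hnd := L.nondeg hf
  -- the constant for `f = 1`
  obtain ⟨a, ha⟩ := L.exists_const hr (hf.fn (π r) ⟨r, hr, rfl⟩)
  have h1 : ∀ z ∈ OmN, ∀ n, f (π z) (π n) = 1 → Bf OmN n z = a := by
    intro z hz n hn
    obtain ⟨g, hg⟩ := L.trans hr hz
    have e1 := L.B_inv g (ρN g⁻¹ n) r
    rw [rinv', hg] at e1
    rw [e1]
    apply ha
    have e2 := hf.inv g (π r) (π (ρN g⁻¹ n))
    rw [← L.equi, ← L.equi, rinv', hg, hn] at e2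
    exact e2.symm
  have h1' : ∀ n m, f (π n) (π m) = 1 → Bf OmN n m = a := by
    intro n m hnm
    have hm : π m ≠ 0 := by
      intro e
      rw [e, map_zero] at hnm
      exact zero_ne_one hnm
    obtain ⟨z, hz, hzm⟩ := L.all hm
    rw [L.B_congr (rfl : π n = π n) hzm.symm]
    exact h1 z hz n (by rw [hf.comm, hzm, hnm])
  have hcoc : ∀ x y z, Bf OmN x y + Bf OmN (x + y) z = Bf OmN y z + Bf OmN x (y + z) := Bf_cocycle
  -- pairs with `f = 0`: adjacency
  have h2 : ∀ x y z : N, f (π x) (π y) = 0 → f (π y) (π z) = 0 → f (π x) (π z) = 1 →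
      Bf OmN x y = Bf OmN z y := by
    intro x y z e1 e2 e3
    have e4 := hcoc x y z
    rw [h1' (x + y) z (by rw [map_add, map_add, LinearMap.add_apply, e3, e2, add_zero]),
      h1' x (y + z) (by rw [map_add, map_add, e1, e3, zero_add])] at e4
    rw [Bf_comm z y]
    exact add_right_cancel e4
  have h3 : ∀ x x' y : N, π x ≠ 0 → π x ≠ π y → π x' ≠ 0 → π x' ≠ π y → f (π x) (π y) = 0 →
      f (π x') (π y) = 0 → Bf OmN x y = Bf OmN x' y := by
    intro x x' y e1 e2 e3 e4 e5 e6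
    obtain ⟨z, hz, hz1, hz2⟩ := exists_both (α := f (π x)) (β := f (π x')) (P := fun z => f (π y) z = 0)
      (fun u v hu hv => by rw [map_add, hu, hv, add_zero]) (Frm.exists_perp hnd e1 e2)
      (Frm.exists_perp hnd e3 e4)
    have hz0 : z ≠ 0 := by
      rintro rfl
      rw [map_zero] at hz1
      exact zero_ne_one hz1
    obtain ⟨z', _, rfl⟩ := L.all hz0
    rw [h2 x y z' e5 hz hz1, h2 x' y z' e6 hz hz2]
  have hpr : π p ≠ π r := by
    intro e
    apply L.ne_zero hrp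
    rw [L.inj hp hr e, v_add_self]
  have hB0 : Bf OmN p r = 0 := by
    unfold Bf
    rw [add_comm p r, Qf_of_mem hrp, Qf_of_mem hp, Qf_of_mem hr, add_zero, add_zero]
  have h4 : ∀ z ∈ OmN, ∀ n, π n ≠ 0 → π n ≠ π z → f (π n) (π z) = 0 → Bf OmN n z = 0 := by
    intro z hz n e1 e2 e3
    obtain ⟨g, hg⟩ := L.trans hr hz
    have e4 := L.B_inv g (ρN g⁻¹ n) r
    rw [rinv', hg] at e4
    rw [e4, ← hB0]
    have hπ : π n = ρ g (π (ρN g⁻¹ n)) := by rw [← L.equi, rinv']
    have hz' : π z = ρ g (π r) := by rw [← L.equi, hg]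
    refine h3 _ _ _ ?_ ?_ (L.π_ne hp) hpr ?_ (by rw [hf.comm, h0])
    · intro e
      apply e1
      rw [hπ, e, map_zero]
    · intro e
      apply e2
      rw [hπ, hz', e]
    · have e5 := hf.inv g (π (ρN g⁻¹ n)) (π r)
      rw [← hπ, ← hz', e3] at e5
      exact e5.symm
  have h5 : ∀ n m, f (π n) (π m) = 0 → Bf OmN n m = 0 := by
    intro n m e
    by_cases hm : π m = 0
    · rw [L.B_congr (rfl : π n = π n) (show π m = π 0 by rw [hm, map_zero])]
      unfold Bf
      rw [add_zero, Qf_zero, add_zero]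
      exact z2_add_self _
    by_cases hn : π n = 0
    · rw [L.B_congr (show π n = π 0 by rw [hn, map_zero]) (rfl : π m = π m)]
      unfold Bf
      rw [zero_add, Qf_zero, add_zero]
      exact z2_add_self _
    obtain ⟨z, hz, hzm⟩ := L.all hm
    rw [L.B_congr (rfl : π n = π n) hzm.symm]
    by_cases hnm : π n = π z
    · rw [L.B_congr hnm (rfl : π z = π z)]
      unfold Bf
      rw [v_add_self, Qf_zero, Qf_of_mem hz, add_zero, add_zero]
    · exact h4 z hz n hn hnm (by rw [hzm, e])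
  rcases z2 a with rfl | rfl
  · exfalso
    refine L.not_flat fun z _ z' _ => ?_
    rcases z2 (f (π z) (π z')) with e | e
    · exact h5 z z' e
    · exact h1' z z' e
  · rcases z2 (f (π n) (π m)) with e | e
    · rw [e]; exact h5 n m e
    · rw [e]; exact h1' n m e

/-- **(B1)**: `Q` is a quadratic form with polar form `f`. -/
theorem Q_add (hf : Frm ρ (π '' OmN) f) {r p : N} (hr : r ∈ OmN) (hp : p ∈ OmN)
    (hrp : r + p ∈ OmN) (h0 : f (π r) (π p) = 0) (n m : N) :
    Qf OmN (n + m) = Qf OmN n + Qf OmN m + f (π n) (π m) := by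
  have h1 := L.B_eq hf hr hp hrp h0 n m
  unfold Bf at h1
  have e1 := z2_add_self (Qf OmN n)
  have e2 := z2_add_self (Qf OmN m)
  linear_combination h1 - e1 - e2

/-- The transvection of `V` with centre `π z` is induced on `N` by a reflection. -/
theorem exists_refl (hf : Frm ρ (π '' OmN) f) {r p : N} (hr : r ∈ OmN) (hp : p ∈ OmN)
    (hrp : r + p ∈ OmN) (h0 : f (π r) (π p) = 0) {z : N} (hz : z ∈ OmN) {g : H}
    (hg : ∀ x, ρ g x = x + f (π z) x • π z) (n : N) :
    ρN g n = n + f (π z) (π n) • (z + c) := by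
  obtain ⟨a, ha⟩ := L.exists_a hz hg
  have h1 : a = 1 := by
    obtain ⟨x, hx⟩ : ∃ x, f (π z) x = 1 := by
      by_contra hcon
      push Not at hcon
      exact hf.ne _ ⟨z, hz, rfl⟩ (LinearMap.ext fun x => z2_ne_one (hcon x))
    have hx0 : x ≠ 0 := by
      rintro rfl
      rw [map_zero] at hx
      exact zero_ne_one hx
    obtain ⟨m, hm, rfl⟩ := L.all hx0
    have h2 := L.Q_inv g m
    rw [ha m, hx, one_smul, ← add_assoc, L.Q_add_smul, L.Q_add hf hr hp hrp h0, Qf_of_mem hm,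
      Qf_of_mem hz, hf.comm, hx] at h2
    refine z2_ne_zero fun e => ?_
    rw [e] at h2
    exact absurd h2 (by decide)
  rw [ha n, h1, one_smul]

end Lft

end Cfsg.Agent.Omega.TV

end

section


/-!
# (B1): the orthogonal module

helper304, OMEGA / II.d.  `H` acts on the `𝔽₂`-space `N`, `OmN` is the orbit of `r`, spanning `N`, `c ≠ 0`
is fixed by `H`, a Sylow 2-subgroup `T` of `H` fixes `r` and has fixed vectors `0, c, r, r + c` only; some
`t₀` acts nontrivially with `[N, t₀] ≤ {0, c, r, r + c}` and fixes a point `p` such that `r + p` is a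
point.  Then `N` carries a quadratic form: `Qf OmN`, with radical `{0, c}`.
-/

set_option autoImplicit false

namespace Cfsg.Agent.Omega.TV

open Module

section general

variable {H : Type*} [Group H] [Finite H] {N : Type*} [AddCommGroup N] [Module (ZMod 2) N]

/-- `K` normal, `K/F` a 2-group: `K ≤ T F` for every Sylow 2-subgroup `T`. -/
theorem exists_mem_sylow (T : Sylow 2 H) {K F : Subgroup H} (hK : K.Normal) [hF : F.Normal]
    (hp : ∀ k ∈ K, ∃ m : ℕ, k ^ 2 ^ m ∈ F) {k : H} (hk : k ∈ K) : ∃ t ∈ T, t⁻¹ * k ∈ F := by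
  have : Fact (Nat.Prime 2) := ⟨Nat.prime_two⟩
  have hKn : (K.map (QuotientGroup.mk' F)).Normal :=
    hK.map _ (QuotientGroup.mk'_surjective F)
  have hKp : IsPGroup 2 (K.map (QuotientGroup.mk' F)) := by
    rintro ⟨x, hx⟩
    obtain ⟨k, hk, rfl⟩ := hx
    obtain ⟨m, hm⟩ := hp k hk
    refine ⟨m, Subtype.ext ?_⟩
    rw [SubmonoidClass.coe_pow, Subgroup.coe_one]
    show QuotientGroup.mk' F k ^ 2 ^ m = 1
    rw [← map_pow]
    exact (QuotientGroup.eq_one_iff _).2 hm
  have hle : K.map (QuotientGroup.mk' F) ≤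
      ((T.mapSurjective (QuotientGroup.mk'_surjective F) : Sylow 2 (H ⧸ F)) :
        Subgroup (H ⧸ F)) := by
    obtain ⟨Q, hQ⟩ := hKp.exists_le_sylow
    intro x hx
    obtain ⟨g, hg⟩ := MulAction.exists_smul_eq (H ⧸ F) Q
      (T.mapSurjective (QuotientGroup.mk'_surjective F))
    rw [← hg]
    have hx' : g⁻¹ * x * g ∈ K.map (QuotientGroup.mk' F) := by
      have := hKn.conj_mem x hx g⁻¹
      simpa using this
    have h1 : g * (g⁻¹ * x * g) * g⁻¹ ∈ g • Q := by
      refine Set.mem_smul_set.2 ⟨g⁻¹ * x * g, hQ hx', ?_⟩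
      show MulAut.conj g (g⁻¹ * x * g) = _
      rw [MulAut.conj_apply]
    have e : g * (g⁻¹ * x * g) * g⁻¹ = x := by group
    rwa [e] at h1
  have h1 := hle (Subgroup.mem_map_of_mem _ hk)
  obtain ⟨t, ht, e⟩ := h1
  refine ⟨t, ht, ?_⟩
  rw [← QuotientGroup.eq]
  exact e

/-- A normal subgroup acting as a 2-group acts trivially, if a Sylow 2-subgroup fixes a generating vector. -/
theorem triv_of_normal (ρN : H →* (N ≃ₗ[ZMod 2] N)) {T : Subgroup H} (hT : IsPGroup 2 T)
    (hi : ¬ 2 ∣ T.index) {r : N} (hr : ∀ t ∈ T, ρN t r = r)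
    (hspan : Submodule.span (ZMod 2) {x | ∃ g, ρN g r = x} = ⊤) {K : Subgroup H} (hK : K.Normal)
    (hp : ∀ k ∈ K, ∃ m : ℕ, ∀ n, ρN (k ^ 2 ^ m) n = n) {k : H} (hk : k ∈ K) (n : N) : ρN k n = n := by
  have : Fact (Nat.Prime 2) := ⟨Nat.prime_two⟩
  have hKr : ∀ k ∈ K, ρN k r = r := by
    intro k hk
    obtain ⟨t, ht, hf⟩ := exists_mem_sylow (hT.toSylow hi) (K := K) (F := ρN.ker) hK (fun k hk => by
      obtain ⟨m, hm⟩ := hp k hk
      exact ⟨m, (MonoidHom.mem_ker).2 (LinearEquiv.ext fun n => hm n)⟩) hk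
    have ht' : t ∈ T := ht
    have h1 : ρN (t⁻¹ * k) r = r := by
      rw [(MonoidHom.mem_ker).1 hf]
      rfl
    have h2 : ρN k r = ρN t (ρN (t⁻¹ * k) r) := by
      rw [← rmul, mul_inv_cancel_left]
    rw [h2, h1, hr t ht']
  have hall : ∀ x ∈ Submodule.span (ZMod 2) {x | ∃ g, ρN g r = x}, ρN k x = x := by
    intro x hx
    induction hx using Submodule.span_induction with
    | mem x hx =>
      obtain ⟨g, rfl⟩ := hx
      have h1 := hKr _ (hK.conj_mem k hk g⁻¹)
      have h2 : ρN k (ρN g r) = ρN g (ρN (g⁻¹ * k * g⁻¹⁻¹) r) := by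
        rw [← rmul, ← rmul]
        congr 2
        group
      rw [h2, h1]
    | zero => exact map_zero _
    | add x y _ _ hx hy => rw [map_add, hx, hy]
    | smul a x _ hx => rw [map_smul, hx]
  exact hall n (by rw [hspan]; trivial)

omit [Finite H] in
/-- The representation on the quotient by a fixed vector. -/
def qrep (ρN : H →* (N ≃ₗ[ZMod 2] N)) (c : N) (hc : ∀ g, ρN g c = c) :
    H →* ((N ⧸ Submodule.span (ZMod 2) {c}) ≃ₗ[ZMod 2] (N ⧸ Submodule.span (ZMod 2) {c})) where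
  toFun g := Submodule.Quotient.equiv _ _ (ρN g) (by
    rw [Submodule.map_span, Set.image_singleton]
    have e : ((ρN g : N ≃ₗ[ZMod 2] N) : N →ₗ[ZMod 2] N) c = c := hc g
    rw [e])
  map_one' := by
    apply LinearEquiv.ext
    intro x
    obtain ⟨n, rfl⟩ := Submodule.Quotient.mk_surjective _ x
    show (Submodule.Quotient.mk (ρN 1 n) : N ⧸ Submodule.span (ZMod 2) {c}) = Submodule.Quotient.mk n
    rw [rone]
  map_mul' := by
    intro g g'
    apply LinearEquiv.ext
    intro x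
    obtain ⟨n, rfl⟩ := Submodule.Quotient.mk_surjective _ x
    show (Submodule.Quotient.mk (ρN (g * g') n) : N ⧸ Submodule.span (ZMod 2) {c}) =
      Submodule.Quotient.mk (ρN g (ρN g' n))
    rw [rmul]

omit [Finite H] in
theorem qrep_mk {ρN : H →* (N ≃ₗ[ZMod 2] N)} {c : N} (hc : ∀ g, ρN g c = c) (g : H) (n : N) :
    (Submodule.span (ZMod 2) {c}).mkQ (ρN g n) = qrep ρN c hc g ((Submodule.span (ZMod 2) {c}).mkQ n) :=
  rfl

theorem mem_span_c {c n : N} : n ∈ Submodule.span (ZMod 2) {c} ↔ n = 0 ∨ n = c := by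
  rw [Submodule.mem_span_singleton]
  constructor
  · rintro ⟨a, rfl⟩
    rcases z2 a with rfl | rfl
    · exact Or.inl (zero_smul _ _)
    · exact Or.inr (one_smul _ _)
  · rintro (rfl | rfl)
    · exact ⟨0, zero_smul _ _⟩
    · exact ⟨1, one_smul _ _⟩

end general

section

variable {H : Type*} [Group H] {N : Type*} [AddCommGroup N] [Module (ZMod 2) N]

/-- The hypotheses of (B1). -/
structure Hyp (ρN : H →* (N ≃ₗ[ZMod 2] N)) (T : Subgroup H) (r c p : N) (t₀ : H) : Prop where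
  hT : IsPGroup 2 T
  hi : ¬ 2 ∣ T.index
  c_ne : c ≠ 0
  c_fix : ∀ g, ρN g c = c
  span : Submodule.span (ZMod 2) {x | ∃ g, ρN g r = x} = ⊤
  r_fix : ∀ t ∈ T, ρN t r = r
  fix : ∀ n, (∀ t ∈ T, ρN t n = n) → n = 0 ∨ n = c ∨ n = r ∨ n = r + c
  p_mem : ∃ g, ρN g r = p
  rp_mem : ∃ g, ρN g r = r + p
  t_quad : ∀ n, ρN t₀ n = n ∨ ρN t₀ n = n + c ∨ ρN t₀ n = n + r ∨ ρN t₀ n = n + (r + c)
  t_ne : ∃ n, ρN t₀ n ≠ n
  t_p : ρN t₀ p = p

namespace Hyp

variable {ρN : H →* (N ≃ₗ[ZMod 2] N)} {T : Subgroup H} {r c p : N} {t₀ : H}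
  (h : Hyp ρN T r c p t₀)

include h

theorem r_ne : r ≠ 0 := by
  rintro rfl
  obtain ⟨n, hn⟩ := h.t_ne
  have h1 : n ∈ Submodule.span (ZMod 2) {x | ∃ g, ρN g (0 : N) = x} := by rw [h.span]; trivial
  have h2 : Submodule.span (ZMod 2) {x | ∃ g, ρN g (0 : N) = x} ≤ ⊥ := by
    refine Submodule.span_le.2 ?_
    rintro _ ⟨g, rfl⟩
    exact map_zero _
  apply hn
  rw [(Submodule.mem_bot _).1 (h2 h1), map_zero]

theorem r_ne_c : r ≠ c := by
  rintro rfl
  obtain ⟨n, hn⟩ := h.t_ne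
  have h1 : n ∈ Submodule.span (ZMod 2) {x | ∃ g, ρN g r = x} := by rw [h.span]; trivial
  have h2 : Submodule.span (ZMod 2) {x | ∃ g, ρN g r = x} ≤ Submodule.span (ZMod 2) {r} := by
    refine Submodule.span_le.2 ?_
    rintro _ ⟨g, rfl⟩
    rw [h.c_fix]
    exact Submodule.mem_span_singleton_self r
  apply hn
  rcases mem_span_c.1 (h2 h1) with e | e
  · rw [e, map_zero]
  · rw [e, h.c_fix]

theorem π_r : (Submodule.span (ZMod 2) {c}).mkQ r ≠ 0 := by
  intro e
  have h1 : r ∈ Submodule.span (ZMod 2) {c} := (Submodule.Quotient.mk_eq_zero _).1 e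
  rcases mem_span_c.1 h1 with h2 | h2
  · exact h.r_ne h2
  · exact h.r_ne_c h2

/-- `r + c` is not a point. -/
theorem not_rc [Finite H] [Finite N] : ¬ ∃ g, ρN g r = r + c := by
  classical
  rintro ⟨g₀, hg₀⟩
  have : Fintype N := Fintype.ofFinite N
  -- the action of `H` on `N`
  let _act : MulAction H N :=
    { smul := fun g n => ρN g n
      one_smul := fun n => rone ρN n
      mul_smul := fun g g' n => rmul ρN g g' n }
  have hsm : ∀ (g : H) (n : N), g • n = ρN g n := fun _ _ => rfl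
  -- `|orbit|` is odd
  have h1 : ¬ 2 ∣ Nat.card (MulAction.orbit H r) := by
    intro hd
    apply h.hi
    have h2 : T ≤ MulAction.stabilizer H r := fun t ht => by
      rw [MulAction.mem_stabilizer_iff, hsm]
      exact h.r_fix t ht
    have h3 : (MulAction.stabilizer H r).index = Nat.card (MulAction.orbit H r) :=
      MulAction.index_stabilizer H r
    rw [← h3] at hd
    exact hd.trans (Subgroup.index_dvd_of_le h2)
  apply h1
  -- the fixed-point-free involution `z ↦ z + c`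
  have h4 : ∀ z ∈ MulAction.orbit H r, z + c ∈ MulAction.orbit H r := by
    rintro _ ⟨g, rfl⟩
    refine ⟨g * g₀, ?_⟩
    show ρN (g * g₀) r = ρN g r + c
    rw [rmul, hg₀, map_add, h.c_fix]
  let A : Finset N := Finset.univ.filter fun z => z ∈ MulAction.orbit H r
  have hA : ∀ z, z ∈ A ↔ z ∈ MulAction.orbit H r := fun z => by simp [A]
  have h5 : ∑ z ∈ A, (1 : ZMod 2) = 0 := by
    refine Finset.sum_involution (fun z _ => z + c) ?_ ?_ ?_ ?_
    · intro z _
      exact z2_add_self 1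
    · intro z _ _ e
      exact h.c_ne (by simpa using e)
    · intro z hz
      exact (hA _).2 (h4 z ((hA z).1 hz))
    · intro z _
      exact add_add_self z c
  rw [Finset.sum_const, nsmul_eq_mul, mul_one] at h5
  have h6 : Nat.card (MulAction.orbit H r) = A.card := by
    rw [Nat.card_eq_fintype_card, Fintype.card_subtype]
  rw [h6]
  exact (ZMod.natCast_eq_zero_iff _ _).1 h5

/-- The functional of `t₀`. -/
theorem exists_fn [Finite H] : ∃ φ : Dual (ZMod 2) (N ⧸ Submodule.span (ZMod 2) {c}), φ ≠ 0 ∧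
    (∀ x, qrep ρN c h.c_fix t₀ x = x + φ x • (Submodule.span (ZMod 2) {c}).mkQ r) ∧
    Fn (qrep ρN c h.c_fix) ((Submodule.span (ZMod 2) {c}).mkQ r) φ ∧
    φ ((Submodule.span (ZMod 2) {c}).mkQ p) = 0 := by
  have hπc : (Submodule.span (ZMod 2) {c}).mkQ c = 0 :=
    (Submodule.Quotient.mk_eq_zero _).2 (Submodule.mem_span_singleton_self c)
  obtain ⟨φ, hφ⟩ := exists_functional (qrep ρN c h.c_fix t₀) h.π_r (fun x => by
    obtain ⟨n, rfl⟩ := (Submodule.mkQ_surjective _) x
    rw [← qrep_mk]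
    rcases h.t_quad n with e | e | e | e <;> rw [e]
    · exact Or.inl rfl
    · rw [map_add, hπc, add_zero]; exact Or.inl rfl
    · rw [map_add]; exact Or.inr rfl
    · rw [map_add, map_add, hπc, add_zero]; exact Or.inr rfl)
  have hr0 : φ ((Submodule.span (ZMod 2) {c}).mkQ r) = 0 := by
    by_contra hne
    have h1 := hφ ((Submodule.span (ZMod 2) {c}).mkQ r)
    rw [z2_ne_zero hne, one_smul, v_add_self] at h1
    exact h.π_r ((qrep ρN c h.c_fix t₀).map_eq_zero_iff.1 h1)
  refine ⟨φ, ?_, hφ, ⟨hr0, t₀, hφ⟩, ?_⟩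
  · rintro rfl
    -- then `t₀` acts trivially on the quotient
    let K : Subgroup H := (qrep ρN c h.c_fix).ker
    have hK : K.Normal := MonoidHom.normal_ker _
    have ht : t₀ ∈ K := by
      refine (MonoidHom.mem_ker).2 (LinearEquiv.ext fun x => ?_)
      rw [hφ x, LinearMap.zero_apply, zero_smul, add_zero]
      rfl
    obtain ⟨n, hn⟩ := h.t_ne
    apply hn
    refine triv_of_normal ρN h.hT h.hi h.r_fix h.span hK ?_ ht n
    intro k hk
    refine ⟨1, fun m => ?_⟩
    have h1 : ∀ m, ρN k m = m ∨ ρN k m = m + c := by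
      intro m
      have h2 : (Submodule.span (ZMod 2) {c}).mkQ (ρN k m) = (Submodule.span (ZMod 2) {c}).mkQ m := by
        rw [qrep_mk h.c_fix, (MonoidHom.mem_ker).1 hk]
        rfl
      have h3 : ρN k m + m ∈ Submodule.span (ZMod 2) {c} := by
        rw [← Submodule.Quotient.mk_eq_zero]
        show (Submodule.span (ZMod 2) {c}).mkQ (ρN k m + m) = 0
        rw [map_add, h2, v_add_self]
      rcases mem_span_c.1 h3 with e | e
      · exact Or.inl (v_eq_of_add e)
      · right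
        rw [← e, add_comm (ρN k m), self_add_add]
    rw [pow_one, pow_two, rmul]
    rcases h1 m with e | e
    · rw [e, e]
    · rw [e, map_add, e, h.c_fix, add_add_self]
  · by_contra hne
    have h1 := hφ ((Submodule.span (ZMod 2) {c}).mkQ p)
    rw [z2_ne_zero hne, one_smul, ← qrep_mk h.c_fix, h.t_p] at h1
    exact h.π_r (by simpa using h1)

/-- The points of the quotient are a system. -/
theorem sys [Finite H] : Sys (qrep ρN c h.c_fix) ((Submodule.span (ZMod 2) {c}).mkQ '' {x | ∃ g, ρN g r = x}) where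
  zero := by
    rintro ⟨_, ⟨g, rfl⟩, e⟩
    rw [qrep_mk h.c_fix] at e
    exact h.π_r ((qrep ρN c h.c_fix g).map_eq_zero_iff.1 e)
  inv := by
    rintro g _ ⟨_, ⟨g', rfl⟩, rfl⟩
    exact ⟨ρN (g * g') r, ⟨g * g', rfl⟩, by rw [rmul, qrep_mk h.c_fix]⟩
  trans := by
    rintro _ ⟨_, ⟨g, rfl⟩, rfl⟩ _ ⟨_, ⟨g', rfl⟩, rfl⟩
    refine ⟨g' * g⁻¹, ?_⟩
    rw [← qrep_mk h.c_fix, rmul, rinv]
  span := by
    rw [← Submodule.map_span, h.span, Submodule.map_top, Submodule.range_mkQ]
  ex := by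
    obtain ⟨φ, h1, _, h2, _⟩ := h.exists_fn
    exact ⟨_, ⟨r, ⟨1, rone ρN r⟩, rfl⟩, φ, h1, h2⟩
  chain := by
    intro U hU g hg hg' v
    -- the stabiliser of the chain
    let K : Subgroup H :=
      { carrier := {g | (∀ u ∈ U, qrep ρN c h.c_fix g u = u) ∧ ∀ v, qrep ρN c h.c_fix g v + v ∈ U}
        one_mem' := ⟨fun u _ => rone _ u, fun v => by rw [rone, v_add_self]; exact U.zero_mem⟩
        mul_mem' := by
          rintro a b ⟨ha, ha'⟩ ⟨hb, hb'⟩
          refine ⟨fun u hu => by rw [rmul, hb u hu, ha u hu], fun v => ?_⟩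
          have e : qrep ρN c h.c_fix (a * b) v + v = (qrep ρN c h.c_fix a (qrep ρN c h.c_fix b v) +
              qrep ρN c h.c_fix b v) + (qrep ρN c h.c_fix b v + v) := by
            rw [rmul, ← add_assoc, add_add_self]
          rw [e]
          exact U.add_mem (ha' _) (hb' v)
        inv_mem' := by
          rintro a ⟨ha, ha'⟩
          have h1 : ∀ u ∈ U, qrep ρN c h.c_fix a⁻¹ u = u := fun u hu => by
            have := congrArg (qrep ρN c h.c_fix a⁻¹) (ha u hu)
            rw [rinv] at this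
            exact this.symm
          refine ⟨h1, fun v => ?_⟩
          have h2 := ha' (qrep ρN c h.c_fix a⁻¹ v)
          rwa [rinv', add_comm] at h2 }
    have hK : K.Normal := by
      constructor
      rintro a ⟨ha, ha'⟩ b
      refine ⟨fun u hu => ?_, fun v => ?_⟩
      · rw [rmul, rmul, ha _ (hU _ u hu), rinv']
      · have e : qrep ρN c h.c_fix (b * a * b⁻¹) v + v = qrep ρN c h.c_fix b
            (qrep ρN c h.c_fix a (qrep ρN c h.c_fix b⁻¹ v) + qrep ρN c h.c_fix b⁻¹ v) := by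
          rw [map_add, rinv', rmul, rmul]
        rw [e]
        exact hU b _ (ha' _)
    have hgK : g ∈ K := ⟨hg, hg'⟩
    obtain ⟨n, rfl⟩ := (Submodule.mkQ_surjective _) v
    rw [← qrep_mk h.c_fix]
    congr 1
    refine triv_of_normal ρN h.hT h.hi h.r_fix h.span hK ?_ hgK n
    intro k hk
    refine ⟨2, fun m => ?_⟩
    -- `k ^ 2` acts trivially on the quotient
    have h1 : ∀ m, ρN (k * k) m = m ∨ ρN (k * k) m = m + c := by
      intro m
      have h2 : (Submodule.span (ZMod 2) {c}).mkQ (ρN (k * k) m) = (Submodule.span (ZMod 2) {c}).mkQ m := by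
        rw [qrep_mk h.c_fix, rmul]
        have h3 := hk.2 ((Submodule.span (ZMod 2) {c}).mkQ m)
        have h4 := hk.1 _ h3
        rw [map_add] at h4
        exact add_right_cancel (h4.trans (add_comm _ _))
      have h3 : ρN (k * k) m + m ∈ Submodule.span (ZMod 2) {c} := by
        rw [← Submodule.Quotient.mk_eq_zero]
        show (Submodule.span (ZMod 2) {c}).mkQ (ρN (k * k) m + m) = 0
        rw [map_add, h2, v_add_self]
      rcases mem_span_c.1 h3 with e | e
      · exact Or.inl (v_eq_of_add e)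
      · right
        rw [← e, add_comm (ρN (k * k) m), self_add_add]
    have e4 : k ^ 2 ^ 2 = (k * k) * (k * k) := by
      have e5 : (2 : ℕ) ^ 2 = 2 * 2 := rfl
      rw [e5, pow_mul, pow_two, pow_two]
    rw [e4, rmul]
    rcases h1 m with e | e
    · rw [e, e]
    · rw [e, map_add, e, h.c_fix, add_add_self]

theorem lft [Finite H] [Finite N] : Lft ρN (qrep ρN c h.c_fix) (Submodule.span (ZMod 2) {c}).mkQ
    {x | ∃ g, ρN g r = x} c := by
  have hfin : Finite (N ⧸ Submodule.span (ZMod 2) {c}) :=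
    Finite.of_surjective _ (Submodule.mkQ_surjective _)
  have hs := h.sys
  obtain ⟨φ, h1, _, h2, h3⟩ := h.exists_fn
  have hr : (Submodule.span (ZMod 2) {c}).mkQ r ∈
      (Submodule.span (ZMod 2) {c}).mkQ '' {x | ∃ g, ρN g r = x} := ⟨r, ⟨1, rone ρN r⟩, rfl⟩
  have hclo : Sys.Clo (qrep ρN c h.c_fix) ((Submodule.span (ZMod 2) {c}).mkQ '' {x | ∃ g, ρN g r = x}) :=
    hs.clo_of (hs.add_mem_of_near hr (p := (Submodule.span (ZMod 2) {c}).mkQ p) ⟨p, h.p_mem, rfl⟩
      ⟨r + p, h.rp_mem, map_add _ _ _⟩ h2 h1 h3)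
  have hker : ∀ n, (Submodule.span (ZMod 2) {c}).mkQ n = 0 → n = 0 ∨ n = c := fun n hn =>
    mem_span_c.1 ((Submodule.Quotient.mk_eq_zero _).1 hn)
  have hkc : (Submodule.span (ZMod 2) {c}).mkQ c = 0 :=
    (Submodule.Quotient.mk_eq_zero _).2 (Submodule.mem_span_singleton_self c)
  have hns : ∀ z ∈ {x | ∃ g, ρN g r = x}, z + c ∉ {x | ∃ g, ρN g r = x} := by
    rintro _ ⟨g, rfl⟩ ⟨g', e⟩
    refine h.not_rc ⟨g⁻¹ * g', ?_⟩
    rw [rmul, e, map_add, rinv, h.c_fix]
  have hinv : ∀ (g : H), ∀ z ∈ {x | ∃ g, ρN g r = x}, ρN g z ∈ {x | ∃ g, ρN g r = x} := by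
    rintro g _ ⟨g', rfl⟩
    exact ⟨g * g', rmul ρN g g' r⟩
  have hnear := hs.near_all_lift hclo h.hT ρN (Submodule.span (ZMod 2) {c}).mkQ
    (fun g n => qrep_mk h.c_fix g n) (OmN := {x | ∃ g, ρN g r = x}) (fun s _ z hz => hinv s z hz)
    (by
      intro z hz z' hz' e
      have e1 : (Submodule.span (ZMod 2) {c}).mkQ (z + z') = 0 := by rw [map_add, e, v_add_self]
      rcases hker _ e1 with e2 | e2
      · exact v_eq_of_add e2
      · exfalso
        refine hns z' hz' ?_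
        rw [← e2, add_comm z, self_add_add]
        exact hz)
    (fun v hv => hv) hr (by
      intro n hn
      rcases h.fix n hn with e | e | e | e
      · left; rw [e, map_zero]
      · left; rw [e, hkc]
      · right; rw [e]
      · right; rw [e, map_add, hkc, add_zero])
  exact
    { equi := fun g n => qrep_mk h.c_fix g n
      ker := hker
      kc := hkc
      inv := hinv
      ns := hns
      span := h.span
      sys := hs
      clo := hclo
      near := fun v hv w hw => hs.near_trans hv hr hw (hs.near_symm hr hv (hnear v hv)) (hnear w hw) }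

end Hyp

/-- **The orthogonal module**: `Qf OmN` is a quadratic form on `N` with polar form `f`, radical `{0, c}`. -/
structure Orth (ρN : H →* (N ≃ₗ[ZMod 2] N)) (OmN : Set N) (c : N)
    (f : N →ₗ[ZMod 2] N →ₗ[ZMod 2] ZMod 2) : Prop where
  add : ∀ n m, Qf OmN (n + m) = Qf OmN n + Qf OmN m + f n m
  Qc : Qf OmN c = 1
  Q_inv : ∀ g n, Qf OmN (ρN g n) = Qf OmN n
  comm : ∀ n m, f n m = f m n
  alt : ∀ n, f n n = 0
  inv : ∀ g n m, f (ρN g n) (ρN g m) = f n m
  rad : ∀ n, f n = 0 → n = 0 ∨ n = c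
  fc : f c = 0
  trans : ∀ z ∈ OmN, ∀ z' ∈ OmN, ∃ g, ρN g z = z'
  refl : ∀ z ∈ OmN, ∃ g, ∀ n, ρN g n = n + f z n • (z + c)

/-- **(B1)**. -/
theorem Hyp.orth [Finite H] [Finite N] {ρN : H →* (N ≃ₗ[ZMod 2] N)} {T : Subgroup H} {r c p : N} {t₀ : H}
    (h : Hyp ρN T r c p t₀) : ∃ f : N →ₗ[ZMod 2] N →ₗ[ZMod 2] ZMod 2,
      Orth ρN {x | ∃ g, ρN g r = x} c f ∧ f r p = 0 ∧ ∀ n, ρN t₀ n = n + f r n • (r + c) := by
  have hfin : Finite (N ⧸ Submodule.span (ZMod 2) {c}) :=
    Finite.of_surjective _ (Submodule.mkQ_surjective _)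
  have L := h.lft
  have hr : r ∈ {x | ∃ g, ρN g r = x} := ⟨1, rone ρN r⟩
  rcases L.sys.small_or_big with hs | hb
  swap
  · exact (L.not_big hb hr h.p_mem h.rp_mem).elim
  obtain ⟨f, hf⟩ := L.sys.exists_form hs
  obtain ⟨φ, h1, h4, h2, h3⟩ := h.exists_fn
  have hφ : φ = f ((Submodule.span (ZMod 2) {c}).mkQ r) := hf.uniq _ ⟨r, hr, rfl⟩ φ h1 h2
  have h0 : f ((Submodule.span (ZMod 2) {c}).mkQ r) ((Submodule.span (ZMod 2) {c}).mkQ p) = 0 := by
    rw [← hφ, h3]
  refine ⟨(f.compl₁₂ (Submodule.span (ZMod 2) {c}).mkQ (Submodule.span (ZMod 2) {c}).mkQ), ?_, h0, ?_⟩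
  · exact
    { add := fun n m => L.Q_add hf hr h.p_mem h.rp_mem h0 n m
      Qc := L.Q_c
      Q_inv := L.Q_inv
      comm := fun n m => hf.comm _ _
      alt := fun n => hf.alt _
      inv := fun g n m => by
        show f ((Submodule.span (ZMod 2) {c}).mkQ (ρN g n)) ((Submodule.span (ZMod 2) {c}).mkQ (ρN g m)) = _
        rw [L.equi, L.equi, hf.inv]
        rfl
      rad := fun n hn => by
        refine L.ker n (L.nondeg hf _ (LinearMap.ext fun x => ?_))
        obtain ⟨m, rfl⟩ := (Submodule.mkQ_surjective _) x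
        exact LinearMap.congr_fun hn m
      fc := by
        refine LinearMap.ext fun m => ?_
        show f ((Submodule.span (ZMod 2) {c}).mkQ c) _ = 0
        rw [L.kc, map_zero, LinearMap.zero_apply]
      trans := fun z hz z' hz' => L.trans hz hz'
      refl := fun z hz => by
        obtain ⟨_, g, hg⟩ := hf.fn _ ⟨z, hz, rfl⟩
        exact ⟨g, L.exists_refl hf hr h.p_mem h.rp_mem h0 hz hg⟩ }
  · refine L.exists_refl hf hr h.p_mem h.rp_mem h0 hr ?_
    intro x
    rw [h4 x, hφ]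

end

end Cfsg.Agent.Omega.TV

end

section


/-!
# (B1) inside a group: the orthogonal module

helper304, OMEGA / II.d.  `C` acts by conjugation on the elementary abelian group `N = ⟨r^C⟩` and
centralises `c ∈ N`.  `Qg C r` is `0` on `{1} ∪ r^C` and `1` elsewhere, `Bg C r` its polar function.
`GSys.gorth`: a Sylow 2-subgroup `T` of `C` centralises `r` and `C_N(T) ≤ {1, c, r, rc}`, some `t ∈ C` acts
nontrivially on `N` with `[N, t] ≤ {1, c, r, rc}` and centralises `p`, where `p`, `rp` are conjugate to `r`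
under `C`: then `Qg C r` is a quadratic form on `N` with radical `{1, c}` of the polar form, `Qg C r c = 1`,
and `C` induces all reflections in the vectors `z c`, `z ∈ r^C`.
-/

set_option autoImplicit false

namespace Cfsg.Agent.Omega.TV

open Module

variable {G : Type*} [Group G]

/-- `0` on `{1} ∪ r^C`, `1` elsewhere. -/
noncomputable def Qg (C : Subgroup G) (r x : G) : ZMod 2 :=
  open Classical in if x = 1 ∨ ∃ g ∈ C, x = g * r * g⁻¹ then 0 else 1

/-- The polar function of `Qg`. -/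
noncomputable def Bg (C : Subgroup G) (r x y : G) : ZMod 2 := Qg C r (x * y) + Qg C r x + Qg C r y

theorem Qg_eq_zero {C : Subgroup G} {r x : G} : Qg C r x = 0 ↔ x = 1 ∨ ∃ g ∈ C, x = g * r * g⁻¹ := by
  unfold Qg
  split_ifs with h <;> simp [h]

theorem Qg_one {C : Subgroup G} {r : G} : Qg C r 1 = 0 := Qg_eq_zero.2 (Or.inl rfl)

theorem Qg_conj {C : Subgroup G} {r g : G} (hg : g ∈ C) : Qg C r (g * r * g⁻¹) = 0 :=
  Qg_eq_zero.2 (Or.inr ⟨g, hg, rfl⟩)

theorem Qg_self {C : Subgroup G} {r : G} : Qg C r r = 0 :=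
  Qg_eq_zero.2 (Or.inr ⟨1, C.one_mem, by simp⟩)

/-- The orthogonal module `N` of `C`, with singular vector `r` and radical vector `c`. -/
structure GOrth (C N : Subgroup G) (r c : G) : Prop where
  sq : ∀ x ∈ N, x * x = 1
  nor : ∀ g ∈ C, ∀ x ∈ N, g * x * g⁻¹ ∈ N
  r_mem : r ∈ N
  c_mem : c ∈ N
  c_fix : ∀ g ∈ C, g * c * g⁻¹ = c
  add : ∀ x ∈ N, ∀ y ∈ N, ∀ z ∈ N, Bg C r x (y * z) = Bg C r x y + Bg C r x z
  comm : ∀ x ∈ N, ∀ y ∈ N, Bg C r x y = Bg C r y x
  self : ∀ x ∈ N, Bg C r x x = 0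
  inv : ∀ g ∈ C, ∀ x ∈ N, Qg C r (g * x * g⁻¹) = Qg C r x
  Qc : Qg C r c = 1
  Bc : ∀ x ∈ N, Bg C r c x = 0
  rad : ∀ x ∈ N, (∀ y ∈ N, Bg C r x y = 0) → x = 1 ∨ x = c
  refl : ∀ z ∈ N, z ≠ 1 → Qg C r z = 0 → ∃ g ∈ C, ∀ n ∈ N,
    (Bg C r z n = 0 ∧ g * n * g⁻¹ = n) ∨ (Bg C r z n = 1 ∧ g * n * g⁻¹ = n * (z * c))

namespace GSys

variable {C N : Subgroup G} {r : G} (h : GSys C N r)

include h

theorem Qf_eq {x : G} (hx : x ∈ N) :
    Qf {a | ∃ g, h.rep g (EA.mk h.sq r h.mem) = a} (EA.mk h.sq x hx) = Qg C r x := by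
  rcases z2 (Qg C r x) with e | e
  · rw [e]
    rcases Qg_eq_zero.1 e with h1 | ⟨g, hg, h1⟩
    · exact Qf_eq_zero.2 (Or.inl (EA.ext h1))
    · exact Qf_eq_zero.2 (Or.inr ⟨⟨g, hg⟩, EA.ext h1.symm⟩)
  · rw [e]
    refine z2_ne_zero fun e' => ?_
    have h0 : Qg C r x = 0 := by
      rcases Qf_eq_zero.1 e' with h1 | ⟨g, h1⟩
      · exact Qg_eq_zero.2 (Or.inl (EA.val_eq_one.2 h1))
      · exact Qg_eq_zero.2 (Or.inr ⟨g, g.2, (congrArg EA.val h1).symm⟩)
    rw [e] at h0
    exact one_ne_zero h0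

theorem Bf_eq {x y : G} (hx : x ∈ N) (hy : y ∈ N) :
    Bf {a | ∃ g, h.rep g (EA.mk h.sq r h.mem) = a} (EA.mk h.sq x hx) (EA.mk h.sq y hy) = Bg C r x y := by
  unfold Bf Bg
  have e : EA.mk h.sq x hx + EA.mk h.sq y hy = EA.mk h.sq (x * y) (N.mul_mem hx hy) := rfl
  rw [e, h.Qf_eq, h.Qf_eq, h.Qf_eq]

theorem span_top : Submodule.span (ZMod 2) {a | ∃ g, h.rep g (EA.mk h.sq r h.mem) = a} = ⊤ := by
  rw [eq_top_iff]
  rintro a -
  have key : ∀ x ∈ Subgroup.closure {x | ∃ c ∈ C, x = c * r * c⁻¹}, ∃ hx : x ∈ N,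
      EA.mk h.sq x hx ∈ Submodule.span (ZMod 2) {a | ∃ g, h.rep g (EA.mk h.sq r h.mem) = a} := by
    intro x hx
    induction hx using Subgroup.closure_induction with
    | mem x hx =>
      obtain ⟨c, hc, rfl⟩ := hx
      exact ⟨h.nor c hc r h.mem, Submodule.subset_span ⟨⟨c, hc⟩, rfl⟩⟩
    | one => exact ⟨N.one_mem, Submodule.zero_mem _⟩
    | mul x y _ _ hx hy =>
      obtain ⟨hx, ex⟩ := hx
      obtain ⟨hy, ey⟩ := hy
      exact ⟨N.mul_mem hx hy, Submodule.add_mem _ ex ey⟩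
    | inv x _ hx =>
      obtain ⟨hx, ex⟩ := hx
      refine ⟨N.inv_mem hx, ?_⟩
      have e : EA.mk h.sq x⁻¹ (N.inv_mem hx) = EA.mk h.sq x hx := EA.ext (h.inv_eq hx)
      rw [e]
      exact ex
  exact (key a.val (h.gen a.val_mem)).2

/-- **(B1) inside a group.** -/
theorem gorth [Finite G] {T : Subgroup G} {c p t : G} (hTC : T ≤ C) (hT : IsPGroup 2 T)
    (hi : ¬ 2 ∣ T.relIndex C) (hc : c ∈ N) (hc1 : c ≠ 1) (hcC : ∀ g ∈ C, g * c * g⁻¹ = c)
    (hTr : ∀ t ∈ T, t * r * t⁻¹ = r)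
    (hfix : ∀ n ∈ N, (∀ t ∈ T, t * n * t⁻¹ = n) → n = 1 ∨ n = c ∨ n = r ∨ n = r * c)
    (hp : ∃ g ∈ C, p = g * r * g⁻¹) (hrp : ∃ g ∈ C, r * p = g * r * g⁻¹) (ht : t ∈ C)
    (htq : ∀ n ∈ N, t * n * t⁻¹ = n ∨ t * n * t⁻¹ = n * c ∨ t * n * t⁻¹ = n * r ∨
      t * n * t⁻¹ = n * (r * c))
    (hne : ∃ n ∈ N, t * n * t⁻¹ ≠ n) (htp : t * p * t⁻¹ = p) :
    GOrth C N r c ∧ Bg C r r p = 0 ∧ ∀ n ∈ N,
      (Bg C r r n = 0 ∧ t * n * t⁻¹ = n) ∨ (Bg C r r n = 1 ∧ t * n * t⁻¹ = n * (r * c)) := by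
  obtain ⟨gp, hgp, hp⟩ := hp
  obtain ⟨gq, hgq, hrp⟩ := hrp
  have hpN : p ∈ N := by rw [hp]; exact h.nor gp hgp r h.mem
  have hH : Hyp h.rep (T.subgroupOf C) (EA.mk h.sq r h.mem) (EA.mk h.sq c hc) (EA.mk h.sq p hpN)
      (⟨t, ht⟩ : C) :=
    { hT := hT.of_equiv (Subgroup.subgroupOfEquivOfLe hTC).symm
      hi := hi
      c_ne := fun e => hc1 (EA.val_eq_one.2 e)
      c_fix := fun g => EA.ext (hcC g g.2)
      span := h.span_top
      r_fix := fun s hs => EA.ext (hTr s hs)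
      fix := fun n hn => by
        rcases hfix n.val n.val_mem (fun s hs => congrArg EA.val (hn ⟨s, hTC hs⟩ hs)) with e | e | e | e
        · exact Or.inl (EA.ext e)
        · exact Or.inr (Or.inl (EA.ext e))
        · exact Or.inr (Or.inr (Or.inl (EA.ext e)))
        · exact Or.inr (Or.inr (Or.inr (EA.ext e)))
      p_mem := ⟨⟨gp, hgp⟩, EA.ext hp.symm⟩
      rp_mem := ⟨⟨gq, hgq⟩, EA.ext hrp.symm⟩
      t_quad := fun n => by
        rcases htq n.val n.val_mem with e | e | e | e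
        · exact Or.inl (EA.ext e)
        · exact Or.inr (Or.inl (EA.ext e))
        · exact Or.inr (Or.inr (Or.inl (EA.ext e)))
        · exact Or.inr (Or.inr (Or.inr (EA.ext e)))
      t_ne := by
        obtain ⟨n, hn, e⟩ := hne
        exact ⟨EA.mk h.sq n hn, fun e' => e (congrArg EA.val e')⟩
      t_p := EA.ext htp }
  obtain ⟨f, hO, h0, ht0⟩ := hH.orth
  have hB : ∀ x y : EA N h.sq, f x y = Bg C r x.val y.val := by
    intro x y
    have h1 := hO.add x y
    have h2 := h.Bf_eq x.val_mem y.val_mem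
    rw [EA.mk_val, EA.mk_val] at h2
    rw [← h2]
    unfold Bf
    rw [h1]
    have e1 := z2_add_self (Qf {a | ∃ g, h.rep g (EA.mk h.sq r h.mem) = a} x)
    have e2 := z2_add_self (Qf {a | ∃ g, h.rep g (EA.mk h.sq r h.mem) = a} y)
    linear_combination -e1 - e2
  have hB' : ∀ x (hx : x ∈ N) y (hy : y ∈ N), Bg C r x y = f (EA.mk h.sq x hx) (EA.mk h.sq y hy) :=
    fun x hx y hy => (hB (EA.mk h.sq x hx) (EA.mk h.sq y hy)).symm
  refine ⟨?_, ?_, ?_⟩
  · exact
    { sq := h.sq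
      nor := h.nor
      r_mem := h.mem
      c_mem := hc
      c_fix := hcC
      add := fun x hx y hy z hz => by
        rw [hB' x hx (y * z) (N.mul_mem hy hz), hB' x hx y hy, hB' x hx z hz]
        exact map_add (f (EA.mk h.sq x hx)) (EA.mk h.sq y hy) (EA.mk h.sq z hz)
      comm := fun x hx y hy => by rw [hB' x hx y hy, hB' y hy x hx, hO.comm]
      self := fun x hx => by rw [hB' x hx x hx, hO.alt]
      inv := fun g hg x hx => by
        rw [← h.Qf_eq hx, ← h.Qf_eq (h.nor g hg x hx)]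
        exact hO.Q_inv ⟨g, hg⟩ (EA.mk h.sq x hx)
      Qc := by rw [← h.Qf_eq hc]; exact hO.Qc
      Bc := fun x hx => by rw [hB' c hc x hx, hO.fc]; rfl
      rad := fun x hx hx0 => by
        rcases hO.rad (EA.mk h.sq x hx) (LinearMap.ext fun y => by
          rw [hB, LinearMap.zero_apply]; exact hx0 _ y.val_mem) with e | e
        · exact Or.inl (EA.val_eq_one.2 e)
        · exact Or.inr (congrArg EA.val e)
      refl := fun z hz hz1 hz0 => by
        rcases Qg_eq_zero.1 hz0 with e | ⟨g, hg, e⟩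
        · exact absurd e hz1
        · obtain ⟨g', hg'⟩ := hO.refl (EA.mk h.sq z hz) ⟨⟨g, hg⟩, EA.ext e.symm⟩
          refine ⟨g', g'.2, fun n hn => ?_⟩
          have h1 := hg' (EA.mk h.sq n hn)
          rcases z2 (f (EA.mk h.sq z hz) (EA.mk h.sq n hn)) with e1 | e1
          · left
            refine ⟨by rw [hB' z hz n hn, e1], ?_⟩
            rw [e1, zero_smul, add_zero] at h1
            exact congrArg EA.val h1
          · right
            refine ⟨by rw [hB' z hz n hn, e1], ?_⟩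
            rw [e1, one_smul] at h1
            exact congrArg EA.val h1 }
  · rw [hB' r h.mem p hpN, h0]
  · intro n hn
    have h1 := ht0 (EA.mk h.sq n hn)
    rcases z2 (f (EA.mk h.sq r h.mem) (EA.mk h.sq n hn)) with e1 | e1
    · left
      refine ⟨by rw [hB' r h.mem n hn, e1], ?_⟩
      rw [e1, zero_smul, add_zero] at h1
      exact congrArg EA.val h1
    · right
      refine ⟨by rw [hB' r h.mem n hn, e1], ?_⟩
      rw [e1, one_smul] at h1
      exact congrArg EA.val h1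

end GSys

namespace GOrth

variable {C N : Subgroup G} {r c : G} (h : GOrth C N r c)

include h

omit h in
theorem Q_mul {x y : G} : Qg C r (x * y) = Qg C r x + Qg C r y + Bg C r x y := by
  unfold Bg
  have e1 := z2_add_self (Qg C r x)
  have e2 := z2_add_self (Qg C r y)
  linear_combination -e1 - e2

omit h in
theorem Bone {x : G} : Bg C r x 1 = 0 := by
  unfold Bg
  rw [mul_one, Qg_one, add_zero]
  exact z2_add_self _

theorem add_left {x y z : G} (hx : x ∈ N) (hy : y ∈ N) (hz : z ∈ N) :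
    Bg C r (x * y) z = Bg C r x z + Bg C r y z := by
  rw [h.comm _ (N.mul_mem hx hy) _ hz, h.add z hz x hx y hy, h.comm z hz x hx, h.comm z hz y hy]

theorem B_inv {g x y : G} (hg : g ∈ C) (hx : x ∈ N) (hy : y ∈ N) :
    Bg C r (g * x * g⁻¹) (g * y * g⁻¹) = Bg C r x y := by
  unfold Bg
  have e : g * x * g⁻¹ * (g * y * g⁻¹) = g * (x * y) * g⁻¹ := by group
  rw [e, h.inv g hg _ (N.mul_mem hx hy), h.inv g hg x hx, h.inv g hg y hy]

theorem Qmulc {x : G} (hx : x ∈ N) : Qg C r (x * c) = Qg C r x + 1 := by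
  rw [Q_mul, h.Qc, h.comm x hx c h.c_mem, h.Bc x hx, add_zero]

end GOrth

end Cfsg.Agent.Omega.TV

end

section


/-!
# THEOREM TV (3) when `C_V(S) ≤ ⟨r⟩ + C_V(H)`

helper64 (bb #14186 (4a)), after helper304's `Sym.lean`: the hypothesis `C_V(S) = {0, r}` is weakened to
`C_V(S) ≤ ⟨r⟩ + C_V(H)`.
-/

set_option autoImplicit false

namespace Cfsg.Agent.Omega.TV

open Module

variable {H : Type*} [Group H] {V : Type*} [AddCommGroup V] [Module (ZMod 2) V]
  {ρ : H →* (V ≃ₗ[ZMod 2] V)} {Om : Set V} {f : V →ₗ[ZMod 2] V →ₗ[ZMod 2] ZMod 2}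

/-- functionals of transvections kill the vectors fixed by `H` -/
theorem Fn.fixed {u y : V} (hu : u ≠ 0) {φ : Dual (ZMod 2) V} (hφ : Fn ρ u φ) (hy : ∀ g : H, ρ g y = y) :
    φ y = 0 := by
  obtain ⟨_, g, hg⟩ := hφ
  have h1 := hg y
  rw [hy g] at h1
  have h2 : φ y • u = 0 := by simpa using h1
  exact (smul_eq_zero.1 h2).resolve_right hu

theorem Sys.rad_of_fixed (h : Sys ρ Om) {y : V} (hy : ∀ g : H, ρ g y = y) : y ∈ Sys.rad ρ Om :=
  fun _ hr _ hφ => hφ.fixed (h.ne_zero hr) hy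

theorem Frm.fixed_eq (h : Sys ρ Om) (hf : Frm ρ Om f) {y : V} (hy : ∀ g : H, ρ g y = y) : f y = 0 :=
  h.eq_zero_of fun s hs => by
    rw [hf.comm]
    exact (hf.fn s hs).fixed (h.ne_zero hs) hy

namespace Frm

variable {r u : V} {S : Subgroup H}

theorem no_Z' [Finite V] (h : Sys ρ Om) (hf : Frm ρ Om f) (hS : IsPGroup 2 S)
    (hr : r ∈ Om) (hu : u ∈ Om) (e : f r u = 1) (hsr : ∀ s ∈ S, ρ s r = r)
    (hsu : ∀ s ∈ S, ρ s u = u ∨ ρ s u = r + u)
    (hfix : ∀ v : V, (∀ s ∈ S, ρ s v = v) → ∃ y, (∀ g : H, ρ g y = y) ∧ (v = y ∨ v = r + y)) (x : V) :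
    ¬ Z Om f r u x := by
  classical
  intro hx
  have : Fintype V := Fintype.ofFinite V
  let A : Finset V := Finset.univ.filter fun z => Z Om f r u z
  have hA : ∀ z, z ∈ A ↔ Z Om f r u z := fun z => by simp [A]
  have hinv : ∀ s ∈ S, ∀ z, Z Om f r u z → Z Om f r u (ρ s z) := fun s hs z hz =>
    hz.act h hf (hsr s hs) (hsu s hs)
  have hcard : (A.card : ZMod 2) = 0 := by
    let _act : MulAction S {z // Z Om f r u z} :=
      { smul := fun s z => ⟨ρ (s : H) z, hinv s s.2 z z.2⟩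
        one_smul := fun z => Subtype.ext (by
          show ρ ((1 : S) : H) (z : V) = z
          rw [Subgroup.coe_one, rone])
        mul_smul := fun s t z => Subtype.ext (by
          show ρ ((s * t : S) : H) (z : V) = ρ (s : H) (ρ (t : H) z)
          rw [Subgroup.coe_mul, rmul]) }
    have h1 := hS.card_modEq_card_fixedPoints {z // Z Om f r u z}
    have h2 : Nat.card (MulAction.fixedPoints S {z // Z Om f r u z}) = 0 := by
      rw [Nat.card_eq_zero]
      left
      refine ⟨fun z => ?_⟩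
      have h3 : ∀ s ∈ S, ρ s (z : {z // Z Om f r u z}).1 = (z : {z // Z Om f r u z}).1 := fun s hs =>
        congrArg Subtype.val (z.2 ⟨s, hs⟩)
      have hz := (z : {z // Z Om f r u z}).2
      obtain ⟨y, hy, h4 | h4⟩ := hfix _ h3
      · have hm := hz.mem
        rw [h4] at hm
        have f1 := hf.fn _ hm
        rw [map_add, hf.fixed_eq h hy, add_zero] at f1
        have f2 := (hf.fn r hr).addc f1
        rw [self_add_add] at f2
        exact hz.ne (h4.trans (h.no_rad_centre hr (h.rad_of_fixed hy) (hf.fn r hr) f2 (hf.ne r hr)))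
      · have h5 := hz.pu
        rw [h4, map_add, hf.comm u r, e, (hf.fn u hu).fixed (h.ne_zero hu) hy, add_zero] at h5
        exact one_ne_zero h5
    have h3 : Nat.card {z // Z Om f r u z} = A.card := by
      rw [Nat.card_eq_fintype_card, Fintype.card_subtype]
    rw [h2, h3] at h1
    exact (ZMod.natCast_eq_zero_iff _ _).2 ((Nat.modEq_zero_iff_dvd).1 h1)
  have hσ : f x (∑ z ∈ A, z) = 0 := by
    obtain ⟨y, hy, h1 | h1⟩ :=
      hfix _ (sum_fixed (ρ := ρ) A fun s hs z hz => (hA _).2 (hinv s hs z ((hA z).1 hz)))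
    · rw [h1, hf.comm, hf.fixed_eq h hy, LinearMap.zero_apply]
    · rw [h1, map_add, hf.comm x r, hx.pr, hf.comm, hf.fixed_eq h hy, LinearMap.zero_apply, add_zero]
  have hs1 : ∑ z ∈ A, (1 + f x z) = 0 := by
    rw [Finset.sum_add_distrib, Finset.sum_const, nsmul_eq_mul, mul_one, hcard, zero_add, ← map_sum]
    exact hσ
  have hs2 : ∑ z ∈ A.erase x, (1 + f x z) = 0 := by
    refine Finset.sum_involution (fun z _ => if f x z = 0 then x + z else z) ?_ ?_ ?_ ?_
    · intro z hz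
      by_cases h0 : f x z = 0
      · simp only [if_pos h0, map_add, hf.alt, zero_add]
        exact z2_add_self _
      · simp only [if_neg h0]
        exact z2_add_self _
    · intro z hz hne
      have h0 : f x z = 0 := by
        by_contra h0
        rw [z2_ne_zero h0] at hne
        exact hne (z2_add_self 1)
      simp only [if_pos h0]
      intro e'
      exact hx.ne (by simpa using e')
    · intro z hz
      rw [Finset.mem_erase] at hz
      by_cases h0 : f x z = 0
      · simp only [if_pos h0]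
        rw [Finset.mem_erase]
        refine ⟨?_, (hA _).2 (hx.add h hf hr hu e ((hA _).1 hz.2) h0 hz.1.symm)⟩
        intro e'
        exact ((hA _).1 hz.2).ne (by simpa using e')
      · simp only [if_neg h0]
        rw [Finset.mem_erase]
        exact hz
    · intro z hz
      by_cases h0 : f x z = 0
      · simp only [if_pos h0, map_add, hf.alt, zero_add, self_add_add]
      · simp only [if_neg h0]
  rw [← Finset.add_sum_erase A (fun z => 1 + f x z) ((hA x).2 hx), hs2, hf.alt, add_zero, add_zero] at hs1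
  exact one_ne_zero hs1

/-- **TV (3)** with `C_V(S) ≤ ⟨r⟩ + C_V(H)` : `V = {0, r, u, r + u}`. -/
theorem four' [Finite V] (h : Sys ρ Om) (hf : Frm ρ Om f) (hS : IsPGroup 2 S)
    (hr : r ∈ Om) (hu : u ∈ Om) (e : f r u = 1) (hsr : ∀ s ∈ S, ρ s r = r)
    (hsu : ∀ s ∈ S, ρ s u = u ∨ ρ s u = r + u)
    (hfix : ∀ v : V, (∀ s ∈ S, ρ s v = v) → ∃ y, (∀ g : H, ρ g y = y) ∧ (v = y ∨ v = r + y)) (w : V) :
    w = 0 ∨ w = r ∨ w = u ∨ w = r + u := by
  have hno := hf.no_Z' h hS hr hu e hsr hsu hfix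
  have hc := hf.clo_of_no_Z h hr hu e hno
  have hrad := Sys.rad_eq_bot_of h fun b hb c hc' hn hne => (hc b hb c hc' hn hne).1
  have h0 : ∀ y : V, (∀ g : H, ρ g y = y) → y = 0 := fun y hy => by
    have := h.rad_of_fixed hy
    rwa [hrad, Submodule.mem_bot] at this
  refine hf.four h hS hr hu e hsr hsu (fun v hv => ?_) w
  obtain ⟨y, hy, h1 | h1⟩ := hfix v hv
  · left; rw [h1, h0 y hy]
  · right; rw [h1, h0 y hy, add_zero]

end Frm

/-- **TV (3)**, from `Small`, with `C_V(S) ≤ ⟨r⟩ + C_V(H)`. -/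
theorem Sys.four' [Finite V] (h : Sys ρ Om) (hs : Sys.Small ρ Om) {S : Subgroup H} (hS : IsPGroup 2 S)
    {r u : V} (hr : r ∈ Om) (hu : u ∈ Om) (ha : Adj ρ r u) (hsr : ∀ s ∈ S, ρ s r = r)
    (hsu : ∀ s ∈ S, ρ s u = u ∨ ρ s u = r + u)
    (hfix : ∀ v : V, (∀ s ∈ S, ρ s v = v) → ∃ y, (∀ g : H, ρ g y = y) ∧ (v = y ∨ v = r + y)) (w : V) :
    w = 0 ∨ w = r ∨ w = u ∨ w = r + u := by
  obtain ⟨f, hf⟩ := h.exists_form hs
  exact hf.four' h hS hr hu ((hf.adj_iff hr).1 ha) hsr hsu hfix w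

end Cfsg.Agent.Omega.TV

end
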