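import Cfsg.Agent.Mrg.Omega.TV.Basic
import Cfsg.Agent.Mrg.Omega.TV.Sym

section


/-!
# THEOREM TV, the `GL_n` case: every transvection is induced

helper64, OMEGA / II.d, case A (bb #14186, #14872).

* `Sys.full` : one class + `Big` : every transvection of `V` is induced by `H`.
* `AllTv C N` : group language: for `U ≤ N`, `u ∈ U`, `a ∈ N - U` some `t ∈ C` centralizes `U`, maps `a` to
  `a * u` and is a transvection with centre `u`.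
* `GSys.allTv_of_full`.
-/

set_option autoImplicit false

namespace Cfsg.Agent.Omega.TV

open Module

section

variable {H : Type*} [Group H] {V : Type*} [AddCommGroup V] [Module (ZMod 2) V]
  {ρ : H →* (V ≃ₗ[ZMod 2] V)} {Om : Set V}

/-- The functionals of the induced transvections with centre `u`. -/
def fnSub (ρ : H →* (V ≃ₗ[ZMod 2] V)) (u : V) : Submodule (ZMod 2) (Dual (ZMod 2) V) where
  carrier := {φ | Fn ρ u φ}
  zero_mem' := Fn.zero u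
  add_mem' := fun h h' => Fn.add h h'
  smul_mem' := by
    intro c φ h
    rcases z2 c with rfl | rfl
    · rw [zero_smul]; exact Fn.zero u
    · rwa [one_smul]

theorem Sys.full [Finite V] (h : Sys ρ Om) (hb : Sys.Big ρ Om) (hc : Sys.Clo ρ Om) {r : V} (hr : r ∈ Om)
    (hall : ∀ w ∈ Om, Sys.Near ρ Om r w) {u : V} {φ : Dual (ZMod 2) V} (hφ : φ u = 0) : Fn ρ u φ := by
  classical
  by_cases hu0 : u = 0
  · subst hu0
    exact ⟨hφ, 1, fun x => by simp⟩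
  have hu : u ∈ Om := h.all_mem hc hr hall hu0
  by_contra hn
  have hn' : φ ∉ fnSub ρ u := hn
  obtain ⟨f, hf1, hf2⟩ := Submodule.exists_le_ker_of_notMem hn'
  obtain ⟨x, hx⟩ := (Module.evalEquiv (ZMod 2) V).surjective f
  have hx' : ∀ ψ : Dual (ZMod 2) V, f ψ = ψ x := by
    intro ψ; rw [← hx]; rfl
  have h1 : φ x ≠ 0 := by rw [← hx']; exact hf1
  have hx0 : x ≠ 0 := by rintro rfl; exact h1 (map_zero φ)
  have hxO : x ∈ Om := h.all_mem hc hr hall hx0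
  have hux : u ≠ x := by rintro rfl; exact h1 hφ
  have hn1 : Sys.Near ρ Om u x := h.near_trans hu hr hxO (h.near_symm hr hu (hall u hu)) (hall x hxO)
  obtain ⟨ψ, hψ, h2⟩ := h.adj_of_near hb hu hxO hux hn1
  have h3 : f ψ = 0 := hf2 (show ψ ∈ fnSub ρ u from hψ)
  rw [hx', h2] at h3
  exact one_ne_zero h3

end

variable {G : Type*} [Group G]

/-- Every transvection of the elementary abelian group `N` is induced by `C`. -/
def AllTv (C N : Subgroup G) : Prop :=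
  ∀ U : Subgroup G, U ≤ N → ∀ u ∈ U, ∀ a ∈ N, a ∉ U →
    ∃ t ∈ C, (∀ n ∈ U, t * n * t⁻¹ = n) ∧ t * a * t⁻¹ = a * u ∧
      ∀ n ∈ N, t * n * t⁻¹ = n ∨ t * n * t⁻¹ = n * u

/-- The submodule of `EA N h` of a subgroup `U ≤ N`. -/
def EA.ofSub {N : Subgroup G} {h : ∀ x ∈ N, x * x = 1} (U : Subgroup G) : Submodule (ZMod 2) (EA N h) where
  carrier := {a | a.val ∈ U}
  zero_mem' := U.one_mem
  add_mem' := fun ha hb => U.mul_mem ha hb
  smul_mem' := by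
    intro c a ha
    rcases z2 c with rfl | rfl
    · rw [zero_smul]; exact U.one_mem
    · rwa [one_smul]

theorem EA.mem_ofSub {N : Subgroup G} {h : ∀ x ∈ N, x * x = 1} {U : Subgroup G} {a : EA N h} :
    a ∈ (EA.ofSub U : Submodule (ZMod 2) (EA N h)) ↔ a.val ∈ U := Iff.rfl

namespace GSys

variable {C N : Subgroup G} {r : G} (h : GSys C N r)

include h

theorem allTv_of_full (hf : ∀ (u : EA N h.sq) (φ : Dual (ZMod 2) (EA N h.sq)), φ u = 0 → Fn h.rep u φ) :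
    AllTv C N := by
  intro U hU u hu a ha haU
  let aa := EA.mk h.sq a ha
  let uu := EA.mk h.sq u (hU hu)
  have h1 : aa ∉ (EA.ofSub U : Submodule (ZMod 2) (EA N h.sq)) := haU
  obtain ⟨φ, hφ1, hφ2⟩ := Submodule.exists_le_ker_of_notMem h1
  have hφa : φ aa = 1 := z2_ne_zero hφ1
  have hφu : φ uu = 0 := hφ2 (show uu ∈ EA.ofSub U from hu)
  obtain ⟨_, g, hg⟩ := hf uu φ hφu
  refine ⟨g, g.2, ?_, ?_, ?_⟩
  · intro n hn
    have h2 := hg (EA.mk h.sq n (hU hn))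
    have h3 : φ (EA.mk h.sq n (hU hn)) = 0 := hφ2 (show EA.mk h.sq n (hU hn) ∈ EA.ofSub U from hn)
    rw [h3, zero_smul, add_zero] at h2
    exact congrArg EA.val h2
  · have h2 := hg aa
    rw [hφa, one_smul] at h2
    exact congrArg EA.val h2
  · intro n hn
    have h2 := hg (EA.mk h.sq n hn)
    rcases z2 (φ (EA.mk h.sq n hn)) with e | e
    · left
      rw [e, zero_smul, add_zero] at h2
      exact congrArg EA.val h2
    · right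
      rw [e, one_smul] at h2
      exact congrArg EA.val h2

/-- **`GL_n` case, group form** : `Big` and one class. -/
theorem allTv [Finite G] {t : G} (ht : t ∈ C) (htn : ∀ n ∈ N, t * n * t⁻¹ = n ∨ t * n * t⁻¹ = n * r)
    (hne : ∃ n ∈ N, t * n * t⁻¹ ≠ n) (hb : Sys.Big h.rep h.pts) (hc : Sys.Clo h.rep h.pts)
    (hall : ∀ w ∈ h.pts, Sys.Near h.rep h.pts (EA.mk h.sq r h.mem) w) : AllTv C N :=
  h.allTv_of_full fun _ _ hφ => (h.toSys ht htn hne).full hb hc h.mem_pts_r hall hφ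

end GSys

end Cfsg.Agent.Omega.TV

end

section


/-!
# II.d, case 1, case A (`[N₁, N₂] = 1`): the `GL_n` half

helper64, paper text bb #14872 (shortening of #14186 (A)).  Statement symbols: `C = C_G(v₁)`, `D = C_G(v₂)`,
`N = N₁`, `B = N₂`, `K = K_{v₂}`.  Every transvection of `N` is induced by `C`, every transvection of `B` by `D`.

* `NN C B v₂ x` = `N₂^c` for `x = v₂^c ∈ N₁`.
* `Half.star` : `[W₁, K_{v₂}] ≤ N₂`.
* `Half.false` : the contradiction from the two halves.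
-/

set_option autoImplicit false

namespace Cfsg.Agent.Omega.IId.CaseA

open Cfsg.Agent.Omega.TV (AllTv)

variable {G : Type*} [Group G]

section prelim

theorem cm {N : Subgroup G} (h : ∀ x ∈ N, x * x = 1) {a b : G} (ha : a ∈ N) (hb : b ∈ N) : a * b = b * a :=
  Cfsg.Agent.Omega.TV.EA.comm_of h ha hb

theorem iv {a : G} (ha : a * a = 1) : a⁻¹ = a := inv_eq_of_mul_eq_one_left ha

/-- `U ∪ U a` for an involution `a` centralizing `U` -/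
def adj (U : Subgroup G) (a : G) (ha : a * a = 1) (hc : ∀ u ∈ U, u * a = a * u) : Subgroup G where
  carrier := {g | g ∈ U ∨ g * a ∈ U}
  one_mem' := Or.inl U.one_mem
  mul_mem' := by
    rintro x y hx hy
    rcases hx with hx | hx <;> rcases hy with hy | hy
    · exact Or.inl (U.mul_mem hx hy)
    · exact Or.inr (by rw [mul_assoc]; exact U.mul_mem hx hy)
    · refine Or.inr ?_
      have : x * y * a = (x * a) * y := by rw [mul_assoc, hc y hy, ← mul_assoc]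
      rw [this]
      exact U.mul_mem hx hy
    · refine Or.inl ?_
      have h1 := hc _ hy
      have h2 : y = y * a * a := by rw [mul_assoc, ha, mul_one]
      have : x * y = (x * a) * (y * a) := by
        rw [mul_assoc x a, ← h1, ← h2]
      rw [this]
      exact U.mul_mem hx hy
  inv_mem' := by
    rintro x hx
    rcases hx with hx | hx
    · exact Or.inl (U.inv_mem hx)
    · refine Or.inr ?_
      have h1 : (x * a)⁻¹ ∈ U := U.inv_mem hx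
      have h2 := hc _ h1
      have h3 : x⁻¹ * a = a * (x * a)⁻¹ * a := by
        rw [mul_inv_rev, iv ha, ← mul_assoc, ha, one_mul]
      rw [h3, mul_assoc, h2, ← mul_assoc, ha, one_mul]
      exact h1

theorem mem_adj {U : Subgroup G} {a : G} {ha : a * a = 1} {hc : ∀ u ∈ U, u * a = a * u} {g : G} :
    g ∈ adj U a ha hc ↔ g ∈ U ∨ g * a ∈ U := Iff.rfl

theorem adj_le {N U : Subgroup G} {a : G} {ha : a * a = 1} {hc : ∀ u ∈ U, u * a = a * u} (hU : U ≤ N)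
    (haN : a ∈ N) : adj U a ha hc ≤ N := by
  rintro g (h | h)
  · exact hU h
  · have h1 := N.mul_mem (hU h) (N.inv_mem haN)
    rwa [mul_assoc, mul_inv_cancel, mul_one] at h1

/-- two elements outside `U` are conjugate in `C_C(U)` -/
theorem move {C N : Subgroup G} (hN : ∀ x ∈ N, x * x = 1) (h : AllTv C N) {U : Subgroup G} (hU : U ≤ N)
    {y y' : G} (hy : y ∈ N) (hy' : y' ∈ N) (h1 : y ∉ U) (h2 : y' ∉ U) :
    ∃ t ∈ C, (∀ n ∈ U, t * n * t⁻¹ = n) ∧ t * y * t⁻¹ = y' := by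
  have hyy := N.mul_mem hy hy'
  have hW : adj U (y * y') (hN _ hyy) (fun u hu => cm hN (hU hu) hyy) ≤ N := adj_le hU hyy
  have h3 : y ∉ adj U (y * y') (hN _ hyy) (fun u hu => cm hN (hU hu) hyy) := by
    rintro (h | h)
    · exact h1 h
    · rw [← mul_assoc, hN y hy, one_mul] at h
      exact h2 h
  obtain ⟨t, ht, e1, e2, _⟩ := h _ hW (y * y') (Or.inr (by rw [hN _ hyy]; exact U.one_mem)) y hy h3
  refine ⟨t, ht, fun n hn => e1 n (Or.inl hn), ?_⟩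
  rw [e2, ← mul_assoc, hN y hy, one_mul]

/-- `{1, a}` -/
def one2 (a : G) (ha : a * a = 1) : Subgroup G := adj ⊥ a ha (by rintro u hu; rw [Subgroup.mem_bot.1 hu]; simp)

theorem mem_one2 {a : G} {ha : a * a = 1} {g : G} : g ∈ one2 a ha ↔ g = 1 ∨ g = a := by
  rw [one2, mem_adj, Subgroup.mem_bot, Subgroup.mem_bot]
  constructor
  · rintro (h | h)
    · exact Or.inl h
    · exact Or.inr (by rw [← iv ha]; exact eq_inv_of_mul_eq_one_left h)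
  · rintro (h | h)
    · exact Or.inl h
    · exact Or.inr (by rw [h, ha])

/-- `{1, v, x, x v}` -/
theorem exists_one3 {N : Subgroup G} (hN : ∀ x ∈ N, x * x = 1) {v x : G} (hv : v ∈ N) (hx : x ∈ N) :
    ∃ U : Subgroup G, U ≤ N ∧ ∀ g, g ∈ U ↔ g = 1 ∨ g = v ∨ g = x ∨ g = x * v := by
  have hle : one2 v (hN v hv) ≤ N := by
    rintro g hg
    rcases mem_one2.1 hg with rfl | rfl
    exacts [N.one_mem, hv]
  have hxv := cm hN hx hv
  refine ⟨adj (one2 v (hN v hv)) x (hN x hx) (fun u hu => cm hN (hle hu) hx), adj_le hle hx, fun g => ?_⟩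
  rw [mem_adj, mem_one2, mem_one2]
  constructor
  · rintro ((e | e) | (e | e))
    · exact Or.inl e
    · exact Or.inr (Or.inl e)
    · exact Or.inr (Or.inr (Or.inl (by rw [← iv (hN x hx)]; exact eq_inv_of_mul_eq_one_left e)))
    · refine Or.inr (Or.inr (Or.inr ?_))
      rw [hxv, ← e, mul_assoc, hN x hx, mul_one]
  · rintro (e | e | e | e)
    · exact Or.inl (Or.inl e)
    · exact Or.inl (Or.inr e)
    · exact Or.inr (Or.inl (by rw [e, hN x hx]))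
    · exact Or.inr (Or.inr (by rw [e, hxv, mul_assoc, hN x hx, mul_one]))

/-- conjugate subgroup -/
def cjs (c : G) (X : Subgroup G) : Subgroup G := X.map (MulAut.conj c).toMonoidHom

theorem mem_cjs {c y : G} {X : Subgroup G} : y ∈ cjs c X ↔ c⁻¹ * y * c ∈ X := by
  rw [cjs, Subgroup.mem_map]
  constructor
  · rintro ⟨x, hx, rfl⟩
    have : c⁻¹ * (MulAut.conj c x) * c = x := by rw [MulAut.conj_apply]; group
    show c⁻¹ * (MulAut.conj c x) * c ∈ X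
    rwa [this]
  · intro hy
    refine ⟨_, hy, ?_⟩
    show MulAut.conj c (c⁻¹ * y * c) = y
    rw [MulAut.conj_apply]; group

theorem AllTv.cj {D B : Subgroup G} (h : AllTv D B) (c : G) : AllTv (cjs c D) (cjs c B) := by
  intro U hU u hu a ha haU
  have e0 : ∀ z : G, c⁻¹ * (c * z * c⁻¹) * c = z := fun z => by group
  obtain ⟨t, ht, e1, e2, e3⟩ := h (cjs c⁻¹ U) (by
    intro z hz
    rw [mem_cjs, inv_inv] at hz
    have := mem_cjs.1 (hU hz)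
    rwa [e0] at this) (c⁻¹ * u * c) (mem_cjs.2 (by
    rw [inv_inv]
    have : c * (c⁻¹ * u * c) * c⁻¹ = u := by group
    rwa [this])) (c⁻¹ * a * c) (mem_cjs.1 ha) (by
    rw [mem_cjs, inv_inv]
    have : c * (c⁻¹ * a * c) * c⁻¹ = a := by group
    rwa [this])
  have key : ∀ z : G, (c * t * c⁻¹) * z * (c * t * c⁻¹)⁻¹ = c * (t * (c⁻¹ * z * c) * t⁻¹) * c⁻¹ := fun z => by group
  refine ⟨c * t * c⁻¹, mem_cjs.2 (by rwa [e0]), ?_, ?_, ?_⟩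
  · intro n hn
    rw [key, e1 _ (mem_cjs.2 (by
      rw [inv_inv]
      have : c * (c⁻¹ * n * c) * c⁻¹ = n := by group
      rwa [this]))]
    group
  · rw [key, e2]; group
  · intro n hn
    rw [key]
    rcases e3 _ (mem_cjs.1 hn) with e | e
    · left; rw [e]; group
    · right; rw [e]; group

theorem cj_ne {m a b : G} (e : a ≠ b) : m * a * m⁻¹ ≠ m * b * m⁻¹ := fun h => e (by simpa using h)

end prelim

/-- `N₂^c` for `x = v₂^c`, `c ∈ C` -/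
def NN (C B : Subgroup G) (v x : G) : Subgroup G where
  carrier := {y | ∀ c ∈ C, c * v * c⁻¹ = x → c⁻¹ * y * c ∈ B}
  one_mem' := by
    intro c _ _
    simp
  mul_mem' := by
    intro a b ha hb c hc e
    have : c⁻¹ * (a * b) * c = (c⁻¹ * a * c) * (c⁻¹ * b * c) := by group
    rw [this]
    exact B.mul_mem (ha c hc e) (hb c hc e)
  inv_mem' := by
    intro a ha c hc e
    have : c⁻¹ * a⁻¹ * c = (c⁻¹ * a * c)⁻¹ := by group
    rw [this]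
    exact B.inv_mem (ha c hc e)

theorem mem_NN {C B : Subgroup G} {v x y : G} :
    y ∈ NN C B v x ↔ ∀ c ∈ C, c * v * c⁻¹ = x → c⁻¹ * y * c ∈ B := Iff.rfl

/-- One side of case A, `GL_n` half. -/
structure Half (C D N B K : Subgroup G) (v₁ v₂ : G) : Prop where
  sqN : ∀ x ∈ N, x * x = 1
  sqB : ∀ x ∈ B, x * x = 1
  tvN : AllTv C N
  tvB : AllTv D B
  norN : ∀ c ∈ C, ∀ n ∈ N, c * n * c⁻¹ ∈ N
  norB : ∀ d ∈ D, ∀ n ∈ B, d * n * d⁻¹ ∈ B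
  v₂N : v₂ ∈ N
  v₁B : v₁ ∈ B
  ne₁ : v₁ ≠ 1
  ne₂ : v₂ ≠ 1
  C₁ : ∀ c ∈ C, c * v₁ * c⁻¹ = v₁
  D₂ : ∀ d ∈ D, d * v₂ * d⁻¹ = v₂
  CD : ∀ c ∈ C, c * v₂ * c⁻¹ = v₂ → c ∈ D
  DC : ∀ d ∈ D, d * v₁ * d⁻¹ = v₁ → d ∈ C
  KC : K ≤ C
  KD : K ≤ D
  norK : ∀ d ∈ D, ∀ k ∈ K, d * k * d⁻¹ ∈ K
  cenK : ∀ k ∈ K, ∀ b ∈ B, k * b * k⁻¹ = b
  tvK : ∀ k ∈ K, ∀ n ∈ N, k * n * k⁻¹ = n ∨ k * n * k⁻¹ = n * v₂
  movK : ∃ k ∈ K, ∃ n ∈ N, k * n * k⁻¹ ≠ n
  comm : ∀ c ∈ C, ∀ b ∈ B, ∀ b' ∈ B,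
    b * (c * b' * c⁻¹) = (c * b' * c⁻¹) * b ∨ b * (c * b' * c⁻¹) = (c * b' * c⁻¹) * b * v₁
  hJ : ∃ c ∈ C, c * v₂ * c⁻¹ ≠ v₂ ∧ ∃ b ∈ B, b ≠ 1 ∧ b ≠ v₁ ∧ c⁻¹ * b * c ∈ B
  nl : ∃ c ∈ C, ∃ b ∈ B, c * b * c⁻¹ ∉ B

namespace Half

variable {C D N B K : Subgroup G} {v₁ v₂ : G} (h : Half C D N B K v₁ v₂)

include h

theorem sq₁ : v₁ * v₁ = 1 := h.sqB _ h.v₁B

theorem sq₂ : v₂ * v₂ = 1 := h.sqN _ h.v₂N

theorem ex {x : G} (hx : x ∈ N) (hx1 : x ≠ 1) : ∃ c ∈ C, c * v₂ * c⁻¹ = x := by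
  obtain ⟨t, ht, _, e⟩ := move h.sqN h.tvN (U := ⊥) bot_le h.v₂N hx
    (fun e => h.ne₂ (Subgroup.mem_bot.1 e)) (fun e => hx1 (Subgroup.mem_bot.1 e))
  exact ⟨t, ht, e⟩

theorem mem_NN {c x y : G} (hc : c ∈ C) (e : c * v₂ * c⁻¹ = x) : y ∈ NN C B v₂ x ↔ c⁻¹ * y * c ∈ B := by
  constructor
  · intro hy
    exact hy c hc e
  · intro hy c' hc' e'
    have h1 : (c'⁻¹ * c) * v₂ * (c'⁻¹ * c)⁻¹ = v₂ := by
      have : (c'⁻¹ * c) * v₂ * (c'⁻¹ * c)⁻¹ = c'⁻¹ * (c * v₂ * c⁻¹) * c' := by group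
      rw [this, e, ← e']
      group
    have h2 := h.norB _ (h.CD _ (C.mul_mem (C.inv_mem hc') hc) h1) _ hy
    have : (c'⁻¹ * c) * (c⁻¹ * y * c) * (c'⁻¹ * c)⁻¹ = c'⁻¹ * y * c' := by group
    rwa [this] at h2

theorem NN_v₂ : NN C B v₂ v₂ = B := by
  ext y
  rw [h.mem_NN C.one_mem (by simp)]
  simp

theorem cj {c x y : G} (hc : c ∈ C) (hx : x ∈ N) (hx1 : x ≠ 1) :
    c * y * c⁻¹ ∈ NN C B v₂ (c * x * c⁻¹) ↔ y ∈ NN C B v₂ x := by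
  obtain ⟨a, ha, e⟩ := h.ex hx hx1
  rw [h.mem_NN ha e, h.mem_NN (c := c * a) (C.mul_mem hc ha) (by rw [← e]; group)]
  have : (c * a)⁻¹ * (c * y * c⁻¹) * (c * a) = a⁻¹ * y * a := by group
  rw [this]

theorem v₁_mem (x : G) : v₁ ∈ NN C B v₂ x := by
  intro c hc _
  have h1 := h.C₁ _ (C.inv_mem hc)
  rw [inv_inv] at h1
  rw [h1]
  exact h.v₁B

theorem sqNN {x y : G} (hx : x ∈ N) (hx1 : x ≠ 1) (hy : y ∈ NN C B v₂ x) : y * y = 1 := by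
  obtain ⟨c, hc, e⟩ := h.ex hx hx1
  have h1 := h.sqB _ ((h.mem_NN hc e).1 hy)
  have h2 : (c⁻¹ * y * c) * (c⁻¹ * y * c) = c⁻¹ * (y * y) * c := by group
  rw [h2] at h1
  have h3 : y * y = c * (c⁻¹ * (y * y) * c) * c⁻¹ := by group
  rw [h3, h1]
  simp

/-- elements of `W₁` commute modulo `v₁` -/
theorem commNN {x x' y y' : G} (hx : x ∈ N) (hx1 : x ≠ 1) (hx' : x' ∈ N) (hx1' : x' ≠ 1)
    (hy : y ∈ NN C B v₂ x) (hy' : y' ∈ NN C B v₂ x') : y * y' = y' * y ∨ y * y' = y' * y * v₁ := by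
  obtain ⟨c, hc, e⟩ := h.ex hx hx1
  obtain ⟨c', hc', e'⟩ := h.ex hx' hx1'
  have h1 := h.comm (c⁻¹ * c') (C.mul_mem (C.inv_mem hc) hc') _ ((h.mem_NN hc e).1 hy) _
    ((h.mem_NN hc' e').1 hy')
  have h2 : (c⁻¹ * c') * (c'⁻¹ * y' * c') * (c⁻¹ * c')⁻¹ = c⁻¹ * y' * c := by group
  rw [h2] at h1
  have h3 : (c⁻¹ * y * c) * (c⁻¹ * y' * c) = c⁻¹ * (y * y') * c := by group
  have h4 : (c⁻¹ * y' * c) * (c⁻¹ * y * c) = c⁻¹ * (y' * y) * c := by group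
  rw [h3, h4] at h1
  rcases h1 with h1 | h1
  · left
    have := congrArg (fun z => c * z * c⁻¹) h1
    simpa [mul_assoc] using this
  · right
    have h5 := h.C₁ _ hc
    have h6 := congrArg (fun z => c * z * c⁻¹) h1
    have h7 : c * (c⁻¹ * (y * y') * c) * c⁻¹ = y * y' := by group
    have h8 : c * (c⁻¹ * (y' * y) * c * v₁) * c⁻¹ = y' * y * (c * v₁ * c⁻¹) := by group
    have h9 : y * y' = c * (c⁻¹ * (y' * y) * c * v₁) * c⁻¹ := by rw [← h1]; group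
    rw [h9, h8, h5]

theorem m2 {x x' : G} (hx : x ∈ N) (hx' : x' ∈ N) (h1 : x ≠ 1) (h2 : x ≠ v₂) (h3 : x' ≠ 1) (h4 : x' ≠ v₂) :
    ∃ m ∈ C, m ∈ D ∧ m * x * m⁻¹ = x' := by
  obtain ⟨t, ht, e1, e2⟩ := move h.sqN h.tvN (U := one2 v₂ h.sq₂) (by
    rintro g hg
    rcases mem_one2.1 hg with rfl | rfl
    exacts [N.one_mem, h.v₂N]) hx hx' (fun e => (mem_one2.1 e).elim h1 h2)
    (fun e => (mem_one2.1 e).elim h3 h4)
  exact ⟨t, ht, h.CD t ht (e1 v₂ (mem_one2.2 (Or.inr rfl))), e2⟩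

theorem m2' {b b' : G} (hx : b ∈ B) (hx' : b' ∈ B) (h1 : b ≠ 1) (h2 : b ≠ v₁) (h3 : b' ≠ 1) (h4 : b' ≠ v₁) :
    ∃ m ∈ C, m ∈ D ∧ m * b * m⁻¹ = b' := by
  obtain ⟨t, ht, e1, e2⟩ := move h.sqB h.tvB (U := one2 v₁ h.sq₁) (by
    rintro g hg
    rcases mem_one2.1 hg with rfl | rfl
    exacts [B.one_mem, h.v₁B]) hx hx' (fun e => (mem_one2.1 e).elim h1 h2)
    (fun e => (mem_one2.1 e).elim h3 h4)
  exact ⟨t, h.DC t ht (e1 v₁ (mem_one2.2 (Or.inr rfl))), ht, e2⟩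

end Half

/-- `v`, `x`, `y` independent -/
def I3 (v x y : G) : Prop := x ≠ 1 ∧ x ≠ v ∧ y ≠ 1 ∧ y ≠ v ∧ y ≠ x ∧ y ≠ x * v

theorem I3.cj {v x y m : G} (h : I3 v x y) (e : m * v * m⁻¹ = v) : I3 v (m * x * m⁻¹) (m * y * m⁻¹) := by
  obtain ⟨h1, h2, h3, h4, h5, h6⟩ := h
  have e1 : (1 : G) = m * 1 * m⁻¹ := by simp
  refine ⟨?_, ?_, ?_, ?_, cj_ne h5, ?_⟩
  · rw [e1]; exact cj_ne h1
  · nth_rw 1 [← e]; exact cj_ne h2
  · rw [e1]; exact cj_ne h3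
  · nth_rw 1 [← e]; exact cj_ne h4
  · have e2 : m * x * m⁻¹ * v = m * (x * v) * m⁻¹ := by
      nth_rw 1 [← e]; group
    rw [e2]
    exact cj_ne h6

namespace Half

variable {C D N B K : Subgroup G} {v₁ v₂ : G} (h : Half C D N B K v₁ v₂)

include h

theorem m3 {x y y' : G} (hx : x ∈ N) (hy : y ∈ N) (hy' : y' ∈ N) (h1 : I3 v₂ x y) (h2 : I3 v₂ x y') :
    ∃ m ∈ C, m ∈ D ∧ m * x * m⁻¹ = x ∧ m * y * m⁻¹ = y' := by
  obtain ⟨U, hU, hm⟩ := exists_one3 h.sqN h.v₂N hx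
  obtain ⟨t, ht, e1, e2⟩ := move h.sqN h.tvN hU hy hy'
    (fun e => by
      rcases (hm _).1 e with e | e | e | e
      exacts [h1.2.2.1 e, h1.2.2.2.1 e, h1.2.2.2.2.1 e, h1.2.2.2.2.2 e])
    (fun e => by
      rcases (hm _).1 e with e | e | e | e
      exacts [h2.2.2.1 e, h2.2.2.2.1 e, h2.2.2.2.2.1 e, h2.2.2.2.2.2 e])
  exact ⟨t, ht, h.CD t ht (e1 v₂ ((hm _).2 (by simp))), e1 x ((hm _).2 (by simp)), e2⟩

/-- (1) -/
theorem J_mul {x b : G} (hx : x ∈ N) (h1 : x ≠ 1) (h2 : x ≠ v₂) (hb : b ∈ B) (hbx : b ∈ NN C B v₂ x) :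
    b ∈ NN C B v₂ (x * v₂) := by
  obtain ⟨k, hk, n, hn, hkn⟩ := h.movK
  have hn1 : n ≠ 1 := by rintro rfl; exact hkn (by simp)
  have hn2 : n ≠ v₂ := by rintro rfl; exact hkn (h.D₂ k (h.KD hk))
  obtain ⟨m, hmC, hmD, e⟩ := h.m2 hn hx hn1 hn2 h1 h2
  have h3 := h.norK m hmD k hk
  have h4 : (m * k * m⁻¹) * x * (m * k * m⁻¹)⁻¹ = x * v₂ := by
    have : (m * k * m⁻¹) * x * (m * k * m⁻¹)⁻¹ = m * (k * n * k⁻¹) * m⁻¹ := by rw [← e]; group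
    rw [this, (h.tvK k hk n hn).resolve_left hkn]
    have : m * (n * v₂) * m⁻¹ = (m * n * m⁻¹) * (m * v₂ * m⁻¹) := by group
    rw [this, e, h.D₂ m hmD]
  have h5 := (h.cj (h.KC h3) hx h1).2 hbx
  rwa [h4, h.cenK _ h3 b hb] at h5

theorem J_ne {x : G} (hx : x ∈ N) (h1 : x ≠ 1) (h2 : x ≠ v₂) : ∃ b ∈ B, b ∉ NN C B v₂ x := by
  by_contra hcon
  push Not at hcon
  have key : ∀ y ∈ N, y ≠ 1 → ∀ b ∈ B, b ∈ NN C B v₂ y := by
    intro y hy hy1 b hb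
    by_cases hy2 : y = v₂
    · rw [hy2, h.NN_v₂]; exact hb
    obtain ⟨m, hmC, hmD, e⟩ := h.m2 hx hy h1 h2 hy1 hy2
    have h3 := h.norB _ (D.inv_mem hmD) _ hb
    rw [inv_inv] at h3
    have h4 := (h.cj hmC hx h1).2 (hcon _ h3)
    rw [e] at h4
    have : m * (m⁻¹ * b * m) * m⁻¹ = b := by group
    rwa [this] at h4
  obtain ⟨c, hc, b, hb, hcb⟩ := h.nl
  have hy : c⁻¹ * v₂ * c ∈ N := by
    have := h.norN _ (C.inv_mem hc) _ h.v₂N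
    rwa [inv_inv] at this
  have hy1 : c⁻¹ * v₂ * c ≠ 1 := by
    intro e
    apply h.ne₂
    have : v₂ = c * (c⁻¹ * v₂ * c) * c⁻¹ := by group
    rw [this, e]; simp
  have h3 := (h.mem_NN (C.inv_mem hc) (by group)).1 (key _ hy hy1 b hb)
  rw [inv_inv] at h3
  exact hcb h3

theorem J_big {x : G} (hx : x ∈ N) (h1 : x ≠ 1) (h2 : x ≠ v₂) : ∃ b ∈ B, b ∈ NN C B v₂ x ∧ b ≠ 1 ∧ b ≠ v₁ := by
  obtain ⟨c, hc, hcv, b, hb, hb1, hb2, hb3⟩ := h.hJ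
  have h3 := h.norN c hc _ h.v₂N
  have h4 : c * v₂ * c⁻¹ ≠ 1 := by
    intro e
    apply h.ne₂
    have : v₂ = c⁻¹ * (c * v₂ * c⁻¹) * c := by group
    rw [this, e]; simp
  obtain ⟨m, hmC, hmD, e⟩ := h.m2 h3 hx h4 hcv h1 h2
  refine ⟨m * b * m⁻¹, h.norB m hmD b hb, ?_, ?_, ?_⟩
  · rw [← e]
    exact (h.cj hmC h3 h4).2 ((h.mem_NN hc rfl).2 hb3)
  · intro e'
    apply hb1
    have : b = m⁻¹ * (m * b * m⁻¹) * m := by group
    rw [this, e']; simp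
  · intro e'
    apply hb2
    have : b = m⁻¹ * (m * b * m⁻¹) * m := by group
    rw [this, e']
    have := h.C₁ _ (C.inv_mem hmC)
    rwa [inv_inv] at this

theorem m23 {x y x' y' : G} (hx : x ∈ N) (hy : y ∈ N) (hx' : x' ∈ N) (hy' : y' ∈ N) (h1 : I3 v₂ x y)
    (h2 : I3 v₂ x' y') : ∃ m ∈ C, m ∈ D ∧ m * x * m⁻¹ = x' ∧ m * y * m⁻¹ = y' := by
  obtain ⟨m, hmC, hmD, e⟩ := h.m2 hx hx' h1.1 h1.2.1 h2.1 h2.2.1
  have h3 := h1.cj (h.D₂ m hmD)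
  rw [e] at h3
  obtain ⟨m', hmC', hmD', e1, e2⟩ := h.m3 hx' (h.norN m hmC y hy) hy' h3 h2
  refine ⟨m' * m, C.mul_mem hmC' hmC, D.mul_mem hmD' hmD, ?_, ?_⟩
  · rw [← e1, ← e]; group
  · rw [← e2]; group

theorem tvB_of {c₀ h₀ : G} (hc : c₀ ∈ B) (hh : h₀ ∈ B) (h1 : h₀ ≠ 1) (h2 : h₀ ≠ v₁) (h3 : h₀ ≠ c₀)
    (h4 : h₀ ≠ c₀ * v₁) : ∃ t ∈ C, t ∈ D ∧ t * h₀ * t⁻¹ = h₀ * c₀ ∧ t * c₀ * t⁻¹ = c₀ ∧
      ∀ n ∈ B, t * n * t⁻¹ = n ∨ t * n * t⁻¹ = n * c₀ := by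
  obtain ⟨U, hU, hm⟩ := exists_one3 h.sqB h.v₁B hc
  obtain ⟨t, ht, e1, e2, e3⟩ := h.tvB U hU c₀ ((hm _).2 (by simp)) h₀ hh (fun e => by
    rcases (hm _).1 e with e | e | e | e
    exacts [h1 e, h2 e, h3 e, h4 e])
  exact ⟨t, h.DC t ht (e1 v₁ ((hm _).2 (by simp))), ht, e2, e1 c₀ ((hm _).2 (by simp)), e3⟩

/-- inverse transvection -/
theorem tv_inv {t c₀ : G} (hc : c₀ ∈ B) (h1 : t * c₀ * t⁻¹ = c₀)
    (h2 : ∀ n ∈ B, t * n * t⁻¹ = n ∨ t * n * t⁻¹ = n * c₀) {n : G} (hn : n ∈ B) :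
    t⁻¹ * n * t = t * n * t⁻¹ := by
  rcases h2 n hn with e | e
  · rw [e]
    nth_rw 1 [← e]; group
  · rw [e]
    have e1 : t * (n * c₀) * t⁻¹ = n := by
      have : t * (n * c₀) * t⁻¹ = (t * n * t⁻¹) * (t * c₀ * t⁻¹) := by group
      rw [this, e, h1, mul_assoc, h.sqB c₀ hc, mul_one]
    nth_rw 1 [← e1]; group

theorem J_two {x y : G} (hx : x ∈ N) (hy : y ∈ N) (hI : I3 v₂ x y) :
    (∃ b ∈ B, b ∈ NN C B v₂ x ∧ b ∉ NN C B v₂ y) ∧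
      ∀ a ∈ B, a ∈ NN C B v₂ x → a ∉ NN C B v₂ y → ∀ b ∈ B, b ∈ NN C B v₂ x → b ∉ NN C B v₂ y →
        a * b ∈ NN C B v₂ y := by
  -- a special pair
  obtain ⟨h₀, hh, hhx, hh1, hh2⟩ := h.J_big hx hI.1 hI.2.1
  obtain ⟨c₀, hc, hcx⟩ := h.J_ne hx hI.1 hI.2.1
  obtain ⟨t, htC, htD, e1, e2, e3⟩ := h.tvB_of hc hh hh1 hh2 (by rintro rfl; exact hcx hhx) (by
    intro e
    apply hcx
    have : c₀ = h₀ * v₁ := by rw [e, mul_assoc, h.sq₁, mul_one]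
    rw [this]
    exact Subgroup.mul_mem _ hhx (h.v₁_mem x))
  have ht2 := h.D₂ t htD
  have hzN := h.norN t htC x hx
  set z := t * x * t⁻¹ with hz
  have hz1 : z ≠ 1 := by
    rw [hz]
    intro e
    exact hI.1 (conj_eq_one_iff.1 e)
  have hz2 : z ≠ v₂ := by
    have := cj_ne (m := t) hI.2.1
    rwa [ht2] at this
  have hmem : ∀ b ∈ B, b ∈ NN C B v₂ z ↔ t * b * t⁻¹ ∈ NN C B v₂ x := by
    intro b hb
    rw [← h.tv_inv hc e2 e3 hb, hz, ← h.cj (c := t) htC hx hI.1]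
    have : t * (t⁻¹ * b * t) * t⁻¹ = b := by group
    rw [this]
  have hhz : h₀ ∉ NN C B v₂ z := by
    rw [hmem h₀ hh, e1]
    intro h5
    exact hcx ((Subgroup.mul_mem_cancel_left _ hhx).1 h5)
  have hI' : I3 v₂ x z := by
    refine ⟨hI.1, hI.2.1, hz1, hz2, ?_, ?_⟩
    · intro e; rw [e] at hhz; exact hhz hhx
    · intro e; rw [e] at hhz; exact hhz (h.J_mul hx hI.1 hI.2.1 hh hhx)
  obtain ⟨m, hmC, hmD, m1, m2⟩ := h.m23 hx hzN hx hy hI' hI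
  have hB : ∀ b, m⁻¹ * b * m ∈ B ↔ b ∈ B := by
    intro b
    constructor
    · intro hb
      have := h.norB m hmD _ hb
      have e : m * (m⁻¹ * b * m) * m⁻¹ = b := by group
      rwa [e] at this
    · intro hb
      have := h.norB _ (D.inv_mem hmD) _ hb
      rwa [inv_inv] at this
  have hX : ∀ b, m⁻¹ * b * m ∈ NN C B v₂ x ↔ b ∈ NN C B v₂ x := by
    intro b
    rw [← h.cj hmC hx hI.1, m1]
    have e : m * (m⁻¹ * b * m) * m⁻¹ = b := by group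
    rw [e]
  have hY : ∀ b, m⁻¹ * b * m ∈ NN C B v₂ z ↔ b ∈ NN C B v₂ y := by
    intro b
    rw [← h.cj hmC hzN hz1, m2]
    have e : m * (m⁻¹ * b * m) * m⁻¹ = b := by group
    rw [e]
  have hcen : ∀ a ∈ B, a ∈ NN C B v₂ x → a ∉ NN C B v₂ z → t * a * t⁻¹ = a * c₀ := by
    intro a ha hax haz
    refine (e3 a ha).resolve_left fun e => haz ?_
    rw [hmem a ha, e]
    exact hax
  refine ⟨⟨m * h₀ * m⁻¹, h.norB m hmD _ hh, ?_, ?_⟩, ?_⟩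
  · rw [← hX]
    have e : m⁻¹ * (m * h₀ * m⁻¹) * m = h₀ := by group
    rwa [e]
  · rw [← hY]
    have e : m⁻¹ * (m * h₀ * m⁻¹) * m = h₀ := by group
    rwa [e]
  · intro a ha hax hay b hb hbx hby
    rw [← hY]
    have e : m⁻¹ * (a * b) * m = (m⁻¹ * a * m) * (m⁻¹ * b * m) := by group
    rw [e]
    have ha' := (hB a).2 ha
    have hb' := (hB b).2 hb
    rw [hmem _ (B.mul_mem ha' hb')]
    have f1 := hcen _ ha' ((hX a).2 hax) (fun e => hay ((hY a).1 e))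
    have f2 := hcen _ hb' ((hX b).2 hbx) (fun e => hby ((hY b).1 e))
    have f3 : t * ((m⁻¹ * a * m) * (m⁻¹ * b * m)) * t⁻¹ =
        (t * (m⁻¹ * a * m) * t⁻¹) * (t * (m⁻¹ * b * m) * t⁻¹) := by group
    have f4 : (m⁻¹ * a * m) * c₀ * ((m⁻¹ * b * m) * c₀) = (m⁻¹ * a * m) * (m⁻¹ * b * m) := by
      have : c₀ * ((m⁻¹ * b * m) * c₀) = m⁻¹ * b * m := by
        rw [cm h.sqB hb' hc, ← mul_assoc, h.sqB c₀ hc, one_mul]
      rw [mul_assoc, this]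
    rw [f3, f1, f2, f4]
    exact Subgroup.mul_mem _ ((hX a).2 hax) ((hX b).2 hbx)

theorem hmem_t {t c₀ y : G} (htC : t ∈ C) (hc : c₀ ∈ B) (e2 : t * c₀ * t⁻¹ = c₀)
    (e3 : ∀ n ∈ B, t * n * t⁻¹ = n ∨ t * n * t⁻¹ = n * c₀) (hy : y ∈ N) (hy1 : y ≠ 1) {b : G} (hb : b ∈ B) :
    b ∈ NN C B v₂ (t * y * t⁻¹) ↔ t * b * t⁻¹ ∈ NN C B v₂ y := by
  rw [← h.tv_inv hc e2 e3 hb, ← h.cj (c := t) htC hy hy1]
  have : t * (t⁻¹ * b * t) * t⁻¹ = b := by group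
  rw [this]

theorem I3_symm {x y : G} (hI : I3 v₂ x y) : I3 v₂ y x := by
  obtain ⟨h1, h2, h3, h4, h5, h6⟩ := hI
  refine ⟨h3, h4, h1, h2, h5.symm, ?_⟩
  intro e
  apply h6
  have : y = x * v₂⁻¹ := by rw [e]; group
  rw [this, iv h.sq₂]

theorem exists_I3 {x : G} (hx : x ∈ N) (h1 : x ≠ 1) (h2 : x ≠ v₂) : ∃ y ∈ N, I3 v₂ x y := by
  obtain ⟨h₀, hh, hhx, hh1, hh2⟩ := h.J_big hx h1 h2
  obtain ⟨c₀, hc, hcx⟩ := h.J_ne hx h1 h2
  obtain ⟨t, htC, htD, e1, e2, e3⟩ := h.tvB_of hc hh hh1 hh2 (by rintro rfl; exact hcx hhx) (by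
    intro e
    apply hcx
    have : c₀ = h₀ * v₁ := by rw [e, mul_assoc, h.sq₁, mul_one]
    rw [this]
    exact Subgroup.mul_mem _ hhx (h.v₁_mem x))
  have ht2 := h.D₂ t htD
  have hhz : h₀ ∉ NN C B v₂ (t * x * t⁻¹) := by
    rw [h.hmem_t htC hc e2 e3 hx h1 hh, e1]
    intro h5
    exact hcx ((Subgroup.mul_mem_cancel_left _ hhx).1 h5)
  refine ⟨t * x * t⁻¹, h.norN t htC x hx, h1, h2, fun e => h1 (conj_eq_one_iff.1 e), ?_, ?_, ?_⟩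
  · have := cj_ne (m := t) h2
    rwa [ht2] at this
  · intro e; rw [e] at hhz; exact hhz hhx
  · intro e; rw [e] at hhz; exact hhz (h.J_mul hx h1 h2 hh hhx)

/-- (3) -/
theorem dich : (∀ x ∈ N, x ≠ 1 → x ≠ v₂ → ∀ a ∈ B, a ∈ NN C B v₂ x → a ≠ 1 → a ≠ v₁ →
      ∀ b ∈ B, b ∈ NN C B v₂ x → b ≠ 1 → b ≠ v₁ → a * b = 1 ∨ a * b = v₁) ∨
    (∀ x ∈ N, x ≠ 1 → x ≠ v₂ → ∀ a ∈ B, a ∉ NN C B v₂ x → ∀ b ∈ B, b ∉ NN C B v₂ x →
      a * b ∈ NN C B v₂ x) := by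
  by_contra hcon
  push Not at hcon
  obtain ⟨⟨x₁, hx₁, h11, h12, a, ha, hax, ha1, ha2, b, hb, hbx, hb1, hb2, hab1, hab2⟩,
    x, hx, hx1, hx2, c, hc, hcx, d, hd, hdx, hcd⟩ := hcon
  obtain ⟨m, hmC, hmD, e⟩ := h.m2 hx₁ hx h11 h12 hx1 hx2
  obtain ⟨y, hy, hI⟩ := h.exists_I3 hx hx1 hx2
  obtain ⟨⟨f, hf, hfx, hfy⟩, t1⟩ := h.J_two hx hy hI
  obtain ⟨⟨g, hg, hgy, hgx⟩, t2⟩ := h.J_two hy hx (h.I3_symm hI)
  -- an element of `J_x ∩ J_y` outside `⟨v₁⟩`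
  have hv : ∀ z, m * z * m⁻¹ = v₁ → z = v₁ := by
    intro z hz
    have h1 := h.C₁ _ (C.inv_mem hmC)
    rw [inv_inv, ← hz] at h1
    have h2 : m⁻¹ * (m * z * m⁻¹) * m = z := by group
    rw [h2, hz] at h1
    exact h1
  have hh : ∃ p ∈ B, p ∈ NN C B v₂ x ∧ p ∈ NN C B v₂ y ∧ p ≠ 1 ∧ p ≠ v₁ := by
    have ha' := h.norB m hmD a ha
    have hb' := h.norB m hmD b hb
    have hax' := (h.cj hmC hx₁ h11).2 hax
    have hbx' := (h.cj hmC hx₁ h11).2 hbx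
    rw [e] at hax' hbx'
    by_cases q1 : m * a * m⁻¹ ∈ NN C B v₂ y
    · exact ⟨_, ha', hax', q1, fun e' => ha1 (conj_eq_one_iff.1 e'), fun e' => ha2 (hv _ e')⟩
    by_cases q2 : m * b * m⁻¹ ∈ NN C B v₂ y
    · exact ⟨_, hb', hbx', q2, fun e' => hb1 (conj_eq_one_iff.1 e'), fun e' => hb2 (hv _ e')⟩
    have q3 := t1 _ ha' hax' q1 _ hb' hbx' q2
    have q4 : m * a * m⁻¹ * (m * b * m⁻¹) = m * (a * b) * m⁻¹ := by group
    refine ⟨_, B.mul_mem ha' hb', Subgroup.mul_mem _ hax' hbx', q3, ?_, ?_⟩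
    · rw [q4]; exact fun e' => hab1 (conj_eq_one_iff.1 e')
    · rw [q4]; exact fun e' => hab2 (hv _ e')
  obtain ⟨p, hp, hpx, hpy, hp1, hp2⟩ := hh
  -- an element outside `J_x J_y`
  have hq : ∃ q ∈ B, q ∉ NN C B v₂ x ∧ q * g ∉ NN C B v₂ x := by
    by_cases q1 : c * g ∈ NN C B v₂ x
    · by_cases q2 : d * g ∈ NN C B v₂ x
      · exfalso
        apply hcd
        have q3 := Subgroup.mul_mem _ q1 q2
        have q4 : c * g * (d * g) = c * d := by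
          have : g * (d * g) = d := by rw [cm h.sqB hd hg, ← mul_assoc, h.sqB g hg, one_mul]
          rw [mul_assoc, this]
        rwa [q4] at q3
      · exact ⟨d, hd, hdx, q2⟩
    · exact ⟨c, hc, hcx, q1⟩
  obtain ⟨q, hq, hqx, hqg⟩ := hq
  have claim : ∀ r ∈ B, r ∈ NN C B v₂ x → r * q ∉ NN C B v₂ y := by
    intro r hr hrx hrq
    have q1 : r * q ∉ NN C B v₂ x := fun e' => hqx ((Subgroup.mul_mem_cancel_left _ hrx).1 e')
    have q2 := t2 _ (B.mul_mem hr hq) hrq q1 g hg hgy hgx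
    rw [mul_assoc] at q2
    exact hqg ((Subgroup.mul_mem_cancel_left _ hrx).1 q2)
  obtain ⟨t, htC, htD, e1, e2, e3⟩ := h.tvB_of hq hp hp1 hp2 (by rintro rfl; exact hqx hpx) (by
    intro e'
    apply hqx
    have : q = p * v₁ := by rw [e', mul_assoc, h.sq₁, mul_one]
    rw [this]
    exact Subgroup.mul_mem _ hpx (h.v₁_mem x))
  have hmem := fun {b : G} (hb : b ∈ B) => h.hmem_t htC hq e2 e3 hy hI.2.2.1 hb
  have hpz : p ∉ NN C B v₂ (t * y * t⁻¹) := by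
    rw [hmem hp, e1]
    exact claim p hp hpx
  have hI' : I3 v₂ x (t * y * t⁻¹) := by
    refine ⟨hx1, hx2, fun e => hI.2.2.1 (conj_eq_one_iff.1 e), ?_, ?_, ?_⟩
    · have := cj_ne (m := t) hI.2.2.2.1
      rwa [h.D₂ t htD] at this
    · intro e; rw [e] at hpz; exact hpz hpx
    · intro e; rw [e] at hpz; exact hpz (h.J_mul hx hx1 hx2 hp hpx)
  obtain ⟨-, t3⟩ := h.J_two hx (h.norN t htC y hy) hI'
  have hno : ∀ r ∈ B, r ∈ NN C B v₂ x → r ∉ NN C B v₂ y → r ∉ NN C B v₂ (t * y * t⁻¹) := by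
    intro r hr hrx hry
    rw [hmem hr]
    rcases e3 r hr with e' | e'
    · rwa [e']
    · rw [e']; exact claim r hr hrx
  have f1 := hno f hf hfx hfy
  have f2 := t3 f hf hfx f1 p hp hpx hpz
  exact hno _ (B.mul_mem hf hp) (Subgroup.mul_mem _ hfx hpx)
    (fun e' => hfy ((Subgroup.mul_mem_cancel_right _ hpy).1 e')) f2

/-- the same data at another point of `N` -/
theorem conj {c : G} (hc : c ∈ C) : Half C (cjs c D) N (cjs c B) (cjs c K) v₁ (c * v₂ * c⁻¹) := by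
  have e0 : ∀ z : G, c⁻¹ * (c * z * c⁻¹) * c = z := fun z => by group
  have e0' : ∀ z : G, c * (c⁻¹ * z * c) * c⁻¹ = z := fun z => by group
  have hci := C.inv_mem hc
  have hcv : c⁻¹ * v₁ * c = v₁ := by
    have := h.C₁ _ hci
    rwa [inv_inv] at this
  have hmul : ∀ a b : G, c⁻¹ * (a * b * a⁻¹) * c = (c⁻¹ * a * c) * (c⁻¹ * b * c) * (c⁻¹ * a * c)⁻¹ :=
    fun a b => by group
  have hmul2 : ∀ a b : G, c⁻¹ * (a * b) * c = (c⁻¹ * a * c) * (c⁻¹ * b * c) := fun a b => by group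
  have hinj : ∀ {a b : G}, c⁻¹ * a * c = c⁻¹ * b * c → a = b := fun {a b} e => by
    rw [← e0' a, e, e0']
  have hC' : ∀ a, c⁻¹ * a * c ∈ C ↔ a ∈ C := by
    intro a
    constructor
    · intro ha
      have := C.mul_mem (C.mul_mem hc ha) hci
      rwa [e0'] at this
    · intro ha
      exact C.mul_mem (C.mul_mem hci ha) hc
  have hN' : ∀ {a}, a ∈ N → c⁻¹ * a * c ∈ N := by
    intro a ha
    have := h.norN _ hci a ha
    rwa [inv_inv] at this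
  refine
    { sqN := h.sqN
      sqB := ?_
      tvN := h.tvN
      tvB := AllTv.cj h.tvB c
      norN := h.norN
      norB := ?_
      v₂N := h.norN c hc _ h.v₂N
      v₁B := mem_cjs.2 (by rw [hcv]; exact h.v₁B)
      ne₁ := h.ne₁
      ne₂ := fun e => h.ne₂ (conj_eq_one_iff.1 e)
      C₁ := h.C₁
      D₂ := ?_
      CD := ?_
      DC := ?_
      KC := ?_
      KD := ?_
      norK := ?_
      cenK := ?_
      tvK := ?_
      movK := ?_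
      comm := ?_
      hJ := ?_
      nl := ?_ }
  · intro x hx
    refine hinj ?_
    rw [hmul2, h.sqB _ (mem_cjs.1 hx)]; simp
  · intro d hd n hn
    rw [mem_cjs, hmul]
    exact h.norB _ (mem_cjs.1 hd) _ (mem_cjs.1 hn)
  · intro d hd
    refine hinj ?_
    rw [hmul, e0, h.D₂ _ (mem_cjs.1 hd)]
  · intro a ha e
    rw [mem_cjs]
    refine h.CD _ ((hC' a).2 ha) ?_
    have e2 : c⁻¹ * (a * (c * v₂ * c⁻¹) * a⁻¹) * c = c⁻¹ * (c * v₂ * c⁻¹) * c := by rw [e]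
    rwa [hmul, e0] at e2
  · intro d hd e
    rw [← hC']
    refine h.DC _ (mem_cjs.1 hd) ?_
    have e2 : c⁻¹ * (d * v₁ * d⁻¹) * c = c⁻¹ * v₁ * c := by rw [e]
    rwa [hmul, hcv] at e2
  · intro k hk
    exact (hC' k).1 (h.KC (mem_cjs.1 hk))
  · intro k hk
    exact mem_cjs.2 (h.KD (mem_cjs.1 hk))
  · intro d hd k hk
    rw [mem_cjs, hmul]
    exact h.norK _ (mem_cjs.1 hd) _ (mem_cjs.1 hk)
  · intro k hk b hb
    refine hinj ?_
    rw [hmul, h.cenK _ (mem_cjs.1 hk) _ (mem_cjs.1 hb)]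
  · intro k hk n hn
    rcases h.tvK _ (mem_cjs.1 hk) _ (hN' hn) with e | e
    · left
      refine hinj ?_
      rw [hmul, e]
    · right
      refine hinj ?_
      rw [hmul, hmul2, e0, e]
  · obtain ⟨k, hk, n, hn, e⟩ := h.movK
    refine ⟨c * k * c⁻¹, mem_cjs.2 (by rwa [e0]), c * n * c⁻¹, h.norN c hc n hn, fun e' => e ?_⟩
    have e2 : c⁻¹ * ((c * k * c⁻¹) * (c * n * c⁻¹) * (c * k * c⁻¹)⁻¹) * c = c⁻¹ * (c * n * c⁻¹) * c := by
      rw [e']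
    rwa [hmul, e0, e0] at e2
  · intro a ha b hb b' hb'
    have e1 := h.comm (c⁻¹ * a * c) ((hC' a).2 ha) _ (mem_cjs.1 hb) _ (mem_cjs.1 hb')
    rcases e1 with e1 | e1
    · left
      refine hinj ?_
      rw [hmul2 b, hmul2 (a * b' * a⁻¹) b, hmul]
      exact e1
    · right
      refine hinj ?_
      rw [hmul2 b, hmul2 _ v₁, hmul2 (a * b' * a⁻¹) b, hmul, hcv]
      exact e1
  · obtain ⟨a, ha, hav, b, hb, hb1, hb2, hb3⟩ := h.hJ
    have e1 : (c * a * c⁻¹) * (c * v₂ * c⁻¹) * (c * a * c⁻¹)⁻¹ = c * (a * v₂ * a⁻¹) * c⁻¹ := by group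
    refine ⟨c * a * c⁻¹, C.mul_mem (C.mul_mem hc ha) hci, by rw [e1]; exact cj_ne hav, c * b * c⁻¹,
      mem_cjs.2 (by rwa [e0]), fun e => hb1 (conj_eq_one_iff.1 e), ?_, ?_⟩
    · intro e
      apply hb2
      rw [← e0 b, e, hcv]
    · rw [mem_cjs]
      have e2 : c⁻¹ * ((c * a * c⁻¹)⁻¹ * (c * b * c⁻¹) * (c * a * c⁻¹)) * c = a⁻¹ * b * a := by group
      rwa [e2]
  · obtain ⟨a, ha, b, hb, hab⟩ := h.nl
    refine ⟨c * a * c⁻¹, C.mul_mem (C.mul_mem hc ha) hci, c * b * c⁻¹, mem_cjs.2 (by rwa [e0]), ?_⟩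
    rw [mem_cjs]
    have e2 : c⁻¹ * ((c * a * c⁻¹) * (c * b * c⁻¹) * (c * a * c⁻¹)⁻¹) * c = a * b * a⁻¹ := by group
    rwa [e2]

omit h in
theorem NN_conj {c : G} (hc : c ∈ C) (x : G) : NN C (cjs c B) (c * v₂ * c⁻¹) x = NN C B v₂ x := by
  ext y
  rw [CaseA.mem_NN, CaseA.mem_NN]
  constructor
  · intro hy a ha e
    have h1 := hy (a * c⁻¹) (C.mul_mem ha (C.inv_mem hc)) (by rw [← e]; group)
    rw [mem_cjs] at h1
    have : c⁻¹ * ((a * c⁻¹)⁻¹ * y * (a * c⁻¹)) * c = a⁻¹ * y * a := by group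
    rwa [this] at h1
  · intro hy a ha e
    have h1 := hy (a * c) (C.mul_mem ha hc) (by rw [← e]; group)
    rw [mem_cjs]
    have : c⁻¹ * (a⁻¹ * y * a) * c = (a * c)⁻¹ * y * (a * c) := by group
    rwa [this]

omit h in
theorem NN_q {c : G} (h : Half C D N B K v₁ v₂) (hc : c ∈ C) : NN C B v₂ (c * v₂ * c⁻¹) = cjs c B := by
  ext y
  rw [h.mem_NN hc rfl, mem_cjs]

/-- (1) at `q` -/
theorem q_mul {q x b : G} (hq : q ∈ N) (hq1 : q ≠ 1) (hx : x ∈ N) (h1 : x ≠ 1) (h2 : x ≠ q)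
    (hb : b ∈ NN C B v₂ q) (hbx : b ∈ NN C B v₂ x) : b ∈ NN C B v₂ (x * q) := by
  obtain ⟨c, hc, rfl⟩ := h.ex hq hq1
  rw [h.NN_q hc] at hb
  have := (h.conj hc).J_mul hx h1 h2 hb (by rwa [NN_conj hc])
  rwa [NN_conj hc] at this

theorem q_ne {q x : G} (hq : q ∈ N) (hq1 : q ≠ 1) (hx : x ∈ N) (h1 : x ≠ 1) (h2 : x ≠ q) :
    ∃ b ∈ NN C B v₂ q, b ∉ NN C B v₂ x := by
  obtain ⟨c, hc, rfl⟩ := h.ex hq hq1
  have := (h.conj hc).J_ne hx h1 h2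
  rwa [NN_conj hc, ← h.NN_q hc] at this

theorem q_big {q x : G} (hq : q ∈ N) (hq1 : q ≠ 1) (hx : x ∈ N) (h1 : x ≠ 1) (h2 : x ≠ q) :
    ∃ b ∈ NN C B v₂ q, b ∈ NN C B v₂ x ∧ b ≠ 1 ∧ b ≠ v₁ := by
  obtain ⟨c, hc, rfl⟩ := h.ex hq hq1
  have := (h.conj hc).J_big hx h1 h2
  rwa [NN_conj hc, ← h.NN_q hc] at this

theorem q_two {q x y : G} (hq : q ∈ N) (hq1 : q ≠ 1) (hx : x ∈ N) (hy : y ∈ N) (hI : I3 q x y) :
    (∃ b ∈ NN C B v₂ q, b ∈ NN C B v₂ x ∧ b ∉ NN C B v₂ y) ∧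
      ∀ a ∈ NN C B v₂ q, a ∈ NN C B v₂ x → a ∉ NN C B v₂ y → ∀ b ∈ NN C B v₂ q, b ∈ NN C B v₂ x →
        b ∉ NN C B v₂ y → a * b ∈ NN C B v₂ y := by
  obtain ⟨c, hc, rfl⟩ := h.ex hq hq1
  have := (h.conj hc).J_two hx hy hI
  rwa [NN_conj hc, NN_conj hc, ← h.NN_q hc] at this

theorem q_m2 {q b b' : G} (hq : q ∈ N) (hq1 : q ≠ 1) (hb : b ∈ NN C B v₂ q) (hb' : b' ∈ NN C B v₂ q)
    (h1 : b ≠ 1) (h2 : b ≠ v₁) (h3 : b' ≠ 1) (h4 : b' ≠ v₁) :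
    ∃ m ∈ C, m * q * m⁻¹ = q ∧ m * b * m⁻¹ = b' := by
  obtain ⟨c, hc, rfl⟩ := h.ex hq hq1
  rw [h.NN_q hc] at hb hb'
  obtain ⟨m, hmC, hmD, e⟩ := (h.conj hc).m2' hb hb' h1 h2 h3 h4
  exact ⟨m, hmC, (h.conj hc).D₂ m hmD, e⟩

/-- transport of membership in `NN x` -/
theorem tX {c x a : G} (hc : c ∈ C) (hx : x ∈ N) (hx1 : x ≠ 1) :
    c⁻¹ * a * c ∈ NN C B v₂ (c⁻¹ * x * c) ↔ a ∈ NN C B v₂ x := by
  have := h.cj (y := a) (C.inv_mem hc) hx hx1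
  rwa [inv_inv] at this

theorem norN' {c x : G} (hc : c ∈ C) (hx : x ∈ N) : c⁻¹ * x * c ∈ N := by
  have := h.norN _ (C.inv_mem hc) x hx
  rwa [inv_inv] at this

theorem q_IB (hIB : ∀ x ∈ N, x ≠ 1 → x ≠ v₂ → ∀ a ∈ B, a ∉ NN C B v₂ x → ∀ b ∈ B, b ∉ NN C B v₂ x →
      a * b ∈ NN C B v₂ x) {q x : G} (hq : q ∈ N) (hq1 : q ≠ 1) (hx : x ∈ N) (h1 : x ≠ 1) (h2 : x ≠ q)
    {a b : G} (ha : a ∈ NN C B v₂ q) (hax : a ∉ NN C B v₂ x) (hb : b ∈ NN C B v₂ q) (hbx : b ∉ NN C B v₂ x) :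
    a * b ∈ NN C B v₂ x := by
  obtain ⟨c, hc, rfl⟩ := h.ex hq hq1
  rw [← h.tX hc hx h1] at hax hbx ⊢
  have e : c⁻¹ * (a * b) * c = (c⁻¹ * a * c) * (c⁻¹ * b * c) := by group
  rw [e]
  refine hIB _ (h.norN' hc hx) ?_ ?_ _ ((h.mem_NN hc rfl).1 ha) hax _ ((h.mem_NN hc rfl).1 hb) hbx
  · intro e
    apply h1
    have : x = c * (c⁻¹ * x * c) * c⁻¹ := by group
    rw [this, e]; simp
  · intro e
    apply h2
    have : x = c * (c⁻¹ * x * c) * c⁻¹ := by group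
    rw [this, e]

theorem q_IA (hIA : ∀ x ∈ N, x ≠ 1 → x ≠ v₂ → ∀ a ∈ B, a ∈ NN C B v₂ x → a ≠ 1 → a ≠ v₁ →
      ∀ b ∈ B, b ∈ NN C B v₂ x → b ≠ 1 → b ≠ v₁ → a * b = 1 ∨ a * b = v₁) {q x : G} (hq : q ∈ N)
    (hq1 : q ≠ 1) (hx : x ∈ N) (h1 : x ≠ 1) (h2 : x ≠ q) {a b : G} (ha : a ∈ NN C B v₂ q)
    (hax : a ∈ NN C B v₂ x) (ha1 : a ≠ 1) (ha2 : a ≠ v₁) (hb : b ∈ NN C B v₂ q) (hbx : b ∈ NN C B v₂ x)
    (hb1 : b ≠ 1) (hb2 : b ≠ v₁) : a * b = 1 ∨ a * b = v₁ := by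
  obtain ⟨c, hc, rfl⟩ := h.ex hq hq1
  rw [← h.tX hc hx h1] at hax hbx
  have e0 : ∀ z : G, c * (c⁻¹ * z * c) * c⁻¹ = z := fun z => by group
  have hcv := h.C₁ c hc
  have hn1 : ∀ {z : G}, z ≠ 1 → c⁻¹ * z * c ≠ 1 := fun {z} hz e => hz (by rw [← e0 z, e]; simp)
  have hnv : ∀ {z : G}, z ≠ v₁ → c⁻¹ * z * c ≠ v₁ := fun {z} hz e => hz (by rw [← e0 z, e, hcv])
  have key := hIA _ (h.norN' hc hx) (hn1 h1) (fun e => h2 (by rw [← e0 x, e])) _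
    ((h.mem_NN hc rfl).1 ha) hax (hn1 ha1) (hnv ha2) _ ((h.mem_NN hc rfl).1 hb) hbx (hn1 hb1) (hnv hb2)
  have e : (c⁻¹ * a * c) * (c⁻¹ * b * c) = c⁻¹ * (a * b) * c := by group
  rw [e] at key
  rcases key with k | k
  · left; rw [← e0 (a * b), k]; simp
  · right; rw [← e0 (a * b), k, hcv]

theorem star_B (hIB : ∀ x ∈ N, x ≠ 1 → x ≠ v₂ → ∀ a ∈ B, a ∉ NN C B v₂ x → ∀ b ∈ B, b ∉ NN C B v₂ x →
      a * b ∈ NN C B v₂ x) : ∀ k ∈ K, ∀ x ∈ N, x ≠ 1 → ∀ e ∈ NN C B v₂ x, e * (k * e * k⁻¹) ∈ B := by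
  have B1 : ∀ x ∈ N, ∀ y ∈ N, I3 v₂ x y → ∀ e ∈ NN C B v₂ x, e ∉ B → ∀ e' ∈ NN C B v₂ y, e' ∉ B →
      e * e' ∈ B := by
    intro x hx y hy hI e he heB e' he' heB'
    have hyIB := fun {a b : G} => h.q_IB hIB hy hI.2.2.1 h.v₂N h.ne₂ hI.2.2.2.1.symm (a := a) (b := b)
    rw [h.NN_v₂] at hyIB
    by_cases hey : e ∈ NN C B v₂ y
    · exact hyIB hey heB he' heB'
    obtain ⟨⟨g, hg, hgx, hgy⟩, -⟩ := h.J_two hx hy hI
    have h1 := h.q_IB hIB hx hI.1 hy hI.2.2.1 hI.2.2.2.2.1 he hey hgx hgy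
    have h2 : e * g ∉ B := fun e1 => heB ((Subgroup.mul_mem_cancel_right _ hg).1 e1)
    have h3 := hyIB h1 h2 he' heB'
    have hg' : g ∈ NN C B v₂ v₂ := by rw [h.NN_v₂]; exact hg
    rcases h.commNN h.v₂N h.ne₂ hy hI.2.2.1 hg' he' with h4 | h4
    · rw [mul_assoc, h4, ← mul_assoc] at h3
      exact (Subgroup.mul_mem_cancel_right _ hg).1 h3
    · rw [mul_assoc, h4, ← mul_assoc, ← mul_assoc] at h3
      exact (Subgroup.mul_mem_cancel_right _ hg).1 ((Subgroup.mul_mem_cancel_right _ h.v₁B).1 h3)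
  have B2 : ∀ x ∈ N, x ≠ 1 → x ≠ v₂ → ∀ y ∈ N, y ≠ 1 → y ≠ v₂ → ∀ e ∈ NN C B v₂ x, e ∉ B →
      ∀ e' ∈ NN C B v₂ y, e' ∉ B → e * e' ∈ B := by
    intro x hx hx1 hx2 y hy hy1 hy2 e he heB e' he' heB'
    by_cases e1 : y = x
    · subst e1
      have := h.q_IB hIB hx hx1 h.v₂N h.ne₂ hx2.symm he (by rwa [h.NN_v₂]) he' (by rwa [h.NN_v₂])
      rwa [h.NN_v₂] at this
    by_cases e2 : y = x * v₂
    · obtain ⟨z, hz, hI⟩ := h.exists_I3 hx hx1 hx2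
      have hI' : I3 v₂ y z := by
        refine ⟨hy1, hy2, hI.2.2.1, hI.2.2.2.1, ?_, ?_⟩
        · rw [e2]; exact hI.2.2.2.2.2
        · rw [e2, mul_assoc, h.sq₂, mul_one]; exact hI.2.2.2.2.1
      obtain ⟨e'', he'', heB''⟩ := h.q_ne hz hI.2.2.1 h.v₂N h.ne₂ hI.2.2.2.1.symm
      rw [h.NN_v₂] at heB''
      have f1 := B1 x hx z hz hI e he heB e'' he'' heB''
      have f2 := B1 y hy z hz hI' e' he' heB' e'' he'' heB''
      have f3 := B.mul_mem f1 (B.inv_mem f2)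
      have f4 : e * e'' * (e' * e'')⁻¹ = e * e' := by
        rw [mul_inv_rev, iv (h.sqNN hy hy1 he')]; group
      rwa [f4] at f3
    · exact B1 x hx y hy ⟨hx1, hx2, hy1, hy2, e1, e2⟩ e he heB e' he' heB'
  intro k hk x hx hx1 e he
  by_cases heB : e ∈ B
  · rw [h.cenK k hk e heB, h.sqB e heB]; exact B.one_mem
  have hx2 : x ≠ v₂ := by
    rintro rfl
    rw [h.NN_v₂] at he
    exact heB he
  have hkD := h.KD hk
  have hkC := h.KC hk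
  refine B2 x hx hx1 hx2 (k * x * k⁻¹) (h.norN k hkC x hx) (fun e' => hx1 (conj_eq_one_iff.1 e')) ?_ e he heB _
    ((h.cj hkC hx hx1).2 he) ?_
  · have := cj_ne (m := k) hx2
    rwa [h.D₂ k hkD] at this
  · intro e'
    apply heB
    have := h.norB _ (D.inv_mem hkD) _ e'
    have e2 : k⁻¹ * (k * e * k⁻¹) * k⁻¹⁻¹ = e := by group
    rwa [e2] at this

/-- `J_x ∩ J_y = ⟨v₁⟩` if `|J_x| = 4` -/
theorem diff_A (hIA : ∀ x ∈ N, x ≠ 1 → x ≠ v₂ → ∀ a ∈ B, a ∈ NN C B v₂ x → a ≠ 1 → a ≠ v₁ →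
      ∀ b ∈ B, b ∈ NN C B v₂ x → b ≠ 1 → b ≠ v₁ → a * b = 1 ∨ a * b = v₁) {x y : G} (hx : x ∈ N)
    (hy : y ∈ N) (hI : I3 v₂ x y) {p : G} (hp : p ∈ B) (hpx : p ∈ NN C B v₂ x) (hpy : p ∈ NN C B v₂ y) :
    p = 1 ∨ p = v₁ := by
  by_contra hcon
  push Not at hcon
  obtain ⟨⟨g, hg, hgx, hgy⟩, -⟩ := h.J_two hx hy hI
  have hg1 : g ≠ 1 := by rintro rfl; exact hgy (Subgroup.one_mem _)
  have hg2 : g ≠ v₁ := by rintro rfl; exact hgy (h.v₁_mem y)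
  rcases hIA x hx hI.1 hI.2.1 p hp hpx hcon.1 hcon.2 g hg hgx hg1 hg2 with e | e
  · apply hgy
    have : g = p⁻¹ := eq_inv_of_mul_eq_one_right e
    rw [this]
    exact Subgroup.inv_mem _ hpy
  · apply hgy
    have : g = p⁻¹ * v₁ := by rw [← e]; group
    rw [this]
    exact Subgroup.mul_mem _ (Subgroup.inv_mem _ hpy) (h.v₁_mem y)

/-- the third four-group -/
theorem third (hIA : ∀ x ∈ N, x ≠ 1 → x ≠ v₂ → ∀ a ∈ B, a ∈ NN C B v₂ x → a ≠ 1 → a ≠ v₁ →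
      ∀ b ∈ B, b ∈ NN C B v₂ x → b ≠ 1 → b ≠ v₁ → a * b = 1 ∨ a * b = v₁) {x y : G} (hx : x ∈ N)
    (hy : y ∈ N) (hI : I3 v₂ x y) {a b : G} (ha : a ∈ B) (hax : a ∈ NN C B v₂ x) (ha1 : a ≠ 1) (ha2 : a ≠ v₁)
    (hb : b ∈ B) (hby : b ∈ NN C B v₂ y) (hb1 : b ≠ 1) (hb2 : b ≠ v₁) : a * b ∈ NN C B v₂ (x * y) := by
  have hab : a * b ∈ B := B.mul_mem ha hb
  have hab1 : a * b ≠ 1 := by
    intro e
    have : a = b⁻¹ := eq_inv_of_mul_eq_one_left e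
    have hay : a ∈ NN C B v₂ y := by rw [this]; exact Subgroup.inv_mem _ hby
    exact (h.diff_A hIA hx hy hI ha hax hay).elim ha1 ha2
  have hab2 : a * b ≠ v₁ := by
    intro e
    have : a = v₁ * b⁻¹ := by rw [← e]; group
    have hay : a ∈ NN C B v₂ y := by
      rw [this]; exact Subgroup.mul_mem _ (h.v₁_mem y) (Subgroup.inv_mem _ hby)
    exact (h.diff_A hIA hx hy hI ha hax hay).elim ha1 ha2
  obtain ⟨m, hmC, hmD, em⟩ := h.m2' ha hab ha1 ha2 hab1 hab2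
  have hz := h.norN m hmC x hx
  have habz : a * b ∈ NN C B v₂ (m * x * m⁻¹) := by
    rw [← em]; exact (h.cj hmC hx hI.1).2 hax
  have hz1 : m * x * m⁻¹ ≠ 1 := fun e => hI.1 (conj_eq_one_iff.1 e)
  have hz2 : m * x * m⁻¹ ≠ v₂ := by
    have := cj_ne (m := m) hI.2.1
    rwa [h.D₂ m hmD] at this
  set z := m * x * m⁻¹ with hzdef
  clear_value z
  have hxy := cm h.sqN hx hy
  have hxv := cm h.sqN hx h.v₂N
  have hyv := cm h.sqN hy h.v₂N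
  -- `z ∈ ⟨v₂, x⟩` or `z ∈ ⟨v₂, y⟩` impossible
  have hzx : z ≠ x := by
    rintro rfl
    exact (h.diff_A hIA hx hy hI hb ((Subgroup.mul_mem_cancel_left _ hax).1 habz) hby).elim hb1 hb2
  have hzxv : z ≠ x * v₂ := by
    rintro rfl
    have h1 := h.J_mul hz hz1 hz2 hab habz
    rw [mul_assoc, h.sq₂, mul_one] at h1
    exact (h.diff_A hIA hx hy hI hb ((Subgroup.mul_mem_cancel_left _ hax).1 h1) hby).elim hb1 hb2
  have hzy : z ≠ y := by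
    rintro rfl
    exact (h.diff_A hIA hx hy hI ha hax ((Subgroup.mul_mem_cancel_right _ hby).1 habz)).elim ha1 ha2
  have hzyv : z ≠ y * v₂ := by
    rintro rfl
    have h1 := h.J_mul hz hz1 hz2 hab habz
    rw [mul_assoc, h.sq₂, mul_one] at h1
    exact (h.diff_A hIA hx hy hI ha hax ((Subgroup.mul_mem_cancel_right _ hby).1 h1)).elim ha1 ha2
  by_cases hzxy : z = x * y
  · rwa [hzxy] at habz
  by_cases hzxyv : z = x * y * v₂
  · have h1 := h.J_mul hz hz1 hz2 hab habz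
    rwa [hzxyv, mul_assoc, h.sq₂, mul_one] at h1
  exfalso
  -- `z` independent of `v₂`, `x`, `y`
  obtain ⟨U, hU, hm⟩ := exists_one3 h.sqN h.v₂N hx
  have hU' : adj U y (h.sqN y hy) (fun u hu => cm h.sqN (hU hu) hy) ≤ N := adj_le hU hy
  have hzU : z ∉ adj U y (h.sqN y hy) (fun u hu => cm h.sqN (hU hu) hy) := by
    rw [mem_adj, hm, hm]
    have e1 : ∀ w, z * y = w → z = w * y := fun w e => by
      rw [← e, mul_assoc, h.sqN y hy, mul_one]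
    rintro ((e | e | e | e) | (e | e | e | e))
    · exact hz1 e
    · exact hz2 e
    · exact hzx e
    · exact hzxv e
    · exact hzy (by rw [e1 _ e, one_mul])
    · exact hzyv (by rw [e1 _ e, hyv])
    · exact hzxy (e1 _ e)
    · exact hzxyv (by rw [e1 _ e, mul_assoc, ← hyv, ← mul_assoc])
  have hxU : x ∈ adj U y (h.sqN y hy) (fun u hu => cm h.sqN (hU hu) hy) := Or.inl ((hm x).2 (by simp))
  have hzxU : z * x ∉ adj U y (h.sqN y hy) (fun u hu => cm h.sqN (hU hu) hy) :=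
    fun e => hzU ((Subgroup.mul_mem_cancel_right _ hxU).1 e)
  have hzxN := N.mul_mem hz hx
  obtain ⟨t, htC, e1, e2⟩ := move h.sqN h.tvN hU' hz hzxN hzU hzxU
  have htv : t * v₂ * t⁻¹ = v₂ := e1 _ (Or.inl ((hm _).2 (by simp)))
  have htx : t * x * t⁻¹ = x := e1 _ hxU
  have hty : t * y * t⁻¹ = y := e1 _ (Or.inr (by rw [h.sqN y hy]; exact U.one_mem))
  have htD := h.CD t htC htv
  have ht1 := h.C₁ t htC
  have mv : ∀ {w c : G}, w ∈ N → w ≠ 1 → w ≠ v₂ → t * w * t⁻¹ = w → c ∈ B → c ∈ NN C B v₂ w → c ≠ 1 → c ≠ v₁ →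
      t * c * t⁻¹ = c ∨ t * c * t⁻¹ = v₁ * c := by
    intro w c hw hw1 hw2 hwt hc hcw hc1 hc2
    have f1 := (h.cj htC hw hw1).2 hcw
    rw [hwt] at f1
    have f2 : t * c * t⁻¹ ≠ v₁ := by
      have := cj_ne (m := t) hc2
      rwa [ht1] at this
    rcases hIA w hw hw1 hw2 _ (h.norB t htD c hc) f1 (fun e => hc1 (conj_eq_one_iff.1 e)) f2 c hc hcw hc1 hc2
      with e | e
    · left
      rw [eq_inv_of_mul_eq_one_left e, iv (h.sqB c hc)]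
    · right
      rw [← e, mul_assoc (t * c * t⁻¹), h.sqB c hc, mul_one]
  have ha3 := mv hx hI.1 hI.2.1 htx ha hax ha1 ha2
  have hb3 := mv hy hI.2.2.1 hI.2.2.2.1 hty hb hby hb1 hb2
  have habz' := (h.cj htC hz hz1).2 habz
  rw [e2] at habz'
  have e3 : t * (a * b) * t⁻¹ = (t * a * t⁻¹) * (t * b * t⁻¹) := by group
  rw [e3] at habz'
  have hv1 := h.v₁_mem (z * x)
  have hav : v₁ * a = a * v₁ := cm h.sqB h.v₁B ha
  have habzx : a * b ∈ NN C B v₂ (z * x) := by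
    rcases ha3 with e4 | e4 <;> rcases hb3 with e5 | e5 <;> rw [e4, e5] at habz'
    · exact habz'
    · rw [← mul_assoc, ← hav, mul_assoc] at habz'
      exact (Subgroup.mul_mem_cancel_left _ hv1).1 habz'
    · rw [mul_assoc] at habz'
      exact (Subgroup.mul_mem_cancel_left _ hv1).1 habz'
    · have : v₁ * a * (v₁ * b) = a * b := by
        rw [hav, mul_assoc, ← mul_assoc v₁, h.sq₁, one_mul]
      rwa [this] at habz'
  have hI' : I3 v₂ z (z * x) := by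
    refine ⟨hz1, hz2, ?_, ?_, ?_, ?_⟩
    · intro e
      exact hzx (by rw [eq_inv_of_mul_eq_one_left e, iv (h.sqN x hx)])
    · intro e
      apply hzxv
      rw [hxv, ← e, mul_assoc, h.sqN x hx, mul_one]
    · intro e; exact hI.1 (mul_eq_left.1 e)
    · intro e; exact hI.2.1 (mul_left_cancel e)
  exact (h.diff_A hIA hz hzxN hI' hab habz habzx).elim hab1 hab2

theorem star_A (hIA : ∀ x ∈ N, x ≠ 1 → x ≠ v₂ → ∀ a ∈ B, a ∈ NN C B v₂ x → a ≠ 1 → a ≠ v₁ →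
      ∀ b ∈ B, b ∈ NN C B v₂ x → b ≠ 1 → b ≠ v₁ → a * b = 1 ∨ a * b = v₁) :
    ∀ k ∈ K, ∀ x ∈ N, x ≠ 1 → ∀ e ∈ NN C B v₂ x, e * (k * e * k⁻¹) ∈ B := by
  intro k hk x hx hx1 e he
  by_cases heB : e ∈ B
  · rw [h.cenK k hk e heB, h.sqB e heB]; exact B.one_mem
  have hx2 : x ≠ v₂ := by
    rintro rfl
    rw [h.NN_v₂] at he
    exact heB he
  have hkD := h.KD hk
  have hkC := h.KC hk
  have he1 : e ≠ 1 := by rintro rfl; exact heB B.one_mem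
  have he2 : e ≠ v₁ := by rintro rfl; exact heB h.v₁B
  -- a second `y` with `e ∈ N(y)`
  obtain ⟨b₀, hb₀, hb₀v, hb₀1, hb₀2⟩ := h.q_big hx hx1 h.v₂N h.ne₂ hx2.symm
  obtain ⟨m, hmC, hmx, hme⟩ := h.q_m2 hx hx1 hb₀ he hb₀1 hb₀2 he1 he2
  have hy := h.norN m hmC v₂ h.v₂N
  have hy1 : m * v₂ * m⁻¹ ≠ 1 := fun e => h.ne₂ (conj_eq_one_iff.1 e)
  have hyx : m * v₂ * m⁻¹ ≠ x := by
    have := cj_ne (m := m) hx2.symm
    rwa [hmx] at this
  have hey : e ∈ NN C B v₂ (m * v₂ * m⁻¹) := by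
    have := (h.cj hmC h.v₂N h.ne₂).2 hb₀v
    rwa [hme] at this
  set y := m * v₂ * m⁻¹ with hydef
  clear_value y
  have hy2 : y ≠ v₂ := by
    rintro rfl
    rw [h.NN_v₂] at hey
    exact heB hey
  have hexy := h.q_mul hx hx1 hy hy1 hyx he hey
  have hyx2 : y * x ≠ v₂ := by
    intro e'
    rw [e', h.NN_v₂] at hexy
    exact heB hexy
  have hyx1 : y * x ≠ 1 := fun e' => hyx (by rw [eq_inv_of_mul_eq_one_left e', iv (h.sqN x hx)])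
  -- a point `q` fixed by `k`
  have hqr : ∃ q ∈ N, ∃ r ∈ N, q ≠ 1 ∧ r ≠ 1 ∧ r ≠ q ∧ e ∈ NN C B v₂ q ∧ e ∈ NN C B v₂ r ∧
      k * q * k⁻¹ = q ∧ v₂ ≠ q ∧ v₂ ≠ r ∧ v₂ ≠ r * q := by
    by_cases hkx : k * x * k⁻¹ = x
    · exact ⟨x, hx, y, hy, hx1, hy1, hyx, he, hey, hkx, hx2.symm, hy2.symm, hyx2.symm⟩
    by_cases hky : k * y * k⁻¹ = y
    · exact ⟨y, hy, x, hx, hy1, hx1, hyx.symm, hey, he, hky, hy2.symm, hx2.symm,
        by rw [cm h.sqN hx hy]; exact hyx2.symm⟩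
    · refine ⟨y * x, N.mul_mem hy hx, x, hx, hyx1, hx1, ?_, hexy, he, ?_, hyx2.symm, hx2.symm, ?_⟩
      · intro e'
        exact hy1 (mul_eq_right.1 e'.symm)
      · have e1 : k * (y * x) * k⁻¹ = (k * y * k⁻¹) * (k * x * k⁻¹) := by group
        rw [e1, (h.tvK k hk x hx).resolve_left hkx, (h.tvK k hk y hy).resolve_left hky]
        rw [cm h.sqN hx h.v₂N, mul_assoc, ← mul_assoc v₂, h.sq₂, one_mul]
      · rw [cm h.sqN hy hx, ← mul_assoc, h.sqN x hx, one_mul]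
        exact hy2.symm
  obtain ⟨q, hq, r, hr, hq1, hr1, hrq, heq, her, hkq, hq2, hr2, hrq2⟩ := hqr
  have f1 : k * e * k⁻¹ ∈ NN C B v₂ q := by
    have := (h.cj hkC hq hq1).2 heq
    rwa [hkq] at this
  have f2 := (h.cj hkC hr hr1).2 her
  have f3 : k * e * k⁻¹ ≠ 1 := fun e' => he1 (conj_eq_one_iff.1 e')
  have f4 : k * e * k⁻¹ ≠ v₁ := by
    have := cj_ne (m := k) he2
    rwa [h.C₁ k hkC] at this
  rcases h.tvK k hk r hr with hkr | hkr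
  · rw [hkr] at f2
    rcases h.q_IA hIA hq hq1 hr hr1 hrq heq her he1 he2 f1 f2 f3 f4 with e' | e'
    · rw [e']; exact B.one_mem
    · rw [e']; exact h.v₁B
  · rw [hkr] at f2
    obtain ⟨b, hb, hbv, hb1, hb2⟩ := h.q_big hq hq1 h.v₂N h.ne₂ hq2
    have hbB : b ∈ B := by rwa [h.NN_v₂] at hbv
    -- third four-group at `q`
    have hIq : I3 q r v₂ := ⟨hr1, hrq, h.ne₂, hq2, hr2, hrq2⟩
    have f5 : e * b ∈ NN C B v₂ (r * v₂) := by
      obtain ⟨c, hc, rfl⟩ := h.ex hq hq1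
      have hIA' := fun (x : G) (hx : x ∈ N) (h1 : x ≠ 1) (h2 : x ≠ c * v₂ * c⁻¹) (a : G)
        (ha : a ∈ cjs c B) (hax : a ∈ NN C B v₂ x) (ha1 : a ≠ 1) (ha2 : a ≠ v₁) (b : G) (hb : b ∈ cjs c B)
        (hbx : b ∈ NN C B v₂ x) (hb1 : b ≠ 1) (hb2 : b ≠ v₁) =>
        h.q_IA hIA hq hq1 hx h1 h2 (by rwa [h.NN_q hc]) hax ha1 ha2 (by rwa [h.NN_q hc]) hbx hb1 hb2
      have := (h.conj hc).third (by simpa only [NN_conj hc] using hIA') hr h.v₂N hIq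
        (by rwa [← h.NN_q hc]) (by rwa [NN_conj hc]) he1 he2 (by rwa [← h.NN_q hc]) (by rwa [NN_conj hc])
        hb1 hb2
      rwa [NN_conj hc] at this
    have f6 : e * b ∈ NN C B v₂ q := Subgroup.mul_mem _ heq hb
    have f7 : e * b ∉ B := fun e' => heB ((Subgroup.mul_mem_cancel_right _ hbB).1 e')
    have hrv := N.mul_mem hr h.v₂N
    have hrv1 : r * v₂ ≠ 1 := fun e' => hr2 (by rw [eq_inv_of_mul_eq_one_left e', iv h.sq₂])
    have hrvq : r * v₂ ≠ q := by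
      intro e'
      apply hrq2
      rw [← e', ← mul_assoc, h.sqN r hr, one_mul]
    have f8 := h.q_IA hIA hq hq1 hrv hrv1 hrvq f6 f5 (fun e' => f7 (by rw [e']; exact B.one_mem))
      (fun e' => f7 (by rw [e']; exact h.v₁B)) f1 f2 f3 f4
    have f9 : e * b = b * e := by
      obtain ⟨c, hc, hcq⟩ := h.ex hq hq1
      exact cm (fun z hz => h.sqNN hq hq1 hz) heq hb
    rw [f9] at f8
    have f10 : b * (e * (k * e * k⁻¹)) ∈ B := by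
      rw [← mul_assoc]
      rcases f8 with e' | e'
      · rw [e']; exact B.one_mem
      · rw [e']; exact h.v₁B
    exact (Subgroup.mul_mem_cancel_left _ hbB).1 f10

/-- **(4)** : `[W₁, K_{v₂}] ≤ N₂` -/
theorem star : ∀ k ∈ K, ∀ x ∈ N, x ≠ 1 → ∀ e ∈ NN C B v₂ x, e * (k * e * k⁻¹) ∈ B := by
  rcases h.dich with h1 | h1
  · exact h.star_A h1
  · exact h.star_B h1

/-- some element of `K` cannot centralize `W₁` if it moves a point -/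
theorem not_cen {k x : G} (hkC : k ∈ C) (hx : x ∈ N) (hkx : k * x * k⁻¹ = x * v₂) (hx1 : x ≠ 1)
    (hx2 : x ≠ v₂) : ∃ e ∈ NN C B v₂ x, k * e * k⁻¹ ≠ e := by
  by_contra hcon
  push Not at hcon
  have hxv1 : x * v₂ ≠ 1 := fun e' => hx2 (by rw [eq_inv_of_mul_eq_one_left e', iv h.sq₂])
  have hne : x * v₂ ≠ x := fun e' => h.ne₂ (mul_eq_left.1 e')
  obtain ⟨e, he, he'⟩ := h.q_ne hx hx1 (N.mul_mem hx h.v₂N) hxv1 hne
  apply he'
  have := (h.cj hkC hx hx1).2 he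
  rwa [hkx, hcon e he] at this

end Half

/-- one element of `W₂` moving a point of `N₁` is enough for a contradiction -/
theorem Half.false_one {C D N B K K' : Subgroup G} {v₁ v₂ : G} (h : Half C D N B K v₁ v₂)
    (h' : Half D C B N K' v₂ v₁) (hNB : ∀ g ∈ N, g ∈ B → g = 1) (hK : N ≤ K) (hK' : B ≤ K')
    {d n x : G} (hd : d ∈ D) (hn : n ∈ N) (hx : x ∈ N)
    (hmov : (d * n * d⁻¹) * x * (d * n * d⁻¹)⁻¹ ≠ x) : False := by
  set f := d * n * d⁻¹ with hf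
  have hfK : f ∈ K := h.norK d hd n (hK hn)
  have hx1 : x ≠ 1 := by rintro rfl; exact hmov (by simp)
  have hx2 : x ≠ v₂ := by rintro rfl; exact hmov (h.D₂ f (h.KD hfK))
  have hfx := (h.tvK f hfK x hx).resolve_left hmov
  obtain ⟨e, he, hfe⟩ := h.not_cen (h.KC hfK) hx hfx hx1 hx2
  apply hfe
  -- `f ∈ N'(y)`
  have hy := h.norB d hd v₁ h.v₁B
  have hy1 : d * v₁ * d⁻¹ ≠ 1 := fun e => h.ne₁ (conj_eq_one_iff.1 e)
  have hfy : f ∈ NN D N v₁ (d * v₁ * d⁻¹) := by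
    rw [h'.mem_NN hd rfl, hf]
    have : d⁻¹ * (d * n * d⁻¹) * d = n := by group
    rwa [this]
  -- `e ∈ K'`
  obtain ⟨c, hc, hcx⟩ := h.ex hx hx1
  have heK : e ∈ K' := by
    have h1 := h'.norK c hc _ (hK' ((h.mem_NN hc hcx).1 he))
    have : c * (c⁻¹ * e * c) * c⁻¹ = e := by group
    rwa [this] at h1
  have h1 := h.star f hfK x hx hx1 e he
  have h2 := h'.star e heK _ hy hy1 f hfy
  have he2 := h.sqNN hx hx1 he
  have hf2 := h'.sqNN hy hy1 hfy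
  have h3 : e * (f * e * f⁻¹) = (f * (e * f * e⁻¹))⁻¹ := by
    rw [iv he2, iv hf2]
    have : (f * (e * f * e))⁻¹ = e⁻¹ * f⁻¹ * e⁻¹ * f⁻¹ := by group
    rw [this, iv he2, iv hf2]; group
  have h4 := hNB _ (by rw [h3]; exact N.inv_mem h2) h1
  have h5 : f * e * f⁻¹ = e⁻¹ := eq_inv_of_mul_eq_one_right h4
  rw [h5, iv he2]

/-- **CASE A, `GL_n` half** -/
theorem Half.false {C D N B K K' : Subgroup G} {v₁ v₂ : G} (h : Half C D N B K v₁ v₂)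
    (h' : Half D C B N K' v₂ v₁) (hNB : ∀ g ∈ N, g ∈ B → g = 1) (hK : N ≤ K) (hK' : B ≤ K')
    (hQ : (∀ c ∈ C, ∀ b ∈ B, ∀ b' ∈ B, (c * b * c⁻¹) * b' * (c * b * c⁻¹)⁻¹ = b') →
      ∀ c ∈ C, ∀ b ∈ B, ∀ k ∈ K, k * (c * b * c⁻¹) * k⁻¹ = c * b * c⁻¹ ∨
        k * (c * b * c⁻¹) * k⁻¹ = (c * b * c⁻¹) * v₂) : False := by
  by_cases h1 : ∀ c ∈ C, ∀ b ∈ B, ∀ b' ∈ B, (c * b * c⁻¹) * b' * (c * b * c⁻¹)⁻¹ = b'
  · obtain ⟨k, hk, x, hx, hkx⟩ := h.movK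
    have hx1 : x ≠ 1 := by rintro rfl; exact hkx (by simp)
    have hx2 : x ≠ v₂ := by rintro rfl; exact hkx (h.D₂ k (h.KD hk))
    obtain ⟨e, he, hke⟩ := h.not_cen (h.KC hk) hx ((h.tvK k hk x hx).resolve_left hkx) hx1 hx2
    obtain ⟨c, hc, hcx⟩ := h.ex hx hx1
    have h2 := hQ h1 c hc _ ((h.mem_NN hc hcx).1 he) k hk
    have h3 : c * (c⁻¹ * e * c) * c⁻¹ = e := by group
    rw [h3] at h2
    have h4 := h2.resolve_left hke
    have h5 := h.star k hk x hx hx1 e he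
    rw [h4, ← mul_assoc, h.sqNN hx hx1 he, one_mul] at h5
    exact h.ne₂ (hNB _ h.v₂N h5)
  · push Not at h1
    obtain ⟨c, hc, b, hb, b', hb', hmov⟩ := h1
    exact Half.false_one h' h (fun g h1 h2 => hNB g h2 h1) hK' hK hc hb hb' hmov

end Cfsg.Agent.Omega.IId.CaseA

end

section


/-!
# THEOREM TV: `V` is a hyperbolic line or every transvection is induced

helper64 (bb #14186, #14872).  A 2-group `S` fixes the point `r` and a line `{r, u, r + u}` with `u` adjacent to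
`r`, and `C_V(S) ≤ ⟨r⟩ + C_V(H)`.
-/

set_option autoImplicit false

namespace Cfsg.Agent.Omega.TV

open Module

variable {H : Type*} [Group H] {V : Type*} [AddCommGroup V] [Module (ZMod 2) V]
  {ρ : H →* (V ≃ₗ[ZMod 2] V)} {Om : Set V}

theorem Sys.dich [Finite V] (h : Sys ρ Om) {S : Subgroup H} (hS : IsPGroup 2 S)
    {r u : V} (hr : r ∈ Om) (hu : u ∈ Om) (ha : Adj ρ r u) (hsr : ∀ s ∈ S, ρ s r = r)
    (hsu : ∀ s ∈ S, ρ s u = u ∨ ρ s u = r + u)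
    (hfix : ∀ v : V, (∀ s ∈ S, ρ s v = v) → ∃ y, (∀ g : H, ρ g y = y) ∧ (v = y ∨ v = r + y)) :
    (∀ w : V, w = 0 ∨ w = r ∨ w = u ∨ w = r + u) ∨
      ∀ (u : V) (φ : Dual (ZMod 2) V), φ u = 0 → Fn ρ u φ := by
  rcases h.small_or_big with hs | hb
  · exact Or.inl (h.four' hs hS hr hu ha hsr hsu hfix)
  right
  have hadd : ∀ b ∈ Om, ∀ c ∈ Om, Sys.Near ρ Om b c → b ≠ c → b + c ∈ Om := by
    intro b hb' c hc hn hne
    have h1 := h.adj_of_near hb hb' hc hne hn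
    have h2 := h.add_mem hc h1
    rwa [add_comm] at h2
  have hrad := Sys.rad_eq_bot_of h hadd
  have h0 : ∀ y : V, (∀ g : H, ρ g y = y) → y = 0 := fun y hy => by
    have := h.rad_of_fixed hy
    rwa [hrad, Submodule.mem_bot] at this
  have hc := h.clo_of hadd
  have hall := h.near_all hc hS hr (fun v hv => by
    obtain ⟨y, hy, h1 | h1⟩ := hfix v hv
    · left; rw [h1, h0 y hy]
    · right; rw [h1, h0 y hy, add_zero])
  exact fun u φ hφ => h.full hb hc hr hall hφ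

/-- **Group form.** -/
theorem GSys.dich {G : Type*} [Group G] [Finite G] {C N : Subgroup G} {r : G} (h : GSys C N r) {t u : G}
    (ht : t ∈ C) (htn : ∀ n ∈ N, t * n * t⁻¹ = n ∨ t * n * t⁻¹ = n * r) (hu : ∃ c ∈ C, u = c * r * c⁻¹)
    (hut : t * u * t⁻¹ ≠ u) {T : Subgroup G} (hT : IsPGroup 2 T) (hTr : ∀ x ∈ T, x * r * x⁻¹ = r)
    (hTu : ∀ x ∈ T, x * u * x⁻¹ = u ∨ x * u * x⁻¹ = r * u) (hTC : T ≤ C)
    (hfix : ∀ n ∈ N, (∀ x ∈ T, x * n * x⁻¹ = n) → ∃ y ∈ N, (∀ c ∈ C, c * y * c⁻¹ = y) ∧ (n = y ∨ n = r * y)) :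
    (∀ w ∈ N, w = 1 ∨ w = r ∨ w = u ∨ w = r * u) ∨ AllTv C N := by
  have huN : u ∈ N := by
    obtain ⟨c, hc, rfl⟩ := hu
    exact h.nor c hc r h.mem
  obtain ⟨φ, hφ, hfn⟩ := h.exists_fn h.mem h.ne ht htn
  have hφu : φ (EA.mk h.sq u huN) = 1 := by
    by_contra hcon
    have h1 := hφ (EA.mk h.sq u huN)
    rw [z2_ne_one hcon, zero_smul, add_zero] at h1
    exact hut (congrArg EA.val h1)
  have hsys := h.toSys ht htn ⟨u, huN, hut⟩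
  have hS : IsPGroup 2 (T.subgroupOf C) := hT.comap_of_injective C.subtype C.subtype_injective
  rcases hsys.dich hS h.mem_pts_r (u := EA.mk h.sq u huN) hu ⟨φ, hfn, hφu⟩
      (fun s hs => EA.ext (hTr s hs)) (fun s hs => (hTu s hs).imp (fun e => EA.ext e) (fun e => EA.ext e))
      (fun v hv => by
        obtain ⟨y, hy, h1, h2⟩ := hfix v.val v.val_mem (fun x hx => congrArg EA.val (hv ⟨x, hTC hx⟩ hx))
        exact ⟨EA.mk h.sq y hy, fun g => EA.ext (h1 g g.2), h2.imp (fun e => EA.ext e) (fun e => EA.ext e)⟩)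
    with h1 | h1
  · left
    intro w hw
    rcases h1 (EA.mk h.sq w hw) with e | e | e | e
    · exact Or.inl (congrArg EA.val e)
    · exact Or.inr (Or.inl (congrArg EA.val e))
    · exact Or.inr (Or.inr (Or.inl (congrArg EA.val e)))
    · exact Or.inr (Or.inr (Or.inr (congrArg EA.val e)))
  · exact Or.inr (h.allTv_of_full h1)

end Cfsg.Agent.Omega.TV

end
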