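import Mathlib

section


/-!
# THEOREM TV: groups generated by transvections over `𝔽₂`, elementary form

helper895, OMEGA / II.d, paper text bb #13722.

`H` acts by `ρ` on `V` over `𝔽₂`; `Fn ρ r φ` says that the transvection `x ↦ x + φ x • r` is
induced by `H`.  `Om` is an orbit of `H` spanning `V`, whose elements are centres of transvections.
-/

namespace Cfsg.Agent.Omega.TV

open Module

variable {H : Type*} [Group H] {V : Type*} [AddCommGroup V] [Module (ZMod 2) V]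

theorem z2 (a : ZMod 2) : a = 0 ∨ a = 1 := by revert a; decide

theorem z2_ne_zero {a : ZMod 2} (h : a ≠ 0) : a = 1 := (z2 a).resolve_left h

theorem z2_ne_one {a : ZMod 2} (h : a ≠ 1) : a = 0 := (z2 a).resolve_right h

theorem z2_add_self (a : ZMod 2) : a + a = 0 := by revert a; decide

theorem v_add_self (v : V) : v + v = 0 := ZModModule.add_self v

theorem v_eq_of_add {v w : V} (h : v + w = 0) : v = w := by
  have := congrArg (· + w) h
  simpa [add_assoc, v_add_self] using this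

theorem add_ne_zero_of_ne {v w : V} (h : v ≠ w) : v + w ≠ 0 := fun h' => h (v_eq_of_add h')

theorem add_add_self (v w : V) : v + w + w = v := by rw [add_assoc, v_add_self, add_zero]

theorem self_add_add (v w : V) : v + (v + w) = w := by rw [← add_assoc, v_add_self, zero_add]

variable (ρ : H →* (V ≃ₗ[ZMod 2] V))

theorem rmul (g h : H) (v : V) : ρ (g * h) v = ρ g (ρ h v) := by
  rw [map_mul]; rfl

theorem rone (v : V) : ρ 1 v = v := by
  rw [map_one]; rfl

theorem rinv (g : H) (v : V) : ρ g⁻¹ (ρ g v) = v := by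
  rw [← rmul, inv_mul_cancel, rone]

theorem rinv' (g : H) (v : V) : ρ g (ρ g⁻¹ v) = v := by
  rw [← rmul, mul_inv_cancel, rone]

/-- The transvection `x ↦ x + φ x • r` is induced by `H`. -/
def Fn (r : V) (φ : Dual (ZMod 2) V) : Prop :=
  φ r = 0 ∧ ∃ g : H, ∀ x, ρ g x = x + φ x • r

/-- Some induced transvection with centre `r` moves `s`. -/
def Adj (r s : V) : Prop := ∃ φ, Fn ρ r φ ∧ φ s = 1

variable {ρ}

namespace Fn

variable {r s u y : V} {φ ψ κ : Dual (ZMod 2) V}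

theorem act_self (h : Fn ρ r φ) : φ r = 0 := h.1

theorem zero (r : V) : Fn ρ r 0 := ⟨rfl, 1, fun x => by simp⟩

theorem add (h : Fn ρ r φ) (h' : Fn ρ r ψ) : Fn ρ r (φ + ψ) := by
  obtain ⟨h0, g, hg⟩ := h
  obtain ⟨h0', g', hg'⟩ := h'
  refine ⟨by simp [h0, h0'], g * g', fun x => ?_⟩
  rw [rmul, hg', hg]
  simp only [map_add, map_smul, h0, smul_eq_mul, mul_zero, add_zero, LinearMap.add_apply, add_smul]
  abel

theorem addc (h : Fn ρ r φ) (h' : Fn ρ s φ) : Fn ρ (r + s) φ := by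
  obtain ⟨h0, g, hg⟩ := h
  obtain ⟨h0', g', hg'⟩ := h'
  refine ⟨by simp [h0, h0'], g * g', fun x => ?_⟩
  rw [rmul, hg', hg]
  simp only [map_add, map_smul, h0', smul_eq_mul, mul_zero, add_zero, smul_add]
  abel

theorem conj (h : Fn ρ r φ) (g : H) : Fn ρ (ρ g r) (φ ∘ₗ (ρ g⁻¹ : V ≃ₗ[ZMod 2] V).toLinearMap) := by
  obtain ⟨h0, t, ht⟩ := h
  refine ⟨by simp [rinv, h0], g * t * g⁻¹, fun x => ?_⟩
  rw [rmul, rmul, ht, map_add, rinv', map_smul]
  simp

/-- Conjugation of one transvection by another. -/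
theorem cc (hu : Fn ρ u κ) (hy : Fn ρ y φ) : Fn ρ (u + φ u • y) (κ + κ y • φ) := by
  obtain ⟨h0, g, hg⟩ := hu
  obtain ⟨h0', g', hg'⟩ := hy
  refine ⟨?_, g' * g * g', fun x => ?_⟩
  · simp only [LinearMap.add_apply, LinearMap.smul_apply, map_add, map_smul, h0, h0', smul_eq_mul,
      mul_zero, add_zero, zero_add, smul_zero]
    rw [mul_comm (κ y)]
    exact z2_add_self _
  · rw [rmul, rmul, hg' x, hg, hg']
    simp only [map_add, map_smul, h0', smul_eq_mul, mul_zero, add_zero, LinearMap.add_apply,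
      LinearMap.smul_apply, smul_add, smul_smul]
    have e : φ x • y + φ x • y = 0 := v_add_self _
    have e1 : (φ x + (κ x + φ x * κ y) * φ u) • y
        = φ x • y + ((κ x + φ x * κ y) * φ u) • y := add_smul _ _ _
    rw [e1]
    have e2 : κ y * φ x = φ x * κ y := mul_comm _ _
    rw [e2]
    calc x + φ x • y + (κ x + φ x * κ y) • u + (φ x • y + ((κ x + φ x * κ y) * φ u) • y)
        = x + ((κ x + φ x * κ y) • u + ((κ x + φ x * κ y) * φ u) • y) + (φ x • y + φ x • y) := by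
          abel
      _ = x + ((κ x + φ x * κ y) • u + ((κ x + φ x * κ y) * φ u) • y) := by rw [e, add_zero]

end Fn

theorem Adj.conj {r s : V} (h : Adj ρ r s) (g : H) : Adj ρ (ρ g r) (ρ g s) := by
  obtain ⟨φ, hφ, h1⟩ := h
  exact ⟨_, hφ.conj g, by simpa [rinv] using h1⟩

/-- The setting of THEOREM TV. -/
structure Sys (ρ : H →* (V ≃ₗ[ZMod 2] V)) (Om : Set V) : Prop where
  zero : (0 : V) ∉ Om
  inv : ∀ (g : H), ∀ r ∈ Om, ρ g r ∈ Om
  trans : ∀ r ∈ Om, ∀ s ∈ Om, ∃ g : H, ρ g r = s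
  span : Submodule.span (ZMod 2) Om = ⊤
  ex : ∃ r ∈ Om, ∃ φ, φ ≠ 0 ∧ Fn ρ r φ
  chain : ∀ U : Submodule (ZMod 2) V, (∀ (g : H), ∀ u ∈ U, ρ g u ∈ U) →
    ∀ g : H, (∀ u ∈ U, ρ g u = u) → (∀ v, ρ g v + v ∈ U) → ∀ v, ρ g v = v

namespace Sys

variable {Om : Set V} (h : Sys ρ Om)

include h

theorem ne_zero {r : V} (hr : r ∈ Om) : r ≠ 0 := fun e => h.zero (e ▸ hr)

theorem eq_zero_of {φ : Dual (ZMod 2) V} (hφ : ∀ s ∈ Om, φ s = 0) : φ = 0 := by
  refine LinearMap.ext_on h.span fun s hs => ?_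
  simpa using hφ s hs

theorem exists_one {φ : Dual (ZMod 2) V} (hφ : φ ≠ 0) : ∃ s ∈ Om, φ s = 1 := by
  by_contra hcon
  push Not at hcon
  exact hφ (h.eq_zero_of fun s hs => z2_ne_one (hcon s hs))

theorem exists_fn {r : V} (hr : r ∈ Om) : ∃ φ, φ ≠ 0 ∧ Fn ρ r φ := by
  obtain ⟨s, hs, φ, hne, hφ⟩ := h.ex
  obtain ⟨g, hg⟩ := h.trans s hs r hr
  refine ⟨_, ?_, hg ▸ hφ.conj g⟩
  obtain ⟨t, _, ht⟩ := h.exists_one hne
  intro h0
  have := LinearMap.congr_fun h0 (ρ g t)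
  simp [rinv, ht] at this

theorem exists_adj {r : V} (hr : r ∈ Om) : ∃ s ∈ Om, Adj ρ r s := by
  obtain ⟨φ, hne, hφ⟩ := h.exists_fn hr
  obtain ⟨s, hs, h1⟩ := h.exists_one hne
  exact ⟨s, hs, φ, hφ, h1⟩

theorem add_mem {r s : V} (hs : s ∈ Om) (ha : Adj ρ r s) : s + r ∈ Om := by
  obtain ⟨φ, ⟨_, g, hg⟩, h1⟩ := ha
  have := h.inv g s hs
  rwa [hg, h1, one_smul] at this

theorem symm [Finite V] {r s : V} (hr : r ∈ Om) (hs : s ∈ Om) (ha : Adj ρ r s) : Adj ρ s r := by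
  have : Finite (Dual (ZMod 2) V) := Finite.of_injective (fun f : Dual (ZMod 2) V => (f : V → ZMod 2))
    DFunLike.coe_injective
  obtain ⟨φ, hφ, h1⟩ := ha
  by_contra hcon
  have h0 : ∀ ψ, Fn ρ s ψ → ψ r = 0 := fun ψ hψ => z2_ne_one fun e => hcon ⟨ψ, hψ, e⟩
  have hsub : {ψ | Fn ρ s ψ} ⊆ {ψ | Fn ρ r ψ} := by
    intro ψ hψ
    have e1 := Fn.cc (show Fn ρ s ψ from hψ) hφ
    rw [h1, one_smul, h0 ψ hψ, zero_smul, add_zero] at e1
    have e2 := e1.addc (show Fn ρ s ψ from hψ)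
    rwa [add_comm s r, add_add_self] at e2
  have hcard : {ψ | Fn ρ r ψ}.ncard ≤ {ψ | Fn ρ s ψ}.ncard := by
    obtain ⟨g, hg⟩ := h.trans r hr s hs
    refine Set.ncard_le_ncard_of_injOn
      (fun ψ => ψ ∘ₗ (ρ g⁻¹ : V ≃ₗ[ZMod 2] V).toLinearMap) ?_ ?_ (Set.toFinite _)
    · intro ψ hψ
      exact hg ▸ Fn.conj (show Fn ρ r ψ from hψ) g
    · intro ψ _ ψ' _ he
      ext x
      have := LinearMap.congr_fun he (ρ g x)
      simpa [rinv] using this
  have heq := Set.eq_of_subset_of_ncard_le hsub hcard (Set.toFinite _)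
  have : φ ∈ {ψ | Fn ρ s ψ} := by rw [heq]; exact hφ
  have h2 : φ s = 0 := (show Fn ρ s φ from this).1
  rw [h1] at h2
  exact one_ne_zero h2

/-- `T_r* ∩ s^⊥ ≤ T_s*` for adjacent `r`, `s`. -/
theorem fn_of_adj [Finite V] {r s : V} (hr : r ∈ Om) (hs : s ∈ Om) (ha : Adj ρ r s)
    {ψ : Dual (ZMod 2) V} (hψ : Fn ρ r ψ) (h0 : ψ s = 0) : Fn ρ s ψ := by
  obtain ⟨φ, hφ, h1⟩ := h.symm hr hs ha
  have e1 := Fn.cc hψ hφ
  rw [h1, one_smul, h0, zero_smul, add_zero] at e1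
  have e2 := e1.addc hψ
  rwa [add_comm r s, add_add_self] at e2

/-- Having a common neighbour. -/
def Near (ρ : H →* (V ≃ₗ[ZMod 2] V)) (Om : Set V) (r s : V) : Prop :=
  ∃ v ∈ Om, Adj ρ r v ∧ Adj ρ v s

theorem near_of_adj [Finite V] {r s : V} (hr : r ∈ Om) (hs : s ∈ Om) (ha : Adj ρ r s) :
    Near ρ Om r s := by
  obtain ⟨φ, hφ, h1⟩ := ha
  obtain ⟨ψ, hψ, h2⟩ := h.symm hr hs ⟨φ, hφ, h1⟩
  have hm : s + r ∈ Om := h.add_mem hs ⟨φ, hφ, h1⟩
  refine ⟨s + r, hm, ⟨φ, hφ, by rw [map_add, h1, hφ.1, add_zero]⟩, ?_⟩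
  exact h.symm hs hm ⟨ψ, hψ, by rw [map_add, hψ.1, h2, zero_add]⟩

theorem near_refl [Finite V] {r : V} (hr : r ∈ Om) : Near ρ Om r r := by
  obtain ⟨s, hs, ha⟩ := h.exists_adj hr
  exact ⟨s, hs, ha, h.symm hr hs ha⟩

theorem near_symm [Finite V] {r s : V} (hr : r ∈ Om) (hs : s ∈ Om) (hn : Near ρ Om r s) :
    Near ρ Om s r := by
  obtain ⟨v, hv, h1, h2⟩ := hn
  exact ⟨v, hv, h.symm hv hs h2, h.symm hr hv h1⟩

theorem near_three [Finite V] {a u v b : V} (ha : a ∈ Om) (hu : u ∈ Om) (hv : v ∈ Om) (hb : b ∈ Om)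
    (h1 : Adj ρ a u) (h2 : Adj ρ u v) (h3 : Adj ρ v b) : Near ρ Om a b := by
  by_cases h4 : Adj ρ a v
  · exact ⟨v, hv, h4, h3⟩
  by_cases h5 : Adj ρ u b
  · exact ⟨u, hu, h1, h5⟩
  have hm : v + u ∈ Om := h.add_mem hv h2
  obtain ⟨φ, hφ, e1⟩ := h1
  have e2 : φ v = 0 := z2_ne_one fun e => h4 ⟨φ, hφ, e⟩
  obtain ⟨ψ, hψ, e3⟩ := h.symm hv hb h3
  have e4 : ψ u = 0 := z2_ne_one fun e => h5 (h.symm hb hu ⟨ψ, hψ, e⟩)
  refine ⟨v + u, hm, ⟨φ, hφ, by rw [map_add, e2, e1, zero_add]⟩, h.symm hb hm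
    ⟨ψ, hψ, by rw [map_add, e3, e4, add_zero]⟩⟩

theorem near_trans [Finite V] {a b c : V} (ha : a ∈ Om) (hb : b ∈ Om) (hc : c ∈ Om)
    (h1 : Near ρ Om a b) (h2 : Near ρ Om b c) : Near ρ Om a c := by
  obtain ⟨v, hv, e1, e2⟩ := h1
  obtain ⟨w, hw, e3, e4⟩ := h2
  obtain ⟨x, hx, e5, e6⟩ := h.near_three ha hv hb hw e1 e2 e3
  exact h.near_three ha hx hw hc e5 e6 e4

/-- (al): the functionals of a common neighbour agree on two nonadjacent points. -/
theorem agree [Finite V] {a b v : V} (ha : a ∈ Om) (hb : b ∈ Om) (hv : v ∈ Om)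
    (hn : ¬ Adj ρ a b) (h1 : Adj ρ v a) (h2 : Adj ρ v b) {ψ : Dual (ZMod 2) V} (hψ : Fn ρ v ψ) :
    ψ a = ψ b := by
  rcases z2 (ψ a) with e1 | e1 <;> rcases z2 (ψ b) with e2 | e2
  · rw [e1, e2]
  · exact absurd ⟨ψ, h.fn_of_adj hv ha h1 hψ e1, e2⟩ hn
  · exact absurd (h.symm hb ha ⟨ψ, h.fn_of_adj hv hb h2 hψ e2, e1⟩) hn
  · rw [e1, e2]

/-- The vectors killed by all induced functionals. -/
def rad (ρ : H →* (V ≃ₗ[ZMod 2] V)) (Om : Set V) : Submodule (ZMod 2) V where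
  carrier := {x | ∀ r ∈ Om, ∀ φ, Fn ρ r φ → φ x = 0}
  zero_mem' := fun r _ φ _ => map_zero φ
  add_mem' := fun ha hb r hr φ hφ => by rw [map_add, ha r hr φ hφ, hb r hr φ hφ, add_zero]
  smul_mem' := fun c x hx r hr φ hφ => by rw [map_smul, hx r hr φ hφ, smul_zero]

theorem rad_inv (g : H) {x : V} (hx : x ∈ rad ρ Om) : ρ g x ∈ rad ρ Om := by
  intro r hr φ hφ
  have h1 := hx (ρ g⁻¹ r) (h.inv _ r hr) _ (hφ.conj g⁻¹)
  simpa using h1

/-- A vector `c` of the radical is not the centre of an induced transvection whose functional is a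
functional of a point. -/
theorem no_rad_centre {c r : V} (hr : r ∈ Om) (hc : c ∈ rad ρ Om) {κ : Dual (ZMod 2) V}
    (h1 : Fn ρ r κ) (h2 : Fn ρ c κ) (hκ : κ ≠ 0) : c = 0 := by
  obtain ⟨_, g, hg⟩ := h2
  have h3 := h.chain (rad ρ Om) (fun g u hu => h.rad_inv g hu) g
    (fun u hu => by rw [hg, hu r hr κ h1, zero_smul, add_zero])
    (fun v => by
      rw [hg, add_comm v, add_add_self]
      exact (rad ρ Om).smul_mem _ hc)
  obtain ⟨s, _, hs⟩ := h.exists_one hκ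
  have h4 := h3 s
  rw [hg, hs, one_smul] at h4
  simpa using h4

omit h in
/-- If sums of different points having a common neighbour are points, the radical is trivial. -/
theorem rad_eq_bot_of [Finite V] (h : Sys ρ Om)
    (hadd : ∀ b ∈ Om, ∀ c ∈ Om, Near ρ Om b c → b ≠ c → b + c ∈ Om) : rad ρ Om = ⊥ := by
  classical
  rw [eq_bot_iff]
  intro v hv
  rw [Submodule.mem_bot]
  have hex0 : ∀ v : V, ∃ l : List V, (∀ x ∈ l, x ∈ Om) ∧ l.sum = v := by
    intro v
    have hmem : v ∈ Submodule.span (ZMod 2) Om := by rw [h.span]; trivial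
    induction hmem using Submodule.span_induction with
    | mem x hx => exact ⟨[x], by simpa using hx, by simp⟩
    | zero => exact ⟨[], by simp, by simp⟩
    | add x y _ _ hx hy =>
      obtain ⟨l, hl, rfl⟩ := hx
      obtain ⟨l', hl', rfl⟩ := hy
      refine ⟨l ++ l', fun x hx => ?_, by simp⟩
      rcases List.mem_append.1 hx with h1 | h1
      exacts [hl x h1, hl' x h1]
    | smul a x _ hx =>
      rcases z2 a with rfl | rfl
      · exact ⟨[], by simp, by simp⟩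
      · obtain ⟨l, hl, rfl⟩ := hx
        exact ⟨l, hl, by simp⟩
  have hex : ∃ n : ℕ, ∃ l : List V, (∀ x ∈ l, x ∈ Om) ∧ l.sum = v ∧ l.length = n := by
    obtain ⟨l, h1, h2⟩ := hex0 v
    exact ⟨l.length, l, h1, h2, rfl⟩
  obtain ⟨l, hl, hsum, hlen⟩ := Nat.find_spec hex
  have hmin : ∀ l' : List V, (∀ x ∈ l', x ∈ Om) → l'.sum = v → l.length ≤ l'.length := by
    intro l' h1 h2
    rw [hlen]
    exact Nat.find_min' hex ⟨l', h1, h2, rfl⟩
  cases l with
  | nil => rw [← hsum]; rfl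
  | cons r l' =>
    exfalso
    have hr : r ∈ Om := hl r (by simp)
    have hl' : ∀ x ∈ l', x ∈ Om := fun x hx => hl x (List.mem_cons_of_mem _ hx)
    have hfar : ∀ y ∈ l', ¬ Near ρ Om r y := by
      intro y hy hn
      have hp := List.perm_cons_erase hy
      have hs' : l'.sum = y + (l'.erase y).sum := by rw [hp.sum_eq, List.sum_cons]
      have hlen' : l'.length = (l'.erase y).length + 1 := by rw [hp.length_eq, List.length_cons]
      have hsub : ∀ x ∈ l'.erase y, x ∈ Om := fun x hx => hl' x (List.mem_of_mem_erase hx)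
      by_cases hry : r = y
      · have h1 := hmin (l'.erase y) hsub (by
          rw [← hsum, List.sum_cons, hs', hry, self_add_add])
        rw [List.length_cons] at h1
        omega
      · have h1 := hmin ((r + y) :: l'.erase y) (by
          intro x hx
          rcases List.mem_cons.1 hx with rfl | hx
          · exact hadd r hr y (hl' y hy) hn hry
          · exact hsub x hx) (by
          rw [← hsum, List.sum_cons, List.sum_cons, hs', add_assoc])
        rw [List.length_cons, List.length_cons] at h1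
        omega
    obtain ⟨u, hu, hru⟩ := h.exists_adj hr
    obtain ⟨φ, hφ, h1⟩ := h.symm hr hu hru
    have h2 : ∀ y ∈ l', φ y = 0 := fun y hy =>
      z2_ne_one fun e => hfar y hy ⟨u, hu, hru, φ, hφ, e⟩
    have h3 : φ l'.sum = 0 := by
      clear hmin hlen hfar hl' hsum hl
      induction l' with
      | nil => simp
      | cons a t ih =>
        rw [List.sum_cons, map_add, h2 a (by simp), ih fun y hy => h2 y (List.mem_cons_of_mem _ hy),
          add_zero]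
    have h4 := hv u hu φ hφ
    rw [← hsum, List.sum_cons, map_add, h1, h3, add_zero] at h4
    exact one_ne_zero h4

end Sys

end Cfsg.Agent.Omega.TV

end

section


/-!
# THEOREM TV (2)(i): at least two nontrivial transvections with the same centre

helper895, OMEGA / II.d, paper text bb #13722.  All points of a component are adjacent.
-/

namespace Cfsg.Agent.Omega.TV

open Module

variable {H : Type*} [Group H] {V : Type*} [AddCommGroup V] [Module (ZMod 2) V]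
  {ρ : H →* (V ≃ₗ[ZMod 2] V)} {Om : Set V}

namespace Sys

/-- Every point has, for every vector `s`, a nonzero functional killing `s`. -/
def Big (ρ : H →* (V ≃ₗ[ZMod 2] V)) (Om : Set V) : Prop :=
  ∀ r ∈ Om, ∀ s : V, ∃ κ, κ ≠ 0 ∧ Fn ρ r κ ∧ κ s = 0

theorem big_of (h : Sys ρ Om) {r : V} (hr : r ∈ Om) {φ ψ : Dual (ZMod 2) V} (hφ : Fn ρ r φ)
    (hψ : Fn ρ r ψ) (h1 : φ ≠ 0) (h2 : ψ ≠ 0) (h3 : φ ≠ ψ) : Big ρ Om := by
  intro t ht s
  obtain ⟨g, hg⟩ := h.trans r hr t ht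
  have hinj : ∀ α β : Dual (ZMod 2) V, α ∘ₗ (ρ g⁻¹ : V ≃ₗ[ZMod 2] V).toLinearMap =
      β ∘ₗ (ρ g⁻¹ : V ≃ₗ[ZMod 2] V).toLinearMap → α = β := by
    intro α β he
    ext x
    have := LinearMap.congr_fun he (ρ g x)
    simpa using this
  set φ' := φ ∘ₗ (ρ g⁻¹ : V ≃ₗ[ZMod 2] V).toLinearMap with hφ'
  set ψ' := ψ ∘ₗ (ρ g⁻¹ : V ≃ₗ[ZMod 2] V).toLinearMap with hψ'
  have e1 : Fn ρ t φ' := hg ▸ hφ.conj g
  have e2 : Fn ρ t ψ' := hg ▸ hψ.conj g
  have e3 : φ' ≠ 0 := fun e => h1 (hinj φ 0 (by rw [← hφ', e, LinearMap.zero_comp]))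
  have e4 : ψ' ≠ 0 := fun e => h2 (hinj ψ 0 (by rw [← hψ', e, LinearMap.zero_comp]))
  have e5 : φ' ≠ ψ' := fun e => h3 (hinj φ ψ e)
  rcases z2 (φ' s) with a | a
  · exact ⟨φ', e3, e1, a⟩
  rcases z2 (ψ' s) with b | b
  · exact ⟨ψ', e4, e2, b⟩
  refine ⟨φ' + ψ', fun e => e5 ?_, e1.add e2, ?_⟩
  · ext x
    have h4 := LinearMap.congr_fun e x
    simp only [LinearMap.add_apply, LinearMap.zero_apply] at h4
    rcases z2 (φ' x) with c | c <;> rcases z2 (ψ' x) with d | d <;> rw [c, d] at h4 ⊢ <;>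
      simp at h4
  · rw [LinearMap.add_apply, a, b]
    exact z2_add_self 1

theorem core [Finite V] (h : Sys ρ Om) (hb : Big ρ Om) {y y' v u : V} {χ : Dual (ZMod 2) V}
    (hy : y ∈ Om) (hy' : y' ∈ Om) (hv : v ∈ Om) (hu : u ∈ Om) (hn : ¬ Adj ρ y y')
    (h1 : Adj ρ v y) (h2 : Adj ρ v y') (hχ : Fn ρ u χ) (e1 : χ y = 1) (e2 : χ y' = 0)
    (huv : Adj ρ u v) : False := by
  have huy : Adj ρ u y := ⟨χ, hχ, e1⟩
  have hn' : ¬ Adj ρ u y' := by
    intro ha
    have := h.agree hy hy' hu hn huy ha hχ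
    rw [e1, e2] at this
    exact one_ne_zero this
  have hvu := h.symm hu hv huv
  obtain ⟨κ, hκ0, hκ, k1⟩ := hb v hv y
  have k2 : κ y' = 0 := by rw [← h.agree hy hy' hv hn h1 h2 hκ, k1]
  have k3 : κ u = 0 := by rw [h.agree hu hy' hv hn' hvu h2 hκ, k2]
  have f1 := h.fn_of_adj hv hy h1 hκ k1
  have f2 := h.fn_of_adj hv hy' h2 hκ k2
  have f3 := h.fn_of_adj hv hu hvu hκ k3
  obtain ⟨w, hw, hw1⟩ := h.exists_one hκ0
  obtain ⟨φ, hφ, p1⟩ := h.symm hu hy huy
  have f4 := Fn.cc f3 hφ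
  rw [p1, one_smul, f1.1, zero_smul, add_zero] at f4
  have hm : u + y ∈ Om := h.add_mem hu ⟨φ, hφ, p1⟩
  obtain ⟨ψ, hψ, q1⟩ := h.symm hm hw ⟨κ, f4, hw1⟩
  have w1 := h.symm hy hw ⟨κ, f1, hw1⟩
  have w2 := h.symm hy' hw ⟨κ, f2, hw1⟩
  have w3 := h.symm hu hw ⟨κ, f3, hw1⟩
  have g1 := h.agree hy hy' hw hn w1 w2 hψ
  have g2 := h.agree hu hy' hw hn' w3 w2 hψ
  rw [map_add, g1, g2, z2_add_self] at q1
  exact zero_ne_one q1

theorem core' [Finite V] (h : Sys ρ Om) (hb : Big ρ Om) {y y' v u : V} {χ : Dual (ZMod 2) V}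
    (hy : y ∈ Om) (hy' : y' ∈ Om) (hv : v ∈ Om) (hu : u ∈ Om) (hn : ¬ Adj ρ y y')
    (h1 : Adj ρ v y) (h2 : Adj ρ v y') (hχ : Fn ρ u χ) (e1 : χ y = 1) (e2 : χ y' = 0) :
    False := by
  by_cases huv : Adj ρ u v
  · exact h.core hb hy hy' hv hu hn h1 h2 hχ e1 e2 huv
  have huy : Adj ρ u y := ⟨χ, hχ, e1⟩
  obtain ⟨φ, hφ, p1⟩ := h.symm hu hy huy
  have hm : u + y ∈ Om := h.add_mem hu ⟨φ, hφ, p1⟩
  have f := Fn.cc hχ hφ
  rw [p1, e1, one_smul, one_smul] at f
  have p2 : φ y' = 0 := z2_ne_one fun e => hn ⟨φ, hφ, e⟩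
  obtain ⟨ψ, hψ, q1⟩ := h1
  have q2 : ψ u = 0 := z2_ne_one fun e => huv (h.symm hv hu ⟨ψ, hψ, e⟩)
  refine h.core hb hy hy' hv hm hn ⟨ψ, hψ, q1⟩ h2 f ?_ ?_ ?_
  · rw [LinearMap.add_apply, e1, hφ.1, add_zero]
  · rw [LinearMap.add_apply, e2, p2, add_zero]
  · exact h.symm hv hm ⟨ψ, hψ, by rw [map_add, q2, q1, zero_add]⟩

/-- **TV (2)(i)**: two different points with a common neighbour are adjacent. -/
theorem adj_of_near [Finite V] (h : Sys ρ Om) (hb : Big ρ Om) {y y' : V} (hy : y ∈ Om)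
    (hy' : y' ∈ Om) (hne : y ≠ y') (hnear : Near ρ Om y y') : Adj ρ y y' := by
  by_contra hn
  obtain ⟨v, hv, a1, h2⟩ := hnear
  have h1 := h.symm hy hv a1
  have hn' : ¬ Adj ρ y' y := fun e => hn (h.symm hy' hy e)
  have hrad : y + y' ∈ rad ρ Om := by
    intro u hu χ hχ
    rw [map_add]
    rcases z2 (χ y) with e1 | e1 <;> rcases z2 (χ y') with e2 | e2
    · rw [e1, e2, add_zero]
    · exact (h.core' hb hy' hy hv hu hn' h2 h1 hχ e2 e1).elim
    · exact (h.core' hb hy hy' hv hu hn h1 h2 hχ e1 e2).elim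
    · rw [e1, e2]; exact z2_add_self 1
  obtain ⟨κ, hκ0, hκ, k1⟩ := hb v hv y
  have k2 : κ y' = 0 := by rw [← h.agree hy hy' hv hn h1 h2 hκ, k1]
  have f1 := h.fn_of_adj hv hy h1 hκ k1
  have f2 := h.fn_of_adj hv hy' h2 hκ k2
  exact add_ne_zero_of_ne hne (h.no_rad_centre hy hrad f1 (f1.addc f2) hκ0)

end Sys

end Cfsg.Agent.Omega.TV

end

section


/-!
# THEOREM TV (2)(ii): one nontrivial transvection for every centre

helper895, OMEGA / II.d, paper text bb #13722.  The invariant alternating form `f`, and: if `r`,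
`p`, `r + p` are pairwise orthogonal points, every two different points with a common neighbour
have their sum in `Om`.
-/

namespace Cfsg.Agent.Omega.TV

open Module

variable {H : Type*} [Group H] {V : Type*} [AddCommGroup V] [Module (ZMod 2) V]
  {ρ : H →* (V ≃ₗ[ZMod 2] V)} {Om : Set V}

namespace Sys

/-- Every centre has at most one nontrivial induced transvection. -/
def Small (ρ : H →* (V ≃ₗ[ZMod 2] V)) (Om : Set V) : Prop :=
  ∀ r ∈ Om, ∀ φ ψ, Fn ρ r φ → Fn ρ r ψ → φ ≠ 0 → ψ ≠ 0 → φ = ψ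

theorem small_or_big (h : Sys ρ Om) : Small ρ Om ∨ Big ρ Om := by
  by_cases hs : Small ρ Om
  · exact Or.inl hs
  right
  unfold Small at hs
  push Not at hs
  obtain ⟨r, hr, φ, ψ, h1, h2, h3, h4, h5⟩ := hs
  exact h.big_of hr h1 h2 h3 h4 h5

end Sys

/-- The alternating form of the small case. -/
structure Frm (ρ : H →* (V ≃ₗ[ZMod 2] V)) (Om : Set V)
    (f : V →ₗ[ZMod 2] V →ₗ[ZMod 2] ZMod 2) : Prop where
  ne : ∀ r ∈ Om, f r ≠ 0
  fn : ∀ r ∈ Om, Fn ρ r (f r)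
  uniq : ∀ r ∈ Om, ∀ φ, φ ≠ 0 → Fn ρ r φ → φ = f r
  comm : ∀ x y, f x y = f y x
  alt : ∀ x, f x x = 0
  inv : ∀ (g : H) x y, f (ρ g x) (ρ g y) = f x y

theorem Sys.exists_form [Finite V] (h : Sys ρ Om) (hs : Sys.Small ρ Om) :
    ∃ f : V →ₗ[ZMod 2] V →ₗ[ZMod 2] ZMod 2, Frm ρ Om f := by
  classical
  have hex : ∀ r : V, ∃ φ : Dual (ZMod 2) V, r ∈ Om → φ ≠ 0 ∧ Fn ρ r φ := by
    intro r
    by_cases hr : r ∈ Om
    · obtain ⟨φ, h1, h2⟩ := h.exists_fn hr
      exact ⟨φ, fun _ => ⟨h1, h2⟩⟩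
    · exact ⟨0, fun e => absurd e hr⟩
  choose ph hph using hex
  have hsym1 : ∀ r ∈ Om, ∀ s ∈ Om, ph r s = 1 → ph s r = 1 := by
    intro r hr s hs' e
    obtain ⟨φ, hφ, h1⟩ := h.symm hr hs' ⟨ph r, (hph r hr).2, e⟩
    have hne : φ ≠ 0 := by
      rintro rfl
      simp at h1
    rw [← hs s hs' φ (ph s) hφ (hph s hs').2 hne (hph s hs').1]
    exact h1
  have hsym : ∀ r ∈ Om, ∀ s ∈ Om, ph r s = ph s r := by
    intro r hr s hs'
    rcases z2 (ph r s) with e | e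
    · rcases z2 (ph s r) with e' | e'
      · rw [e, e']
      · rw [hsym1 s hs' r hr e', e']
    · rw [e, hsym1 r hr s hs' e]
  let Ψ : (Om →₀ ZMod 2) →ₗ[ZMod 2] V := Finsupp.linearCombination (ZMod 2) (Subtype.val : Om → V)
  let Φ : (Om →₀ ZMod 2) →ₗ[ZMod 2] Dual (ZMod 2) V :=
    Finsupp.linearCombination (ZMod 2) (fun r : Om => ph r)
  have hsurj : LinearMap.range Ψ = ⊤ := by
    rw [Finsupp.range_linearCombination, Subtype.range_val]
    exact h.span
  have hkey : ∀ a, ∀ s ∈ Om, (Φ a) s = ph s (Ψ a) := by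
    intro a s hs'
    have hlin : (LinearMap.applyₗ s) ∘ₗ Φ = (ph s) ∘ₗ Ψ := by
      refine Finsupp.lhom_ext' fun r => LinearMap.ext_ring ?_
      simp only [LinearMap.comp_apply, Finsupp.lsingle_apply, Ψ, Φ,
        Finsupp.linearCombination_single, one_smul, LinearMap.applyₗ_apply_apply]
      exact hsym r r.2 s hs'
    exact LinearMap.congr_fun hlin a
  obtain ⟨σ, hσ⟩ := Ψ.exists_rightInverse_of_surjective hsurj
  have hσ' : ∀ x, Ψ (σ x) = x := fun x => LinearMap.congr_fun hσ x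
  let f : V →ₗ[ZMod 2] V →ₗ[ZMod 2] ZMod 2 := Φ ∘ₗ σ
  have hf1 : ∀ x, ∀ s ∈ Om, f x s = ph s x := by
    intro x s hs'
    show (Φ (σ x)) s = _
    rw [hkey _ s hs', hσ']
  have hf2 : ∀ r ∈ Om, f r = ph r := by
    intro r hr
    refine LinearMap.ext_on h.span fun s hs' => ?_
    rw [hf1 r s hs', hsym s hs' r hr]
  have hcomm : ∀ x y, f x y = f y x := by
    intro x y
    have : f x = f.flip x := by
      refine LinearMap.ext_on h.span fun s hs' => ?_
      rw [hf1 x s hs', LinearMap.flip_apply, hf2 s hs']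
    calc f x y = f.flip x y := by rw [this]
      _ = f y x := rfl
  refine ⟨f, ?_, ?_, ?_, hcomm, ?_, ?_⟩
  · intro r hr
    rw [hf2 r hr]
    exact (hph r hr).1
  · intro r hr
    rw [hf2 r hr]
    exact (hph r hr).2
  · intro r hr φ hne hφ
    rw [hf2 r hr]
    exact hs r hr φ (ph r) hφ (hph r hr).2 hne (hph r hr).1
  · intro x
    have hmem : x ∈ Submodule.span (ZMod 2) Om := by rw [h.span]; trivial
    induction hmem using Submodule.span_induction with
    | mem x hx => rw [hf2 x hx]; exact (hph x hx).2.1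
    | zero => simp
    | add x y _ _ hx hy =>
      simp only [map_add, LinearMap.add_apply, hx, hy, hcomm y x, zero_add, add_zero]
      exact z2_add_self _
    | smul a x _ hx => simp [hx]
  · intro g x y
    have hlin : (f.flip (ρ g y)) ∘ₗ (ρ g : V ≃ₗ[ZMod 2] V).toLinearMap = f.flip y := by
      refine LinearMap.ext_on h.span fun r hr => ?_
      have hgr := h.inv g r hr
      show f (ρ g r) (ρ g y) = f r y
      rw [hf2 _ hgr, hf2 r hr]
      have h1 := (hph r hr).2.conj g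
      have h2 : (ph r) ∘ₗ (ρ g⁻¹ : V ≃ₗ[ZMod 2] V).toLinearMap ≠ 0 := by
        intro e
        obtain ⟨t, _, ht⟩ := h.exists_one (hph r hr).1
        have := LinearMap.congr_fun e (ρ g t)
        simp [ht] at this
      rw [← hs _ hgr _ _ h1 (hph _ hgr).2 h2 (hph _ hgr).1]
      simp
    exact LinearMap.congr_fun hlin x

namespace Frm

variable {f : V →ₗ[ZMod 2] V →ₗ[ZMod 2] ZMod 2}

theorem adj_iff (hf : Frm ρ Om f) {r s : V} (hr : r ∈ Om) : Adj ρ r s ↔ f r s = 1 := by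
  constructor
  · rintro ⟨φ, hφ, h1⟩
    have hne : φ ≠ 0 := by
      rintro rfl
      simp at h1
    rw [← hf.uniq r hr φ hne hφ]
    exact h1
  · intro e
    exact ⟨f r, hf.fn r hr, e⟩

theorem add_mem (h : Sys ρ Om) (hf : Frm ρ Om f) {r s : V} (hr : r ∈ Om) (hs : s ∈ Om)
    (e : f r s = 1) : r + s ∈ Om := by
  rw [add_comm]
  exact h.add_mem hs ((hf.adj_iff hr).2 e)

/-- The set `Om_0` with respect to the hyperbolic line `⟨r, u⟩`. -/
structure Z (Om : Set V) (f : V →ₗ[ZMod 2] V →ₗ[ZMod 2] ZMod 2) (r u x : V) : Prop where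
  ne : x ≠ 0
  pr : f r x = 0
  pu : f u x = 0
  mem : r + x ∈ Om

section

variable {r u x y p q : V}

theorem Z.mem3 (h : Sys ρ Om) (hf : Frm ρ Om f) (_hr : r ∈ Om) (hu : u ∈ Om) (e : f r u = 1)
    (hx : Z Om f r u x) : u + (r + x) ∈ Om :=
  hf.add_mem h hu hx.mem (by rw [map_add, hf.comm u r, e, hx.pu, add_zero])

theorem Z.memu (h : Sys ρ Om) (hf : Frm ρ Om f) (hr : r ∈ Om) (hu : u ∈ Om) (e : f r u = 1)
    (hx : Z Om f r u x) : u + x ∈ Om := by
  have h1 := hf.add_mem h hr (hx.mem3 h hf hr hu e)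
    (by rw [map_add, e, map_add, hf.alt, hx.pr, add_zero, add_zero])
  have e1 : r + (u + (r + x)) = u + x := by
    calc r + (u + (r + x)) = u + x + (r + r) := by abel
      _ = u + x := by rw [v_add_self, add_zero]
  rwa [e1] at h1

theorem Z.of_memu (h : Sys ρ Om) (hf : Frm ρ Om f) (hr : r ∈ Om) (hu : u ∈ Om) (e : f r u = 1)
    (hne : x ≠ 0) (h1 : f r x = 0) (h2 : f u x = 0) (hm : u + x ∈ Om) : Z Om f r u x := by
  refine ⟨hne, h1, h2, ?_⟩
  have h3 := hf.add_mem h hr hm (by rw [map_add, e, h1, add_zero])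
  have h4 := hf.add_mem h hu h3
    (by rw [map_add, map_add, hf.comm u r, e, hf.alt, h2, add_zero, add_zero])
  have e1 : u + (r + (u + x)) = r + x := by
    calc u + (r + (u + x)) = r + x + (u + u) := by abel
      _ = r + x := by rw [v_add_self, add_zero]
  rwa [e1] at h4

theorem Z.add (h : Sys ρ Om) (hf : Frm ρ Om f) (hr : r ∈ Om) (hu : u ∈ Om) (e : f r u = 1)
    (hx : Z Om f r u x) (hy : Z Om f r u y) (h0 : f x y = 0) (hne : x ≠ y) :
    Z Om f r u (x + y) := by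
  refine ⟨add_ne_zero_of_ne hne, by rw [map_add, hx.pr, hy.pr, add_zero],
    by rw [map_add, hx.pu, hy.pu, add_zero], ?_⟩
  have h1 := hf.add_mem h hx.mem (hy.memu h hf hr hu e) (by
    simp only [map_add, LinearMap.add_apply, e, hf.comm x u, hx.pu, hy.pr, h0, add_zero])
  have h2 := hf.add_mem h hu h1 (by
    simp only [map_add, hf.comm u r, e, hx.pu, hf.alt, hy.pu, add_zero])
  have e1 : u + (r + x + (u + y)) = r + (x + y) := by
    calc u + (r + x + (u + y)) = r + (x + y) + (u + u) := by abel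
      _ = r + (x + y) := by rw [v_add_self, add_zero]
  rwa [e1] at h2

theorem Z.mem_of (h : Sys ρ Om) (hf : Frm ρ Om f)
    (hx : Z Om f r u x) (hy : Z Om f r u y) (h1 : f x y = 1) : x + y ∈ Om := by
  have h2 := hf.add_mem h hx.mem hy.mem (by
    simp only [map_add, LinearMap.add_apply, hf.alt, hf.comm x r, hx.pr, hy.pr, h1, add_zero,
      zero_add])
  have e1 : r + x + (r + y) = x + y := by
    calc r + x + (r + y) = x + y + (r + r) := by abel
      _ = x + y := by rw [v_add_self, add_zero]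
  rwa [e1] at h2

theorem Z.add_mem' (h : Sys ρ Om) (hf : Frm ρ Om f)
    (hx : Z Om f r u x) (hy : y ∈ Om) (p1 : f r y = 0) (p2 : f u y = 0) (h1 : f x y = 1) :
    Z Om f r u (x + y) := by
  refine ⟨?_, by rw [map_add, hx.pr, p1, add_zero], by rw [map_add, hx.pu, p2, add_zero], ?_⟩
  · intro e0
    have h2 : f (x + y) y = 1 := by rw [map_add, LinearMap.add_apply, h1, hf.alt, add_zero]
    rw [e0, map_zero, LinearMap.zero_apply] at h2
    exact zero_ne_one h2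
  · have h2 := hf.add_mem h hx.mem hy (by rw [map_add, LinearMap.add_apply, p1, h1, zero_add])
    rwa [add_assoc] at h2

/-- (A). -/
theorem Z.memA (h : Sys ρ Om) (hf : Frm ρ Om f)
    (hx : Z Om f r u x) (hq : Z Om f r u q) (hqm : q ∈ Om) (h1 : f x q = 1) : x ∈ Om := by
  have h2 := hx.mem_of h hf hq h1
  have h3 := hf.add_mem h h2 hqm (by rw [map_add, LinearMap.add_apply, h1, hf.alt, add_zero])
  rwa [add_add_self] at h3

/-- Decomposition of a point with respect to the hyperbolic line: the part in `H^⊥` is a point,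
zero or in `Om_0`. -/
theorem Z.decomp (h : Sys ρ Om) (hf : Frm ρ Om f) (hr : r ∈ Om) (hu : u ∈ Om) (e : f r u = 1)
    {w : V} (hw : w ∈ Om) : ∃ x, f r x = 0 ∧ f u x = 0 ∧ (∀ y, f r y = 0 → f u y = 0 →
      f x y = f w y) ∧ (x = w ∨ x = 0 ∨ Z Om f r u x) := by
  have e' : f u r = 1 := by rw [hf.comm, e]
  rcases z2 (f u w) with a | a <;> rcases z2 (f r w) with b | b
  · exact ⟨w, b, a, fun _ _ _ => rfl, Or.inl rfl⟩
  · -- w = u + x
    refine ⟨u + w, by rw [map_add, e, b, z2_add_self], by rw [map_add, hf.alt, a, add_zero],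
      fun y _ h2 => by rw [map_add, LinearMap.add_apply, h2, zero_add], Or.inr ?_⟩
    by_cases h0 : u + w = 0
    · exact Or.inl h0
    · refine Or.inr (Z.of_memu h hf hr hu e h0 (by rw [map_add, e, b, z2_add_self])
        (by rw [map_add, hf.alt, a, add_zero]) ?_)
      rw [self_add_add]; exact hw
  · -- w = r + x
    refine ⟨r + w, by rw [map_add, hf.alt, b, add_zero], by rw [map_add, e', a, z2_add_self],
      fun y h1 _ => by rw [map_add, LinearMap.add_apply, h1, zero_add], Or.inr ?_⟩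
    by_cases h0 : r + w = 0
    · exact Or.inl h0
    · refine Or.inr ⟨h0, by rw [map_add, hf.alt, b, add_zero], by rw [map_add, e', a, z2_add_self],
        ?_⟩
      rw [self_add_add]; exact hw
  · -- w = r + u + x
    refine ⟨r + (u + w), by rw [map_add, map_add, hf.alt, e, b, z2_add_self, add_zero],
      by rw [map_add, map_add, e', hf.alt, a, zero_add, z2_add_self],
      fun y h1 h2 => by
        rw [map_add, LinearMap.add_apply, map_add, LinearMap.add_apply, h1, h2, zero_add, zero_add],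
      Or.inr ?_⟩
    by_cases h0 : r + (u + w) = 0
    · exact Or.inl h0
    · refine Or.inr ⟨h0, by rw [map_add, map_add, hf.alt, e, b, z2_add_self, add_zero],
        by rw [map_add, map_add, e', hf.alt, a, zero_add, z2_add_self], ?_⟩
      rw [self_add_add]
      exact hf.add_mem h hu hw a

/-- (C): no element of `Om_0` is orthogonal to `Om_0`. -/
theorem Z.exists_one (h : Sys ρ Om) (hf : Frm ρ Om f) (hr : r ∈ Om) (hu : u ∈ Om) (e : f r u = 1)
    (hx : Z Om f r u x) : ∃ y, Z Om f r u y ∧ f x y = 1 := by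
  by_contra hcon
  push Not at hcon
  have h0 : ∀ y, Z Om f r u y → f x y = 0 := fun y hy => z2_ne_one (hcon y hy)
  have h1 : ∀ w ∈ Om, f x w = 0 := by
    intro w hw
    obtain ⟨y, p1, p2, p3, p4⟩ := Z.decomp h hf hr hu e hw
    have e1 : f x w = f x y := by
      rw [hf.comm x w, hf.comm x y, p3 x hx.pr hx.pu]
    rcases p4 with rfl | rfl | hz
    · by_contra hne
      have h2 := z2_ne_zero hne
      have h3 := hx.add_mem' h hf hw p1 p2 h2
      have h4 := h0 _ h3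
      rw [map_add, hf.alt, h2, zero_add] at h4
      exact one_ne_zero h4
    · rw [e1, map_zero]
    · rw [e1, h0 y hz]
  have hfx : f x = 0 := h.eq_zero_of h1
  have hrad : x ∈ Sys.rad ρ Om := by
    intro s hs φ hφ
    by_cases hne : φ = 0
    · rw [hne]; rfl
    · rw [hf.uniq s hs φ hne hφ, hf.comm, h1 s hs]
  have k1 := hf.fn r hr
  have k2 := hf.fn _ hx.mem
  rw [map_add, hfx, add_zero] at k2
  have k3 := k1.addc k2
  rw [self_add_add] at k3
  exact hx.ne (h.no_rad_centre hr hrad k1 k3 (hf.ne r hr))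

/-- (D) with `p` orthogonal to `u`. -/
theorem memD (h : Sys ρ Om) (hf : Frm ρ Om f) (hr : r ∈ Om) (hu : u ∈ Om) (e : f r u = 1)
    (hp : p ∈ Om) (hpr : f r p = 0) (hpu : f u p = 0) (hrp : r + p ∈ Om)
    (hx : Z Om f r u x) : x ∈ Om := by
  have hpz : Z Om f r u p := ⟨h.ne_zero hp, hpr, hpu, hrp⟩
  -- (B)
  obtain ⟨y, hy, hpy⟩ : ∃ y, Z Om f r u y ∧ f p y = 1 := hpz.exists_one h hf hr hu e
  have hym : y ∈ Om := hy.memA h hf hpz hp (by rw [hf.comm]; exact hpy)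
  by_cases h1 : f x p = 1
  · exact hx.memA h hf hpz hp h1
  by_cases h2 : f x y = 1
  · exact hx.memA h hf hy hym h2
  obtain ⟨t, ht, hxt⟩ := hx.exists_one h hf hr hu e
  by_cases h3 : f t p = 1
  · exact hx.memA h hf ht (ht.memA h hf hpz hp h3) hxt
  by_cases h4 : f t y = 1
  · exact hx.memA h hf ht (ht.memA h hf hy hym h4) hxt
  have h2' := z2_ne_one h2
  have h3' := z2_ne_one h3
  have h4' := z2_ne_one h4
  have hne : t ≠ y := by
    rintro rfl
    exact h2 hxt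
  have hty := ht.add h hf hr hu e hy h4' hne
  have hym' : t + y ∈ Om := hty.memA h hf hpz hp (by
    rw [map_add, LinearMap.add_apply, h3', zero_add, hf.comm]; exact hpy)
  exact hx.memA h hf hty hym' (by rw [map_add, hxt, h2', add_zero])

end

/-- **TV (2)(ii)** for one point `r`. -/
theorem add_mem_of_near (h : Sys ρ Om) (hf : Frm ρ Om f) {r p b u : V} (hr : r ∈ Om) (hp : p ∈ Om)
    (hrp : r + p ∈ Om) (hpr : f r p = 0) (hb : b ∈ Om) (hne : r ≠ b) (hu : u ∈ Om)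
    (hru : f r u = 1) (hub : f u b = 1) : r + b ∈ Om := by
  by_cases hrb : f r b = 1
  · exact hf.add_mem h hr hb hrb
  have hrb' := z2_ne_one hrb
  have hz : Z Om f r u (r + b) := by
    refine ⟨add_ne_zero_of_ne hne, by rw [map_add, hf.alt, hrb', add_zero],
      by rw [map_add, hf.comm u r, hru, hub, z2_add_self], by rw [self_add_add]; exact hb⟩
  rcases z2 (f u p) with hup | hup
  · exact memD h hf hr hu hru hp hpr hup hrp hz
  · refine memD h hf hr hu hru (p := r + p) hrp ?_ ?_ ?_ hz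
    · rw [map_add, hf.alt, hpr, add_zero]
    · rw [map_add, hf.comm u r, hru, hup, z2_add_self]
    · rw [self_add_add]; exact hp

/-- **TV (2)(ii)**. -/
theorem add_mem_of_near' [Finite V] (h : Sys ρ Om) (hf : Frm ρ Om f) {r p : V} (hr : r ∈ Om)
    (hp : p ∈ Om) (hrp : r + p ∈ Om) (hpr : f r p = 0) :
    ∀ b ∈ Om, ∀ c ∈ Om, Sys.Near ρ Om b c → b ≠ c → b + c ∈ Om := by
  intro b hb c hc hn hne
  obtain ⟨g, hg⟩ := h.trans r hr b hb
  obtain ⟨u, hu, h1, h2⟩ := hn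
  refine add_mem_of_near h hf (p := ρ g p) hb (h.inv g p hp) ?_ ?_ hc hne hu
    ((hf.adj_iff hb).1 h1) ((hf.adj_iff hu).1 h2)
  · rw [← hg, ← map_add]
    exact h.inv g _ hrp
  · rw [← hg, hf.inv, hpr]

end Frm

/-- **THEOREM TV (2)**: `r`, `p`, `r + p` are points and some nontrivial induced transvection with
centre `r` fixes `p`; then sums of different points with a common neighbour are points. -/
theorem Sys.add_mem_of_near [Finite V] (h : Sys ρ Om) {r p : V} (hr : r ∈ Om) (hp : p ∈ Om)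
    (hrp : r + p ∈ Om) {φ : Dual (ZMod 2) V} (hφ : Fn ρ r φ) (hne : φ ≠ 0) (h0 : φ p = 0) :
    ∀ b ∈ Om, ∀ c ∈ Om, Sys.Near ρ Om b c → b ≠ c → b + c ∈ Om := by
  rcases h.small_or_big with hs | hb
  · obtain ⟨f, hf⟩ := h.exists_form hs
    refine hf.add_mem_of_near' h hr hp hrp ?_
    rw [← hf.uniq r hr φ hne hφ]
    exact h0
  · intro b hb' c hc hn hbc
    exact add_comm c b ▸ h.add_mem hc (h.adj_of_near hb hb' hc hbc hn)

/-- **Corollary (TV2)**: under the hypotheses of TV (2) there is no nonzero fixed vector. -/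
theorem Sys.eq_zero_of_fixed [Finite V] (h : Sys ρ Om) {r p : V} (hr : r ∈ Om) (hp : p ∈ Om)
    (hrp : r + p ∈ Om) {φ : Dual (ZMod 2) V} (hφ : Fn ρ r φ) (hne : φ ≠ 0) (h0 : φ p = 0)
    {v : V} (hv : ∀ g : H, ρ g v = v) : v = 0 := by
  have hb := h.rad_eq_bot_of (h.add_mem_of_near hr hp hrp hφ hne h0)
  have hmem : v ∈ Sys.rad ρ Om := by
    intro s hs ψ hψ
    obtain ⟨_, g, hg⟩ := hψ
    have h1 := hg v
    rw [hv g] at h1
    have h2 : ψ v • s = 0 := by simpa using h1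
    rcases smul_eq_zero.1 h2 with h3 | h3
    · exact h3
    · exact absurd h3 (h.ne_zero hs)
  rw [hb] at hmem
  simpa using hmem

end Cfsg.Agent.Omega.TV

end

section


/-!
# The conjugation representation over `𝔽₂` on an elementary abelian subgroup

helper895, OMEGA / II.d.  `EA N h` is the subgroup `N` with `x * x = 1`, written additively, as an
`𝔽₂`-module; `crep` the action of a subgroup `C` normalizing `N`.
-/

namespace Cfsg.Agent.Omega.TV

open Module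

variable {G : Type*} [Group G]

/-- The elementary abelian subgroup `N`, additively. -/
def EA (N : Subgroup G) (_h : ∀ x ∈ N, x * x = 1) : Type _ := Additive N

namespace EA

variable {N : Subgroup G} {h : ∀ x ∈ N, x * x = 1}

theorem comm_of {N : Subgroup G} (h : ∀ x ∈ N, x * x = 1) {a b : G} (ha : a ∈ N) (hb : b ∈ N) :
    a * b = b * a := by
  have h1 := h _ (N.mul_mem ha hb)
  have h2 := h a ha
  have h3 := h b hb
  have ha' : a⁻¹ = a := inv_eq_of_mul_eq_one_left h2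
  have hb' : b⁻¹ = b := inv_eq_of_mul_eq_one_left h3
  have h4 : (a * b)⁻¹ = a * b := inv_eq_of_mul_eq_one_left h1
  rw [mul_inv_rev, ha', hb'] at h4
  exact h4.symm

instance : AddCommGroup (EA N h) :=
  { (inferInstance : AddGroup (Additive N)) with
    add_comm := by
      rintro ⟨a, ha⟩ ⟨b, hb⟩
      exact congrArg Additive.ofMul (Subtype.ext (comm_of h ha hb)) }

instance : Module (ZMod 2) (EA N h) :=
  AddCommGroup.zmodModule (n := 2) (by
    intro x
    rw [two_nsmul]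
    exact congrArg Additive.ofMul (Subtype.ext (h _ (Additive.toMul x : N).2)))

instance [Finite G] : Finite (EA N h) := inferInstanceAs (Finite N)

/-- The element of `G`. -/
def val (a : EA N h) : G := ((Additive.toMul (a : Additive N) : N) : G)

/-- The vector of an element of `N`. -/
def mk (h : ∀ x ∈ N, x * x = 1) (x : G) (hx : x ∈ N) : EA N h := Additive.ofMul (⟨x, hx⟩ : N)

theorem val_mem (a : EA N h) : a.val ∈ N := (Additive.toMul (a : Additive N) : N).2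

@[simp] theorem val_mk {x : G} (hx : x ∈ N) : (mk h x hx).val = x := rfl

@[simp] theorem mk_val (a : EA N h) : mk h a.val a.val_mem = a := rfl

theorem ext {a b : EA N h} (e : a.val = b.val) : a = b :=
  congrArg Additive.ofMul (Subtype.ext e)

theorem val_inj {a b : EA N h} : a.val = b.val ↔ a = b := ⟨ext, fun e => e ▸ rfl⟩

@[simp] theorem val_add (a b : EA N h) : (a + b).val = a.val * b.val := rfl

@[simp] theorem val_zero : (0 : EA N h).val = 1 := rfl

theorem val_eq_one {a : EA N h} : a.val = 1 ↔ a = 0 := by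
  rw [← val_zero (h := h), val_inj]

theorem val_smul (c : ZMod 2) (a : EA N h) : (c • a).val = 1 ∨ (c • a).val = a.val := by
  rcases z2 c with rfl | rfl
  · left; rw [zero_smul]; rfl
  · right; rw [one_smul]

/-- The conjugation representation. -/
def crep (h : ∀ x ∈ N, x * x = 1) (C : Subgroup G) (hC : ∀ c ∈ C, ∀ n ∈ N, c * n * c⁻¹ ∈ N) :
    C →* (EA N h ≃ₗ[ZMod 2] EA N h) where
  toFun g :=
    { ((AddMonoidHom.toZModLinearMap 2
        ({ toFun := fun a => mk h ((g : G) * a.val * (g : G)⁻¹) (hC g g.2 _ a.val_mem)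
           map_zero' := by
            apply ext
            simp
           map_add' := by
            intro a b
            apply ext
            simp only [val_mk, val_add]
            group } : EA N h →+ EA N h)) : EA N h →ₗ[ZMod 2] EA N h) with
      invFun := fun a => mk h ((g : G)⁻¹ * a.val * (g : G)) (by
        have := hC _ (C.inv_mem g.2) _ a.val_mem
        simpa using this)
      left_inv := by
        intro a
        apply ext
        show (g : G)⁻¹ * ((g : G) * a.val * (g : G)⁻¹) * (g : G) = a.val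
        group
      right_inv := by
        intro a
        apply ext
        show (g : G) * ((g : G)⁻¹ * a.val * (g : G)) * (g : G)⁻¹ = a.val
        group }
  map_one' := by
    ext a
    apply ext
    show ((1 : C) : G) * a.val * ((1 : C) : G)⁻¹ = a.val
    simp
  map_mul' := by
    intro g g'
    ext a
    apply ext
    show ((g * g' : C) : G) * a.val * ((g * g' : C) : G)⁻¹
      = (g : G) * ((g' : G) * a.val * (g' : G)⁻¹) * (g : G)⁻¹
    rw [Subgroup.coe_mul]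
    group

@[simp] theorem val_crep {C : Subgroup G} {hC : ∀ c ∈ C, ∀ n ∈ N, c * n * c⁻¹ ∈ N} (g : C)
    (a : EA N h) : (crep h C hC g a).val = (g : G) * a.val * (g : G)⁻¹ := rfl

end EA

end Cfsg.Agent.Omega.TV

end

section


/-!
# THEOREM TV (2) inside a group

helper895, OMEGA / II.d, paper text bb #13722.  `C` acts by conjugation on the elementary abelian
group `N`, generated by the `C`-conjugates of `r`; `GSys` gives `TV.Sys` for the representation
`EA.crep`, and `eq_one_of_fixed` is the group form of `Sys.eq_zero_of_fixed`.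
-/

namespace Cfsg.Agent.Omega.TV

open Module

/-- A map which is `x ↦ x` or `x ↦ x + r` pointwise is a transvection (or trivial). -/
theorem exists_functional {V : Type*} [AddCommGroup V] [Module (ZMod 2) V] (g : V ≃ₗ[ZMod 2] V)
    {r : V} (hr : r ≠ 0) (hg : ∀ x, g x = x ∨ g x = x + r) :
    ∃ φ : Dual (ZMod 2) V, ∀ x, g x = x + φ x • r := by
  classical
  let F : V → ZMod 2 := fun x => if g x = x then 0 else 1
  have hF0 : ∀ x, g x = x → F x = 0 := fun x e => if_pos e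
  have hF1 : ∀ x, g x = x + r → F x = 1 := by
    intro x e
    refine if_neg fun e' => hr ?_
    rw [e'] at e
    simpa using e
  have hadd : ∀ x y, F (x + y) = F x + F y := by
    intro x y
    rcases hg x with a | a <;> rcases hg y with b | b
    · rw [hF0 x a, hF0 y b, hF0 (x + y) (by rw [map_add, a, b]), add_zero]
    · rw [hF0 x a, hF1 y b, hF1 (x + y) (by rw [map_add, a, b, add_assoc]), zero_add]
    · rw [hF1 x a, hF0 y b, hF1 (x + y) (by rw [map_add, a, b]; abel), add_zero]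
    · rw [hF1 x a, hF1 y b, hF0 (x + y) (by
        rw [map_add, a, b]
        calc x + r + (y + r) = x + y + (r + r) := by abel
          _ = x + y := by rw [v_add_self, add_zero])]
      exact (z2_add_self 1).symm
  let φ : Dual (ZMod 2) V := AddMonoidHom.toZModLinearMap 2
    ({ toFun := F, map_zero' := hF0 0 (map_zero g), map_add' := hadd } : V →+ ZMod 2)
  refine ⟨φ, fun x => ?_⟩
  have hφ : φ x = F x := rfl
  rcases hg x with a | a
  · rw [hφ, hF0 x a, zero_smul, add_zero, a]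
  · rw [hφ, hF1 x a, one_smul, a]

variable {G : Type*} [Group G]

/-- The subgroup of a submodule of `EA N h`. -/
def EA.toSub {N : Subgroup G} {h : ∀ x ∈ N, x * x = 1} (U : Submodule (ZMod 2) (EA N h)) :
    Subgroup G where
  carrier := {x | ∃ a ∈ U, EA.val a = x}
  one_mem' := ⟨0, U.zero_mem, rfl⟩
  mul_mem' := by
    rintro _ _ ⟨a, ha, rfl⟩ ⟨b, hb, rfl⟩
    exact ⟨a + b, U.add_mem ha hb, rfl⟩
  inv_mem' := by
    rintro _ ⟨a, ha, rfl⟩
    refine ⟨a, ha, ?_⟩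
    have := h a.val a.val_mem
    exact (inv_eq_of_mul_eq_one_left this).symm

theorem EA.mem_toSub {N : Subgroup G} {h : ∀ x ∈ N, x * x = 1} {U : Submodule (ZMod 2) (EA N h)}
    {x : G} : x ∈ EA.toSub U ↔ ∃ a ∈ U, EA.val a = x := Iff.rfl

theorem EA.val_mem_toSub {N : Subgroup G} {h : ∀ x ∈ N, x * x = 1}
    {U : Submodule (ZMod 2) (EA N h)} {a : EA N h} : a.val ∈ EA.toSub U ↔ a ∈ U := by
  constructor
  · rintro ⟨b, hb, e⟩
    rwa [← EA.ext e]
  · intro ha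
    exact ⟨a, ha, rfl⟩

/-- The group data of THEOREM TV: `C` acts on the elementary abelian group `N = ⟨r^C⟩`. -/
structure GSys (C N : Subgroup G) (r : G) : Prop where
  sq : ∀ x ∈ N, x * x = 1
  nor : ∀ c ∈ C, ∀ n ∈ N, c * n * c⁻¹ ∈ N
  mem : r ∈ N
  ne : r ≠ 1
  gen : N ≤ Subgroup.closure {x | ∃ c ∈ C, x = c * r * c⁻¹}
  chain : ∀ U : Subgroup G, U ≤ N → (∀ c ∈ C, ∀ u ∈ U, c * u * c⁻¹ ∈ U) →
    ∀ c ∈ C, (∀ u ∈ U, c * u * c⁻¹ = u) → (∀ n ∈ N, c * n * c⁻¹ * n⁻¹ ∈ U) →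
      ∀ n ∈ N, c * n * c⁻¹ = n

namespace GSys

variable {C N : Subgroup G} {r : G} (h : GSys C N r)

include h

/-- The representation. -/
noncomputable def rep : C →* (EA N h.sq ≃ₗ[ZMod 2] EA N h.sq) := EA.crep h.sq C h.nor

/-- The points. -/
def pts : Set (EA N h.sq) := {a | ∃ c ∈ C, a.val = c * r * c⁻¹}

@[simp] theorem val_rep (g : C) (a : EA N h.sq) :
    (h.rep g a).val = (g : G) * a.val * (g : G)⁻¹ := rfl

theorem inv_eq {x : G} (hx : x ∈ N) : x⁻¹ = x := inv_eq_of_mul_eq_one_left (h.sq x hx)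

theorem mem_pts_r : EA.mk h.sq r h.mem ∈ h.pts := ⟨1, C.one_mem, by simp⟩

/-- A nontrivial transvection `t` with centre `r` gives a functional. -/
theorem exists_fn {s t : G} (hs : s ∈ N) (hs1 : s ≠ 1) (ht : t ∈ C)
    (htn : ∀ n ∈ N, t * n * t⁻¹ = n ∨ t * n * t⁻¹ = n * s) :
    ∃ φ : Dual (ZMod 2) (EA N h.sq), (∀ a, h.rep ⟨t, ht⟩ a = a + φ a • EA.mk h.sq s hs) ∧
      Fn h.rep (EA.mk h.sq s hs) φ := by
  have hr : EA.mk h.sq s hs ≠ 0 := fun e => hs1 (EA.val_eq_one.2 e)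
  obtain ⟨φ, hφ⟩ := exists_functional (h.rep ⟨t, ht⟩) hr (fun a => by
    rcases htn a.val a.val_mem with e | e
    · exact Or.inl (EA.ext e)
    · exact Or.inr (EA.ext e))
  refine ⟨φ, hφ, ?_, ⟨t, ht⟩, hφ⟩
  by_contra hne
  have h1 := hφ (EA.mk h.sq s hs)
  rw [z2_ne_zero hne, one_smul, v_add_self] at h1
  have h2 : (h.rep ⟨t, ht⟩).toLinearMap (EA.mk h.sq s hs) = 0 := h1
  exact hr ((h.rep ⟨t, ht⟩).map_eq_zero_iff.1 h2)

theorem toSys {t : G} (ht : t ∈ C) (htn : ∀ n ∈ N, t * n * t⁻¹ = n ∨ t * n * t⁻¹ = n * r)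
    (hne : ∃ n ∈ N, t * n * t⁻¹ ≠ n) : Sys h.rep h.pts where
  zero := by
    rintro ⟨c, _, e⟩
    have e' : (1 : G) = c * r * c⁻¹ := e
    exact h.ne (conj_eq_one_iff.1 e'.symm)
  inv := by
    rintro g a ⟨c, hc, e⟩
    refine ⟨g * c, C.mul_mem g.2 hc, ?_⟩
    rw [h.val_rep, e]
    group
  trans := by
    rintro a ⟨c, hc, e⟩ b ⟨d, hd, e'⟩
    refine ⟨⟨d * c⁻¹, C.mul_mem hd (C.inv_mem hc)⟩, EA.ext ?_⟩
    rw [h.val_rep, e, e']
    group
  span := by
    rw [eq_top_iff]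
    rintro a -
    have key : ∀ x ∈ Subgroup.closure {x | ∃ c ∈ C, x = c * r * c⁻¹}, ∃ hx : x ∈ N,
        EA.mk h.sq x hx ∈ Submodule.span (ZMod 2) h.pts := by
      intro x hx
      induction hx using Subgroup.closure_induction with
      | mem x hx =>
        obtain ⟨c, hc, rfl⟩ := hx
        exact ⟨h.nor c hc r h.mem, Submodule.subset_span ⟨c, hc, rfl⟩⟩
      | one => exact ⟨N.one_mem, Submodule.zero_mem _⟩
      | mul x y _ _ hx hy =>
        obtain ⟨hx, ex⟩ := hx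
        obtain ⟨hy, ey⟩ := hy
        exact ⟨N.mul_mem hx hy, Submodule.add_mem _ ex ey⟩
      | inv x _ hx =>
        obtain ⟨hx, ex⟩ := hx
        refine ⟨N.inv_mem hx, ?_⟩
        have e : EA.mk h.sq x⁻¹ (N.inv_mem hx) = EA.mk h.sq x hx := EA.ext (h.inv_eq hx)
        rw [e]
        exact ex
    exact (key a.val (h.gen a.val_mem)).2
  ex := by
    obtain ⟨φ, hφ, hfn⟩ := h.exists_fn h.mem h.ne ht htn
    refine ⟨_, h.mem_pts_r, φ, ?_, hfn⟩
    rintro rfl
    obtain ⟨n, hn, e⟩ := hne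
    apply e
    have h1 := hφ (EA.mk h.sq n hn)
    rw [LinearMap.zero_apply, zero_smul, add_zero] at h1
    exact congrArg EA.val h1
  chain := by
    intro U hU g h1 h2 v
    apply EA.ext
    rw [h.val_rep]
    refine h.chain (EA.toSub U) ?_ ?_ g g.2 ?_ ?_ v.val v.val_mem
    · rintro _ ⟨a, _, rfl⟩
      exact a.val_mem
    · rintro c hc _ ⟨a, ha, rfl⟩
      exact ⟨_, hU ⟨c, hc⟩ a ha, rfl⟩
    · rintro _ ⟨a, ha, rfl⟩
      exact congrArg EA.val (h1 a ha)
    · intro n hn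
      have h3 := h2 (EA.mk h.sq n hn)
      refine ⟨_, h3, ?_⟩
      rw [EA.val_add, h.val_rep, EA.val_mk, h.inv_eq hn]

/-- **Group form of TV (2), corollary**: if some transvection `t` with centre `r` centralizes the
conjugate `p` of `r` and `r * p` is a conjugate of `r` too, then `C_N(C) = 1`. -/
theorem eq_one_of_fixed [Finite G] {p t : G} (ht : t ∈ C)
    (htn : ∀ n ∈ N, t * n * t⁻¹ = n ∨ t * n * t⁻¹ = n * r) (hne : ∃ n ∈ N, t * n * t⁻¹ ≠ n)
    (hp : ∃ c ∈ C, p = c * r * c⁻¹) (hrp : ∃ c ∈ C, r * p = c * r * c⁻¹)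
    (htp : t * p * t⁻¹ = p) {v : G} (hv : v ∈ N) (hfix : ∀ c ∈ C, c * v * c⁻¹ = v) : v = 1 := by
  have hsys := h.toSys ht htn hne
  obtain ⟨c, hc, rfl⟩ := hp
  obtain ⟨d, hd, hd'⟩ := hrp
  have hpN : c * r * c⁻¹ ∈ N := h.nor c hc r h.mem
  obtain ⟨φ, hφ, hfn⟩ := h.exists_fn h.mem h.ne ht htn
  have hne' : φ ≠ 0 := by
    rintro rfl
    obtain ⟨n, hn, e⟩ := hne
    apply e
    have h1 := hφ (EA.mk h.sq n hn)
    rw [LinearMap.zero_apply, zero_smul, add_zero] at h1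
    exact congrArg EA.val h1
  have h0 : φ (EA.mk h.sq _ hpN) = 0 := by
    by_contra hcon
    have h1 := hφ (EA.mk h.sq _ hpN)
    rw [z2_ne_zero hcon, one_smul] at h1
    have h2 := congrArg EA.val h1
    rw [h.val_rep, EA.val_add, EA.val_mk, EA.val_mk] at h2
    have h3 : t * (c * r * c⁻¹) * t⁻¹ = c * r * c⁻¹ * r := h2
    rw [htp] at h3
    exact h.ne (by simpa using h3)
  have hfix' : ∀ g : C, h.rep g (EA.mk h.sq v hv) = EA.mk h.sq v hv := fun g =>
    EA.ext (hfix g g.2)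
  have := hsys.eq_zero_of_fixed h.mem_pts_r (p := EA.mk h.sq _ hpN) ⟨c, hc, rfl⟩
    ⟨d, hd, hd'⟩ hfn hne' h0 hfix'
  exact EA.val_eq_one.2 this

end GSys

end Cfsg.Agent.Omega.TV

end

section


/-!
# THEOREM TV: one class of points (`d = 1` of bb #12430, #12999, #13722)

helper304.  `Clo`: the classes of `Near` together with `0` are subspaces (output of TV (2)).
`near_all`: if a 2-group `S` fixes (modulo a radical, see `π`) only `0` and the point `r`, all points lie in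
the class of `r`; `all_mem`: then every vector `≠ 0` is a point.
-/

set_option autoImplicit false

namespace Cfsg.Agent.Omega.TV

open Module

variable {H : Type*} [Group H] {V : Type*} [AddCommGroup V] [Module (ZMod 2) V]
  {ρ : H →* (V ≃ₗ[ZMod 2] V)} {Om : Set V}

namespace Sys

/-- The classes of points, together with `0`, are closed under addition. -/
def Clo (ρ : H →* (V ≃ₗ[ZMod 2] V)) (Om : Set V) : Prop :=
  ∀ b ∈ Om, ∀ c ∈ Om, Near ρ Om b c → b ≠ c → b + c ∈ Om ∧ Near ρ Om b (b + c)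

theorem Near.conj (h : Sys ρ Om) {a b : V} (hn : Near ρ Om a b) (g : H) : Near ρ Om (ρ g a) (ρ g b) := by
  obtain ⟨v, hv, h1, h2⟩ := hn
  exact ⟨ρ g v, h.inv g v hv, h1.conj g, h2.conj g⟩

variable [Finite V]

/-- The output of TV (2) is enough for `Clo`. -/
theorem clo_of (h : Sys ρ Om)
    (hadd : ∀ b ∈ Om, ∀ c ∈ Om, Near ρ Om b c → b ≠ c → b + c ∈ Om) : Clo ρ Om := by
  intro b hb c hc hn hne
  have hm := hadd b hb c hc hn hne
  refine ⟨hm, ?_⟩
  obtain ⟨v, hv, ha⟩ := h.exists_adj hm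
  obtain ⟨φ, hφ, h1⟩ := h.symm hm hv ha
  rw [map_add] at h1
  have hvm : Adj ρ v (b + c) := ⟨φ, hφ, by rw [map_add]; exact h1⟩
  by_cases h2 : φ b = 1
  · exact ⟨v, hv, h.symm hv hb ⟨φ, hφ, h2⟩, hvm⟩
  · rw [z2_ne_one h2, zero_add] at h1
    exact h.near_trans hb hc hm hn ⟨v, hv, h.symm hv hc ⟨φ, hφ, h1⟩, hvm⟩

/-- The class of `r`, together with `0`. -/
def cls (h : Sys ρ Om) (hc : Clo ρ Om) {r : V} (hr : r ∈ Om) : Submodule (ZMod 2) V where
  carrier := {x | x = 0 ∨ (x ∈ Om ∧ Near ρ Om r x)}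
  zero_mem' := Or.inl rfl
  add_mem' := by
    rintro a b (rfl | ⟨ha, hra⟩) (rfl | ⟨hb, hrb⟩)
    · exact Or.inl (add_zero 0)
    · rw [zero_add]; exact Or.inr ⟨hb, hrb⟩
    · rw [add_zero]; exact Or.inr ⟨ha, hra⟩
    · by_cases hab : a = b
      · subst hab; exact Or.inl (v_add_self a)
      · have h1 := h.near_trans ha hr hb (h.near_symm hr ha hra) hrb
        obtain ⟨h2, h3⟩ := hc a ha b hb h1 hab
        exact Or.inr ⟨h2, h.near_trans hr ha h2 hra h3⟩
  smul_mem' := by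
    intro c x hx
    rcases z2 c with rfl | rfl
    · rw [zero_smul]; exact Or.inl rfl
    · rwa [one_smul]

theorem mem_cls (h : Sys ρ Om) (hc : Clo ρ Om) {r x : V} (hr : r ∈ Om) :
    x ∈ h.cls hc hr ↔ x = 0 ∨ (x ∈ Om ∧ Near ρ Om r x) := Iff.rfl

/-- If all points lie in the class of `r`, every vector different from `0` is a point. -/
theorem all_mem (h : Sys ρ Om) (hc : Clo ρ Om) {r : V} (hr : r ∈ Om)
    (hall : ∀ w ∈ Om, Near ρ Om r w) {v : V} (hv : v ≠ 0) : v ∈ Om := by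
  have h1 : Submodule.span (ZMod 2) Om ≤ h.cls hc hr :=
    Submodule.span_le.2 fun w hw => Or.inr ⟨hw, hall w hw⟩
  have h2 : v ∈ h.cls hc hr := h1 (by rw [h.span]; trivial)
  rcases (h.mem_cls hc hr).1 h2 with h3 | h3
  · exact absurd h3 hv
  · exact h3.1

/-- In every class there is a point fixed by the stabiliser (in the 2-group `S`) of the class. -/
theorem exists_fixed (h : Sys ρ Om) (hc : Clo ρ Om) {S : Subgroup H} (hS : IsPGroup 2 S) {w : V}
    (hw : w ∈ Om) : ∃ y ∈ Om, Near ρ Om w y ∧ ∀ s ∈ S, Near ρ Om y (ρ s y) → ρ s y = y := by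
  let K : Subgroup S :=
    { carrier := {s | Near ρ Om w (ρ (s : H) w)}
      one_mem' := by
        show Near ρ Om w (ρ ((1 : S) : H) w)
        rw [Subgroup.coe_one, rone]
        exact h.near_refl hw
      mul_mem' := by
        intro s t hs ht
        show Near ρ Om w (ρ ((s * t : S) : H) w)
        rw [Subgroup.coe_mul, rmul]
        exact h.near_trans hw (h.inv _ w hw) (h.inv _ _ (h.inv _ w hw)) hs (Near.conj h ht (s : H))
      inv_mem' := by
        intro s hs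
        show Near ρ Om w (ρ ((s⁻¹ : S) : H) w)
        have h1 := Near.conj h (show Near ρ Om w (ρ (s : H) w) from hs) ((s : H)⁻¹)
        rw [rinv] at h1
        rw [Subgroup.coe_inv]
        exact h.near_symm (h.inv _ w hw) hw h1 }
  have hK : ∀ s : K, ∀ x ∈ h.cls hc hw, ρ ((s : S) : H) x ∈ h.cls hc hw := by
    intro s x hx
    rcases (h.mem_cls hc hw).1 hx with rfl | ⟨h1, h2⟩
    · rw [map_zero]; exact (h.cls hc hw).zero_mem
    · exact Or.inr ⟨h.inv _ x h1,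
        h.near_trans hw (h.inv _ w hw) (h.inv _ x h1) s.2 (Near.conj h h2 _)⟩
  let _act : MulAction K (h.cls hc hw) :=
    { smul := fun s x => ⟨ρ ((s : S) : H) x, hK s x x.2⟩
      one_smul := fun x => Subtype.ext (by
        show ρ (((1 : K) : S) : H) (x : V) = x
        rw [Subgroup.coe_one, Subgroup.coe_one, rone])
      mul_smul := fun s t x => Subtype.ext (by
        show ρ (((s * t : K) : S) : H) (x : V) = ρ ((s : S) : H) (ρ ((t : S) : H) x)
        rw [Subgroup.coe_mul, Subgroup.coe_mul, rmul]) }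
  have hKp : IsPGroup 2 K := hS.to_subgroup K
  have hw1 : w ∈ h.cls hc hw := Or.inr ⟨hw, h.near_refl hw⟩
  have hcard : 2 ∣ Nat.card (h.cls hc hw) := by
    have h1 : addOrderOf (⟨w, hw1⟩ : h.cls hc hw) = 2 := by
      refine addOrderOf_eq_prime ?_ ?_
      · rw [two_nsmul]
        exact Subtype.ext (v_add_self w)
      · intro h0
        exact h.ne_zero hw (congrArg Subtype.val h0)
    have h2 := addOrderOf_dvd_natCard (⟨w, hw1⟩ : h.cls hc hw)
    rwa [h1] at h2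
  have h0 : (0 : h.cls hc hw) ∈ MulAction.fixedPoints K (h.cls hc hw) := by
    intro s
    exact Subtype.ext (map_zero _)
  obtain ⟨y, hy, hne⟩ := hKp.exists_fixed_point_of_prime_dvd_card_of_fixed_point _ hcard h0
  have hy0 : (y : V) ≠ 0 := fun e => hne (Subtype.ext e.symm)
  obtain ⟨hyO, hwy⟩ := ((h.mem_cls hc hw).1 y.2).resolve_left hy0
  refine ⟨y, hyO, hwy, fun s hs hn => ?_⟩
  have h2 : Near ρ Om w (ρ s w) :=
    h.near_trans hw hyO (h.inv _ w hw) hwy (h.near_trans hyO (h.inv _ _ hyO) (h.inv _ w hw) hn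
      (Near.conj h (h.near_symm hw hyO hwy) s))
  have h3 : (⟨⟨s, hs⟩, h2⟩ : K) • y = y := hy ⟨⟨s, hs⟩, h2⟩
  exact congrArg Subtype.val h3

variable {N : Type*} [AddCommGroup N] [Module (ZMod 2) N] [Finite N]

/-- **`d = 1`**: `π : N → V` equivariant for the 2-group `S`, `OmN` a set of unique representatives of the
points.  If every vector of `N` fixed by `S` is mapped to `0` or `r`, all points lie in the class of `r`. -/
theorem near_all_lift (h : Sys ρ Om) (hc : Clo ρ Om) {S : Subgroup H} (hS : IsPGroup 2 S)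
    (ρN : H →* (N ≃ₗ[ZMod 2] N)) (π : N →ₗ[ZMod 2] V) (hπ : ∀ g : H, ∀ n : N, π (ρN g n) = ρ g (π n))
    {OmN : Set N} (hinv : ∀ s ∈ S, ∀ z ∈ OmN, ρN s z ∈ OmN) (hinj : Set.InjOn π OmN)
    (hsurj : ∀ v ∈ Om, ∃ z ∈ OmN, π z = v) {r : V} (hr : r ∈ Om)
    (hfix : ∀ n : N, (∀ s ∈ S, ρN s n = n) → π n = 0 ∨ π n = r) : ∀ w ∈ Om, Near ρ Om r w := by
  classical
  intro w hw
  by_contra hcon
  obtain ⟨y, hy, hwy, hst⟩ := h.exists_fixed hc hS hw
  have hry : ¬ Near ρ Om r y := fun hn => hcon (h.near_trans hr hy hw hn (h.near_symm hw hy hwy))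
  obtain ⟨y₀, hy₀, hπy⟩ := hsurj y hy
  have : Fintype N := Fintype.ofFinite N
  let O : Finset N := Finset.univ.filter fun z => ∃ s ∈ S, z = ρN s y₀
  have hO : ∀ z, z ∈ O ↔ ∃ s ∈ S, z = ρN s y₀ := fun z => by simp [O]
  let σ : N := ∑ z ∈ O, z
  have hσ : ∀ s ∈ S, ρN s σ = σ := by
    intro s hs
    have h1 : ρN s σ = ∑ z ∈ O, ρN s z := map_sum _ _ _
    have h2 : O.image (fun z => ρN s z) = O := by
      refine Finset.eq_of_subset_of_card_le ?_ ?_
      · intro z hz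
        obtain ⟨x, hx, rfl⟩ := Finset.mem_image.1 hz
        obtain ⟨t, ht, rfl⟩ := (hO x).1 hx
        exact (hO _).2 ⟨s * t, S.mul_mem hs ht, by rw [map_mul]; rfl⟩
      · rw [Finset.card_image_of_injective _ (ρN s).injective]
    rw [h1, ← Finset.sum_image (f := fun z => z) (g := fun z => ρN s z)
      (fun a _ b _ hab => (ρN s).injective hab), h2]
  obtain ⟨a, ha, hya⟩ := h.exists_adj hy
  obtain ⟨φ, hφ, h1⟩ := h.symm hy ha hya
  have hφσ : φ (π σ) = 1 := by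
    have h2 : φ (π σ) = ∑ z ∈ O, φ (π z) := by rw [map_sum, map_sum]
    rw [h2, Finset.sum_eq_single y₀]
    · rw [hπy, h1]
    · intro z hz hne
      obtain ⟨s, hs, rfl⟩ := (hO z).1 hz
      refine z2_ne_one fun e => hne ?_
      rw [hπ, hπy] at e
      have h3 : Near ρ Om y (ρ s y) := ⟨a, ha, hya, φ, hφ, e⟩
      refine hinj (hinv s hs _ hy₀) hy₀ ?_
      rw [hπ, hπy]
      exact hst s hs h3
    · intro hn
      exact absurd ((hO _).2 ⟨1, S.one_mem, by rw [map_one]; rfl⟩) hn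
  have hφr : φ r = 0 := z2_ne_one fun e =>
    hry (h.near_symm hy hr ⟨a, ha, hya, φ, hφ, e⟩)
  rcases hfix σ hσ with h2 | h2
  · rw [h2, map_zero] at hφσ
    exact zero_ne_one hφσ
  · rw [h2, hφr] at hφσ
    exact zero_ne_one hφσ

omit N in
/-- **`d = 1`**, plain form. -/
theorem near_all (h : Sys ρ Om) (hc : Clo ρ Om) {S : Subgroup H} (hS : IsPGroup 2 S) {r : V}
    (hr : r ∈ Om) (hfix : ∀ v : V, (∀ s ∈ S, ρ s v = v) → v = 0 ∨ v = r) :
    ∀ w ∈ Om, Near ρ Om r w :=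
  h.near_all_lift hc hS ρ LinearMap.id (fun _ _ => rfl) (OmN := Om) (fun s _ z hz => h.inv s z hz)
    (fun _ _ _ _ e => e) (fun v hv => ⟨v, hv, rfl⟩) hr hfix

end Sys

end Cfsg.Agent.Omega.TV

end

section


/-!
# LEMMA T, component form, without the condition that the orbit of `r` spans the module

`SysW ρ Om` = helper895's `TV.Sys` without `span` (277's repair, #17250 (i)): a functional of an induced transvection
which vanishes on `Om` is zero.  The statements up to `big_cls` are those of `TV/Basic`, `TV/Big`, `TV/One`,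
`HTwo/TLin` (helper895, helper304, helper972).
-/

set_option autoImplicit false

namespace Cfsg.Agent.Omega.TV

open Module

variable {H : Type*} [Group H] {V : Type*} [AddCommGroup V] [Module (ZMod 2) V]
  {ρ : H →* (V ≃ₗ[ZMod 2] V)} {Om : Set V}

/-- The setting of THEOREM TV without `span`. -/
structure SysW (ρ : H →* (V ≃ₗ[ZMod 2] V)) (Om : Set V) : Prop where
  zero : (0 : V) ∉ Om
  inv : ∀ (g : H), ∀ r ∈ Om, ρ g r ∈ Om
  trans : ∀ r ∈ Om, ∀ s ∈ Om, ∃ g : H, ρ g r = s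
  ex : ∃ r ∈ Om, ∃ φ, φ ≠ 0 ∧ Fn ρ r φ
  chain : ∀ U : Submodule (ZMod 2) V, (∀ (g : H), ∀ u ∈ U, ρ g u ∈ U) →
    ∀ g : H, (∀ u ∈ U, ρ g u = u) → (∀ v, ρ g v + v ∈ U) → ∀ v, ρ g v = v

namespace SysW

open Sys (Near rad Big Clo)

section basic

variable (h : SysW ρ Om)

include h

theorem ne_zero {r : V} (hr : r ∈ Om) : r ≠ 0 := fun e => h.zero (e ▸ hr)

/-- 277's repair -/
theorem eq_zero_of {r : V} (hr : r ∈ Om) {φ : Dual (ZMod 2) V} (hF : Fn ρ r φ) (hφ : ∀ s ∈ Om, φ s = 0) :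
    φ = 0 := by
  obtain ⟨-, g, hg⟩ := hF
  have h0 : ∀ u ∈ Submodule.span (ZMod 2) Om, φ u = 0 := by
    intro u hu
    have h1 : Submodule.span (ZMod 2) Om ≤ LinearMap.ker φ :=
      Submodule.span_le.2 fun s hs => LinearMap.mem_ker.2 (hφ s hs)
    exact LinearMap.mem_ker.1 (h1 hu)
  have h1 := h.chain (Submodule.span (ZMod 2) Om) ?_ g (fun u hu => by
    rw [hg, h0 u hu, zero_smul, add_zero]) (fun v => by
    rw [hg, add_comm v, add_add_self]
    exact Submodule.smul_mem _ _ (Submodule.subset_span hr))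
  · refine LinearMap.ext fun v => ?_
    rw [LinearMap.zero_apply]
    refine z2_ne_one fun e => ?_
    have h2 := h1 v
    rw [hg, e, one_smul] at h2
    exact h.ne_zero hr (by simpa using h2)
  · intro k u hu
    have h2 : Submodule.span (ZMod 2) Om ≤ (Submodule.span (ZMod 2) Om).comap
        ((ρ k : V ≃ₗ[ZMod 2] V).toLinearMap) :=
      Submodule.span_le.2 fun s hs => Submodule.subset_span (h.inv k s hs)
    exact h2 hu

theorem exists_one {r : V} (hr : r ∈ Om) {φ : Dual (ZMod 2) V} (hF : Fn ρ r φ) (hφ : φ ≠ 0) :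
    ∃ s ∈ Om, φ s = 1 := by
  by_contra hcon
  push Not at hcon
  exact hφ (h.eq_zero_of hr hF fun s hs => z2_ne_one (hcon s hs))

theorem exists_fn {r : V} (hr : r ∈ Om) : ∃ φ, φ ≠ 0 ∧ Fn ρ r φ := by
  obtain ⟨s, hs, φ, hne, hφ⟩ := h.ex
  obtain ⟨g, hg⟩ := h.trans s hs r hr
  refine ⟨_, ?_, hg ▸ hφ.conj g⟩
  obtain ⟨t, _, ht⟩ := h.exists_one hs hφ hne
  intro h0
  have := LinearMap.congr_fun h0 (ρ g t)
  simp [rinv, ht] at this

theorem exists_adj {r : V} (hr : r ∈ Om) : ∃ s ∈ Om, Adj ρ r s := by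
  obtain ⟨φ, hne, hφ⟩ := h.exists_fn hr
  obtain ⟨s, hs, h1⟩ := h.exists_one hr hφ hne
  exact ⟨s, hs, φ, hφ, h1⟩

theorem add_mem {r s : V} (hs : s ∈ Om) (ha : Adj ρ r s) : s + r ∈ Om := by
  obtain ⟨φ, ⟨_, g, hg⟩, h1⟩ := ha
  have := h.inv g s hs
  rwa [hg, h1, one_smul] at this

theorem symm [Finite V] {r s : V} (hr : r ∈ Om) (hs : s ∈ Om) (ha : Adj ρ r s) : Adj ρ s r := by
  have : Finite (Dual (ZMod 2) V) := Finite.of_injective (fun f : Dual (ZMod 2) V => (f : V → ZMod 2))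
    DFunLike.coe_injective
  obtain ⟨φ, hφ, h1⟩ := ha
  by_contra hcon
  have h0 : ∀ ψ, Fn ρ s ψ → ψ r = 0 := fun ψ hψ => z2_ne_one fun e => hcon ⟨ψ, hψ, e⟩
  have hsub : {ψ | Fn ρ s ψ} ⊆ {ψ | Fn ρ r ψ} := by
    intro ψ hψ
    have e1 := Fn.cc (show Fn ρ s ψ from hψ) hφ
    rw [h1, one_smul, h0 ψ hψ, zero_smul, add_zero] at e1
    have e2 := e1.addc (show Fn ρ s ψ from hψ)
    rwa [add_comm s r, add_add_self] at e2
  have hcard : {ψ | Fn ρ r ψ}.ncard ≤ {ψ | Fn ρ s ψ}.ncard := by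
    obtain ⟨g, hg⟩ := h.trans r hr s hs
    refine Set.ncard_le_ncard_of_injOn
      (fun ψ => ψ ∘ₗ (ρ g⁻¹ : V ≃ₗ[ZMod 2] V).toLinearMap) ?_ ?_ (Set.toFinite _)
    · intro ψ hψ
      exact hg ▸ Fn.conj (show Fn ρ r ψ from hψ) g
    · intro ψ _ ψ' _ he
      ext x
      have := LinearMap.congr_fun he (ρ g x)
      simpa [rinv] using this
  have heq := Set.eq_of_subset_of_ncard_le hsub hcard (Set.toFinite _)
  have : φ ∈ {ψ | Fn ρ s ψ} := by rw [heq]; exact hφ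
  have h2 : φ s = 0 := (show Fn ρ s φ from this).1
  rw [h1] at h2
  exact one_ne_zero h2

/-- `T_r* ∩ s^⊥ ≤ T_s*` for adjacent `r`, `s`. -/
theorem fn_of_adj [Finite V] {r s : V} (hr : r ∈ Om) (hs : s ∈ Om) (ha : Adj ρ r s)
    {ψ : Dual (ZMod 2) V} (hψ : Fn ρ r ψ) (h0 : ψ s = 0) : Fn ρ s ψ := by
  obtain ⟨φ, hφ, h1⟩ := h.symm hr hs ha
  have e1 := Fn.cc hψ hφ
  rw [h1, one_smul, h0, zero_smul, add_zero] at e1
  have e2 := e1.addc hψ
  rwa [add_comm r s, add_add_self] at e2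

theorem near_of_adj [Finite V] {r s : V} (hr : r ∈ Om) (hs : s ∈ Om) (ha : Adj ρ r s) :
    Near ρ Om r s := by
  obtain ⟨φ, hφ, h1⟩ := ha
  obtain ⟨ψ, hψ, h2⟩ := h.symm hr hs ⟨φ, hφ, h1⟩
  have hm : s + r ∈ Om := h.add_mem hs ⟨φ, hφ, h1⟩
  refine ⟨s + r, hm, ⟨φ, hφ, by rw [map_add, h1, hφ.1, add_zero]⟩, ?_⟩
  exact h.symm hs hm ⟨ψ, hψ, by rw [map_add, hψ.1, h2, zero_add]⟩

theorem near_refl [Finite V] {r : V} (hr : r ∈ Om) : Near ρ Om r r := by
  obtain ⟨s, hs, ha⟩ := h.exists_adj hr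
  exact ⟨s, hs, ha, h.symm hr hs ha⟩

theorem near_symm [Finite V] {r s : V} (hr : r ∈ Om) (hs : s ∈ Om) (hn : Near ρ Om r s) :
    Near ρ Om s r := by
  obtain ⟨v, hv, h1, h2⟩ := hn
  exact ⟨v, hv, h.symm hv hs h2, h.symm hr hv h1⟩

theorem near_three [Finite V] {a u v b : V} (ha : a ∈ Om) (hu : u ∈ Om) (hv : v ∈ Om) (hb : b ∈ Om)
    (h1 : Adj ρ a u) (h2 : Adj ρ u v) (h3 : Adj ρ v b) : Near ρ Om a b := by
  by_cases h4 : Adj ρ a v
  · exact ⟨v, hv, h4, h3⟩
  by_cases h5 : Adj ρ u b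
  · exact ⟨u, hu, h1, h5⟩
  have hm : v + u ∈ Om := h.add_mem hv h2
  obtain ⟨φ, hφ, e1⟩ := h1
  have e2 : φ v = 0 := z2_ne_one fun e => h4 ⟨φ, hφ, e⟩
  obtain ⟨ψ, hψ, e3⟩ := h.symm hv hb h3
  have e4 : ψ u = 0 := z2_ne_one fun e => h5 (h.symm hb hu ⟨ψ, hψ, e⟩)
  refine ⟨v + u, hm, ⟨φ, hφ, by rw [map_add, e2, e1, zero_add]⟩, h.symm hb hm
    ⟨ψ, hψ, by rw [map_add, e3, e4, add_zero]⟩⟩

theorem near_trans [Finite V] {a b c : V} (ha : a ∈ Om) (hb : b ∈ Om) (hc : c ∈ Om)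
    (h1 : Near ρ Om a b) (h2 : Near ρ Om b c) : Near ρ Om a c := by
  obtain ⟨v, hv, e1, e2⟩ := h1
  obtain ⟨w, hw, e3, e4⟩ := h2
  obtain ⟨x, hx, e5, e6⟩ := h.near_three ha hv hb hw e1 e2 e3
  exact h.near_three ha hx hw hc e5 e6 e4

/-- (al): the functionals of a common neighbour agree on two nonadjacent points. -/
theorem agree [Finite V] {a b v : V} (ha : a ∈ Om) (hb : b ∈ Om) (hv : v ∈ Om)
    (hn : ¬ Adj ρ a b) (h1 : Adj ρ v a) (h2 : Adj ρ v b) {ψ : Dual (ZMod 2) V} (hψ : Fn ρ v ψ) :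
    ψ a = ψ b := by
  rcases z2 (ψ a) with e1 | e1 <;> rcases z2 (ψ b) with e2 | e2
  · rw [e1, e2]
  · exact absurd ⟨ψ, h.fn_of_adj hv ha h1 hψ e1, e2⟩ hn
  · exact absurd (h.symm hb ha ⟨ψ, h.fn_of_adj hv hb h2 hψ e2, e1⟩) hn
  · rw [e1, e2]

theorem rad_inv (g : H) {x : V} (hx : x ∈ rad ρ Om) : ρ g x ∈ rad ρ Om := by
  intro r hr φ hφ
  have h1 := hx (ρ g⁻¹ r) (h.inv _ r hr) _ (hφ.conj g⁻¹)
  simpa using h1

/-- A vector `c` of the radical is not the centre of an induced transvection whose functional is a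
functional of a point. -/
theorem no_rad_centre {c r : V} (hr : r ∈ Om) (hc : c ∈ rad ρ Om) {κ : Dual (ZMod 2) V}
    (h1 : Fn ρ r κ) (h2 : Fn ρ c κ) (hκ : κ ≠ 0) : c = 0 := by
  obtain ⟨_, g, hg⟩ := h2
  have h3 := h.chain (rad ρ Om) (fun g u hu => h.rad_inv g hu) g
    (fun u hu => by rw [hg, hu r hr κ h1, zero_smul, add_zero])
    (fun v => by
      rw [hg, add_comm v, add_add_self]
      exact (rad ρ Om).smul_mem _ hc)
  obtain ⟨s, _, hs⟩ := h.exists_one hr h1 hκ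
  have h4 := h3 s
  rw [hg, hs, one_smul] at h4
  simpa using h4

end basic

theorem big_of (h : SysW ρ Om) {r : V} (hr : r ∈ Om) {φ ψ : Dual (ZMod 2) V} (hφ : Fn ρ r φ)
    (hψ : Fn ρ r ψ) (h1 : φ ≠ 0) (h2 : ψ ≠ 0) (h3 : φ ≠ ψ) : Big ρ Om := by
  intro t ht s
  obtain ⟨g, hg⟩ := h.trans r hr t ht
  have hinj : ∀ α β : Dual (ZMod 2) V, α ∘ₗ (ρ g⁻¹ : V ≃ₗ[ZMod 2] V).toLinearMap =
      β ∘ₗ (ρ g⁻¹ : V ≃ₗ[ZMod 2] V).toLinearMap → α = β := by
    intro α β he
    ext x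
    have := LinearMap.congr_fun he (ρ g x)
    simpa using this
  set φ' := φ ∘ₗ (ρ g⁻¹ : V ≃ₗ[ZMod 2] V).toLinearMap with hφ'
  set ψ' := ψ ∘ₗ (ρ g⁻¹ : V ≃ₗ[ZMod 2] V).toLinearMap with hψ'
  have e1 : Fn ρ t φ' := hg ▸ hφ.conj g
  have e2 : Fn ρ t ψ' := hg ▸ hψ.conj g
  have e3 : φ' ≠ 0 := fun e => h1 (hinj φ 0 (by rw [← hφ', e, LinearMap.zero_comp]))
  have e4 : ψ' ≠ 0 := fun e => h2 (hinj ψ 0 (by rw [← hψ', e, LinearMap.zero_comp]))
  have e5 : φ' ≠ ψ' := fun e => h3 (hinj φ ψ e)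
  rcases z2 (φ' s) with a | a
  · exact ⟨φ', e3, e1, a⟩
  rcases z2 (ψ' s) with b | b
  · exact ⟨ψ', e4, e2, b⟩
  refine ⟨φ' + ψ', fun e => e5 ?_, e1.add e2, ?_⟩
  · ext x
    have h4 := LinearMap.congr_fun e x
    simp only [LinearMap.add_apply, LinearMap.zero_apply] at h4
    rcases z2 (φ' x) with c | c <;> rcases z2 (ψ' x) with d | d <;> rw [c, d] at h4 ⊢ <;>
      simp at h4
  · rw [LinearMap.add_apply, a, b]
    exact z2_add_self 1

theorem core [Finite V] (h : SysW ρ Om) (hb : Big ρ Om) {y y' v u : V} {χ : Dual (ZMod 2) V}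
    (hy : y ∈ Om) (hy' : y' ∈ Om) (hv : v ∈ Om) (hu : u ∈ Om) (hn : ¬ Adj ρ y y')
    (h1 : Adj ρ v y) (h2 : Adj ρ v y') (hχ : Fn ρ u χ) (e1 : χ y = 1) (e2 : χ y' = 0)
    (huv : Adj ρ u v) : False := by
  have huy : Adj ρ u y := ⟨χ, hχ, e1⟩
  have hn' : ¬ Adj ρ u y' := by
    intro ha
    have := h.agree hy hy' hu hn huy ha hχ
    rw [e1, e2] at this
    exact one_ne_zero this
  have hvu := h.symm hu hv huv
  obtain ⟨κ, hκ0, hκ, k1⟩ := hb v hv y
  have k2 : κ y' = 0 := by rw [← h.agree hy hy' hv hn h1 h2 hκ, k1]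
  have k3 : κ u = 0 := by rw [h.agree hu hy' hv hn' hvu h2 hκ, k2]
  have f1 := h.fn_of_adj hv hy h1 hκ k1
  have f2 := h.fn_of_adj hv hy' h2 hκ k2
  have f3 := h.fn_of_adj hv hu hvu hκ k3
  obtain ⟨w, hw, hw1⟩ := h.exists_one hv hκ hκ0
  obtain ⟨φ, hφ, p1⟩ := h.symm hu hy huy
  have f4 := Fn.cc f3 hφ
  rw [p1, one_smul, f1.1, zero_smul, add_zero] at f4
  have hm : u + y ∈ Om := h.add_mem hu ⟨φ, hφ, p1⟩
  obtain ⟨ψ, hψ, q1⟩ := h.symm hm hw ⟨κ, f4, hw1⟩
  have w1 := h.symm hy hw ⟨κ, f1, hw1⟩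
  have w2 := h.symm hy' hw ⟨κ, f2, hw1⟩
  have w3 := h.symm hu hw ⟨κ, f3, hw1⟩
  have g1 := h.agree hy hy' hw hn w1 w2 hψ
  have g2 := h.agree hu hy' hw hn' w3 w2 hψ
  rw [map_add, g1, g2, z2_add_self] at q1
  exact zero_ne_one q1

theorem core' [Finite V] (h : SysW ρ Om) (hb : Big ρ Om) {y y' v u : V} {χ : Dual (ZMod 2) V}
    (hy : y ∈ Om) (hy' : y' ∈ Om) (hv : v ∈ Om) (hu : u ∈ Om) (hn : ¬ Adj ρ y y')
    (h1 : Adj ρ v y) (h2 : Adj ρ v y') (hχ : Fn ρ u χ) (e1 : χ y = 1) (e2 : χ y' = 0) :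
    False := by
  by_cases huv : Adj ρ u v
  · exact h.core hb hy hy' hv hu hn h1 h2 hχ e1 e2 huv
  have huy : Adj ρ u y := ⟨χ, hχ, e1⟩
  obtain ⟨φ, hφ, p1⟩ := h.symm hu hy huy
  have hm : u + y ∈ Om := h.add_mem hu ⟨φ, hφ, p1⟩
  have f := Fn.cc hχ hφ
  rw [p1, e1, one_smul, one_smul] at f
  have p2 : φ y' = 0 := z2_ne_one fun e => hn ⟨φ, hφ, e⟩
  obtain ⟨ψ, hψ, q1⟩ := h1
  have q2 : ψ u = 0 := z2_ne_one fun e => huv (h.symm hv hu ⟨ψ, hψ, e⟩)
  refine h.core hb hy hy' hv hm hn ⟨ψ, hψ, q1⟩ h2 f ?_ ?_ ?_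
  · rw [LinearMap.add_apply, e1, hφ.1, add_zero]
  · rw [LinearMap.add_apply, e2, p2, add_zero]
  · exact h.symm hv hm ⟨ψ, hψ, by rw [map_add, q2, q1, zero_add]⟩

/-- **TV (2)(i)**: two different points with a common neighbour are adjacent. -/
theorem adj_of_near [Finite V] (h : SysW ρ Om) (hb : Big ρ Om) {y y' : V} (hy : y ∈ Om)
    (hy' : y' ∈ Om) (hne : y ≠ y') (hnear : Near ρ Om y y') : Adj ρ y y' := by
  by_contra hn
  obtain ⟨v, hv, a1, h2⟩ := hnear
  have h1 := h.symm hy hv a1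
  have hn' : ¬ Adj ρ y' y := fun e => hn (h.symm hy' hy e)
  have hrad : y + y' ∈ rad ρ Om := by
    intro u hu χ hχ
    rw [map_add]
    rcases z2 (χ y) with e1 | e1 <;> rcases z2 (χ y') with e2 | e2
    · rw [e1, e2, add_zero]
    · exact (h.core' hb hy' hy hv hu hn' h2 h1 hχ e2 e1).elim
    · exact (h.core' hb hy hy' hv hu hn h1 h2 hχ e1 e2).elim
    · rw [e1, e2]; exact z2_add_self 1
  obtain ⟨κ, hκ0, hκ, k1⟩ := hb v hv y
  have k2 : κ y' = 0 := by rw [← h.agree hy hy' hv hn h1 h2 hκ, k1]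
  have f1 := h.fn_of_adj hv hy h1 hκ k1
  have f2 := h.fn_of_adj hv hy' h2 hκ k2
  exact add_ne_zero_of_ne hne (h.no_rad_centre hy hrad f1 (f1.addc f2) hκ0)

theorem near_conj (h : SysW ρ Om) {a b : V} (hn : Near ρ Om a b) (g : H) : Near ρ Om (ρ g a) (ρ g b) := by
  obtain ⟨v, hv, h1, h2⟩ := hn
  exact ⟨ρ g v, h.inv g v hv, h1.conj g, h2.conj g⟩

variable [Finite V]

/-- The output of TV (2) is enough for `Clo`. -/
theorem clo_of (h : SysW ρ Om)
    (hadd : ∀ b ∈ Om, ∀ c ∈ Om, Near ρ Om b c → b ≠ c → b + c ∈ Om) : Clo ρ Om := by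
  intro b hb c hc hn hne
  have hm := hadd b hb c hc hn hne
  refine ⟨hm, ?_⟩
  obtain ⟨v, hv, ha⟩ := h.exists_adj hm
  obtain ⟨φ, hφ, h1⟩ := h.symm hm hv ha
  rw [map_add] at h1
  have hvm : Adj ρ v (b + c) := ⟨φ, hφ, by rw [map_add]; exact h1⟩
  by_cases h2 : φ b = 1
  · exact ⟨v, hv, h.symm hv hb ⟨φ, hφ, h2⟩, hvm⟩
  · rw [z2_ne_one h2, zero_add] at h1
    exact h.near_trans hb hc hm hn ⟨v, hv, h.symm hv hc ⟨φ, hφ, h1⟩, hvm⟩

/-- The class of `r`, together with `0`. -/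
def cls (h : SysW ρ Om) (hc : Clo ρ Om) {r : V} (hr : r ∈ Om) : Submodule (ZMod 2) V where
  carrier := {x | x = 0 ∨ (x ∈ Om ∧ Near ρ Om r x)}
  zero_mem' := Or.inl rfl
  add_mem' := by
    rintro a b (rfl | ⟨ha, hra⟩) (rfl | ⟨hb, hrb⟩)
    · exact Or.inl (add_zero 0)
    · rw [zero_add]; exact Or.inr ⟨hb, hrb⟩
    · rw [add_zero]; exact Or.inr ⟨ha, hra⟩
    · by_cases hab : a = b
      · subst hab; exact Or.inl (v_add_self a)
      · have h1 := h.near_trans ha hr hb (h.near_symm hr ha hra) hrb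
        obtain ⟨h2, h3⟩ := hc a ha b hb h1 hab
        exact Or.inr ⟨h2, h.near_trans hr ha h2 hra h3⟩
  smul_mem' := by
    intro c x hx
    rcases z2 c with rfl | rfl
    · rw [zero_smul]; exact Or.inl rfl
    · rwa [one_smul]

theorem mem_cls (h : SysW ρ Om) (hc : Clo ρ Om) {r x : V} (hr : r ∈ Om) :
    x ∈ h.cls hc hr ↔ x = 0 ∨ (x ∈ Om ∧ Near ρ Om r x) := Iff.rfl

theorem clo_big (h : SysW ρ Om) (hb : Big ρ Om) : Clo ρ Om :=
  h.clo_of fun b hb' c hc hn hne => by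
    have := h.add_mem hb' (h.adj_of_near hb hc hb' hne.symm (h.near_symm hb' hc hn))
    exact this

theorem pt_of_mem (h : SysW ρ Om) (hc : Clo ρ Om) {r x : V} (hr : r ∈ Om) (hx : x ∈ h.cls hc hr)
    (hx0 : x ≠ 0) : x ∈ Om ∧ Near ρ Om r x := ((h.mem_cls hc hr).1 hx).resolve_left hx0

theorem self_mem_cls (h : SysW ρ Om) (hc : Clo ρ Om) {r : V} (hr : r ∈ Om) : r ∈ h.cls hc hr :=
  (h.mem_cls hc hr).2 (Or.inr ⟨hr, h.near_refl hr⟩)

/-- any two points of a component are adjacent -/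
theorem adj_cls (h : SysW ρ Om) (hb : Big ρ Om) (hc : Clo ρ Om) {r x y : V} (hr : r ∈ Om)
    (hx : x ∈ h.cls hc hr) (hx0 : x ≠ 0) (hy : y ∈ h.cls hc hr) (hy0 : y ≠ 0) (hxy : x ≠ y) :
    Adj ρ x y := by
  obtain ⟨h1, h2⟩ := h.pt_of_mem hc hr hx hx0
  obtain ⟨h3, h4⟩ := h.pt_of_mem hc hr hy hy0
  exact h.adj_of_near hb h1 h3 hxy (h.near_trans h1 hr h3 (h.near_symm hr h1 h2) h4)

/-- the component of `w` is the component of `r` -/
theorem cls_eq (h : SysW ρ Om) (hc : Clo ρ Om) {r w : V} (hr : r ∈ Om) (hw : w ∈ Om)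
    (hwr : w ∈ h.cls hc hr) {x : V} : x ∈ h.cls hc hw ↔ x ∈ h.cls hc hr := by
  obtain ⟨-, h2⟩ := h.pt_of_mem hc hr hwr (h.ne_zero hw)
  rw [h.mem_cls, h.mem_cls]
  constructor
  · rintro (h3 | ⟨h3, h4⟩)
    · exact Or.inl h3
    · exact Or.inr ⟨h3, h.near_trans hr hw h3 h2 h4⟩
  · rintro (h3 | ⟨h3, h4⟩)
    · exact Or.inl h3
    · exact Or.inr ⟨h3, h.near_trans hw hr h3 (h.near_symm hr hw h2) h4⟩

/-- the stabiliser of `r` is irreducible on `cls r / ⟨r⟩` -/
theorem irr_cls (h : SysW ρ Om) (hb : Big ρ Om) (hc : Clo ρ Om) {r : V} (hr : r ∈ Om)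
    {U : Submodule (ZMod 2) V} (hU : U ≤ h.cls hc hr) (hrU : r ∈ U)
    (hinv : ∀ g : H, ρ g r = r → ∀ u ∈ U, ρ g u ∈ U) :
    (∀ u ∈ U, u = 0 ∨ u = r) ∨ h.cls hc hr ≤ U := by
  by_contra hcon
  push Not at hcon
  obtain ⟨⟨a, ha, ha0, har⟩, hx⟩ := hcon
  obtain ⟨x, hx, hxU⟩ := Set.not_subset.1 hx
  have hac := hU ha
  have hxc : x ∈ h.cls hc hr := hx
  set c := a + x with hcdef
  have hcc : c ∈ h.cls hc hr := (h.cls hc hr).add_mem hac hxc
  have hc0 : c ≠ 0 := by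
    intro h0
    have : a = x := v_eq_of_add h0
    exact hxU (this ▸ ha)
  have hca : c ≠ a := by
    intro h0
    have h1 : x = 0 := by
      have := congrArg (a + ·) h0
      simp only [hcdef, self_add_add, v_add_self] at this
      exact this
    exact hxU (h1 ▸ U.zero_mem)
  have har' : a + r ≠ 0 := add_ne_zero_of_ne har
  have harc : a + r ∈ h.cls hc hr := (h.cls hc hr).add_mem hac (h.self_mem_cls hc hr)
  have hcar : c ≠ a + r := by
    intro h0
    have h1 : x = r := by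
      have := congrArg (a + ·) h0
      simp only [hcdef, self_add_add] at this
      exact this
    exact hxU (h1 ▸ hrU)
  obtain ⟨φ₁, f1, e1⟩ := h.adj_cls hb hc hr hcc hc0 hac ha0 hca
  obtain ⟨φ₃, f3, e3⟩ := h.adj_cls hb hc hr hcc hc0 harc har' hcar
  rw [map_add] at e3
  -- a functional of `c` with values `1` at `a` and `0` at `r`
  have key : ∃ φ, Fn ρ c φ ∧ φ a = 1 ∧ φ r = 0 := by
    rcases z2 (φ₁ r) with k | k
    · exact ⟨φ₁, f1, e1, k⟩
    rcases z2 (φ₃ r) with l | l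
    · rw [l, add_zero] at e3
      exact ⟨φ₃, f3, e3, l⟩
    · rcases z2 (φ₃ a) with m | m
      · refine ⟨φ₁ + φ₃, f1.add f3, ?_, ?_⟩
        · rw [LinearMap.add_apply, e1, m, add_zero]
        · rw [LinearMap.add_apply, k, l]; exact z2_add_self 1
      · rw [m, l, z2_add_self] at e3
        exact absurd e3 zero_ne_one
  obtain ⟨φ, ⟨-, g, hg⟩, p1, p2⟩ := key
  have h1 : ρ g r = r := by rw [hg, p2, zero_smul, add_zero]
  have h2 : ρ g a = x := by rw [hg, p1, one_smul, hcdef, self_add_add]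
  exact hxU (h2 ▸ hinv g h1 a ha)

/-- components are blocks -/
theorem blk_cls (h : SysW ρ Om) (hc : Clo ρ Om) {r w : V} (hr : r ∈ Om) (hw : w ∈ h.cls hc hr)
    (hw0 : w ≠ 0) {g : H} (hg : ρ g w ∈ h.cls hc hr) {x : V} (hx : x ∈ h.cls hc hr) :
    ρ g x ∈ h.cls hc hr := by
  rcases (h.mem_cls hc hr).1 hx with rfl | ⟨hxO, hrx⟩
  · rw [map_zero]; exact Submodule.zero_mem _
  obtain ⟨h1, h2⟩ := h.pt_of_mem hc hr hw hw0
  have hgw0 : ρ g w ≠ 0 := fun e => hw0 ((ρ g).map_eq_zero_iff.1 e)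
  obtain ⟨h3, h4⟩ := h.pt_of_mem hc hr hg hgw0
  refine (h.mem_cls hc hr).2 (Or.inr ⟨h.inv g x hxO, ?_⟩)
  have h5 : Near ρ Om w x := h.near_trans h1 hr hxO (h.near_symm hr h1 h2) hrx
  exact h.near_trans hr h3 (h.inv g x hxO) h4 (near_conj h h5 g)

/-- a neighbour of a point of the component lies in the component -/
theorem mem_cls_of_adj (h : SysW ρ Om) (hc : Clo ρ Om) {r w x : V} (hr : r ∈ Om)
    (hw : w ∈ h.cls hc hr) (hw0 : w ≠ 0) (hx : x ∈ Om) (ha : Adj ρ w x) : x ∈ h.cls hc hr := by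
  obtain ⟨h1, h2⟩ := h.pt_of_mem hc hr hw hw0
  exact (h.mem_cls hc hr).2 (Or.inr ⟨hx, h.near_trans hr h1 hx h2 (h.near_of_adj h1 hx ha)⟩)

/-- the component of `r` is not covered by two elements, if there are two functionals at `r` -/
theorem big_cls (h : SysW ρ Om) (hc : Clo ρ Om) {r : V} (hr : r ∈ Om) {φ ψ : Dual (ZMod 2) V}
    (hφ : Fn ρ r φ) (hψ : Fn ρ r ψ) (h1 : φ ≠ 0) (h2 : ψ ≠ 0) (h3 : φ ≠ ψ) (a b : V) :
    ∃ c ∈ h.cls hc hr, c ≠ 0 ∧ c ≠ a ∧ c ≠ b ∧ c ≠ a + b := by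
  classical
  have h4 : φ + ψ ≠ 0 := by
    intro h0
    refine h3 (LinearMap.ext fun x => ?_)
    have := LinearMap.congr_fun h0 x
    rw [LinearMap.add_apply, LinearMap.zero_apply] at this
    exact v_eq_of_add this
  obtain ⟨s₁, m1, e1⟩ := h.exists_one hr hφ h1
  obtain ⟨s₂, m2, e2⟩ := h.exists_one hr hψ h2
  obtain ⟨s₃, m3, e3⟩ := h.exists_one hr (hφ.add hψ) h4
  have k1 : s₁ ∈ h.cls hc hr := h.mem_cls_of_adj hc hr (h.self_mem_cls hc hr) (h.ne_zero hr) m1 ⟨φ, hφ, e1⟩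
  have k2 : s₂ ∈ h.cls hc hr := h.mem_cls_of_adj hc hr (h.self_mem_cls hc hr) (h.ne_zero hr) m2 ⟨ψ, hψ, e2⟩
  have k3 : s₃ ∈ h.cls hc hr := h.mem_cls_of_adj hc hr (h.self_mem_cls hc hr) (h.ne_zero hr) m3
    ⟨φ + ψ, hφ.add hψ, e3⟩
  rw [LinearMap.add_apply] at e3
  have key : ∃ u ∈ h.cls hc hr, ∃ v ∈ h.cls hc hr, φ u = 1 ∧ ψ u = 0 ∧ φ v = 0 ∧ ψ v = 1 := by
    rcases z2 (φ s₃) with l | l
    · rw [l, zero_add] at e3
      rcases z2 (ψ s₁) with m | m
      · exact ⟨s₁, k1, s₃, k3, e1, m, l, e3⟩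
      · refine ⟨s₁ + s₃, Submodule.add_mem _ k1 k3, s₃, k3, ?_, ?_, l, e3⟩
        · rw [map_add, e1, l, add_zero]
        · rw [map_add, m, e3, z2_add_self]
    · have l' : ψ s₃ = 0 := by
        rcases z2 (ψ s₃) with m | m
        · exact m
        · rw [l, m, z2_add_self] at e3
          exact absurd e3 zero_ne_one
      rcases z2 (φ s₂) with m | m
      · exact ⟨s₃, k3, s₂, k2, l, l', m, e2⟩
      · refine ⟨s₃, k3, s₂ + s₃, Submodule.add_mem _ k2 k3, l, l', ?_, ?_⟩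
        · rw [map_add, m, l, z2_add_self]
        · rw [map_add, e2, l', add_zero]
  obtain ⟨u, hu, v, hv, u1, u2, v1, v2⟩ := key
  have hr0 := h.ne_zero hr
  have one0 : (1 : ZMod 2) ≠ 0 := one_ne_zero
  have q1 : φ r = 0 := hφ.1
  have q2 : ψ r = 0 := hψ.1
  by_contra hcon
  push Not at hcon
  have hsub : ({r, u, v, u + v} : Finset V) ⊆ ({a, b, a + b} : Finset V) := by
    intro c hcm
    have hcc : c ∈ h.cls hc hr ∧ c ≠ 0 := by
      simp only [Finset.mem_insert, Finset.mem_singleton] at hcm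
      rcases hcm with rfl | rfl | rfl | rfl
      · exact ⟨h.self_mem_cls hc hr, hr0⟩
      · refine ⟨hu, ?_⟩
        rintro rfl
        rw [map_zero] at u1
        exact one0 u1.symm
      · refine ⟨hv, ?_⟩
        rintro rfl
        rw [map_zero] at v2
        exact one0 v2.symm
      · refine ⟨Submodule.add_mem _ hu hv, fun h0 => ?_⟩
        have := congrArg φ h0
        rw [map_add, u1, v1, map_zero, add_zero] at this
        exact one0 this
    have := hcon c hcc.1 hcc.2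
    simp only [Finset.mem_insert, Finset.mem_singleton]
    by_cases ha : c = a
    · exact Or.inl ha
    by_cases hb : c = b
    · exact Or.inr (Or.inl hb)
    · exact Or.inr (Or.inr (this ha hb))
  have hcard4 : ({r, u, v, u + v} : Finset V).card = 4 := by
    rw [Finset.card_insert_of_notMem, Finset.card_insert_of_notMem, Finset.card_insert_of_notMem,
      Finset.card_singleton]
    · rw [Finset.mem_singleton]
      intro h0
      have := congrArg φ h0
      rw [map_add, u1, v1, add_zero] at this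
      exact one0 this.symm
    · simp only [Finset.mem_insert, Finset.mem_singleton, not_or]
      refine ⟨fun h0 => ?_, fun h0 => ?_⟩
      · rw [h0, v1] at u1
        exact one0 u1.symm
      · have := congrArg ψ h0
        rw [map_add, u2, v2, zero_add] at this
        exact one0 this.symm
    · simp only [Finset.mem_insert, Finset.mem_singleton, not_or]
      refine ⟨fun h0 => ?_, fun h0 => ?_, fun h0 => ?_⟩
      · rw [h0, u1] at q1
        exact one0 q1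
      · rw [h0, v2] at q2
        exact one0 q2
      · rw [h0, map_add, u1, v1, add_zero] at q1
        exact one0 q1
  have hcard3 : ({a, b, a + b} : Finset V).card ≤ 3 := Finset.card_le_three
  have := Finset.card_le_card hsub
  omega

end SysW

end Cfsg.Agent.Omega.TV

end
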